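import Cfsg.Agent.Lib.Spor.DoubleAlt.Nine.LargeOdd

/-!
# Nine points: `U` does not have order nine

The three conjugates of `A` generate a three-group in which `⟨h⟩` is self-centralizing modulo
itself, which is absurd.
-/

set_option autoImplicit false
set_option linter.style.haveILetI false
set_option linter.unusedSectionVars false
set_option maxHeartbeats 1000000
set_option synthInstance.maxHeartbeats 400000
set_option synthInstance.maxSize 2048

open Equiv Equiv.Perm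
open scoped Pointwise

namespace Cfsg.Agent.Spor.DoubleAlt

open Nine

universe u

namespace Ctx

variable {G : Type u} [Group G] [Finite G] (K : Ctx G 0)
include K

theorem card_pow_three {H : Subgroup G} (hH : ∀ g ∈ H, g ^ 3 = 1) : ∃ n, Nat.card H = 3 ^ n := by
  haveI : Fact (Nat.Prime 3) := ⟨Nat.prime_three⟩
  exact IsPGroup.iff_card.1 (fun g => ⟨1, Subtype.ext (by simpa using hH g g.2)⟩)

variable (hU : Nat.card K.U = 9)
include hU

/-- A three-group containing the three conjugates of `A`. -/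
theorem exists_big_three : ∃ P0 : Subgroup G, IsPGroup 3 P0 ∧ (∀ g ∈ P0, Commute g K.h) ∧
    K.A ≤ P0 ∧ K.A' ≤ P0 ∧ K.A'' ≤ P0 := by
  classical
  haveI : Fact (Nat.Prime 3) := ⟨Nat.prime_three⟩
  haveI : Fact (Nat.Prime 2) := ⟨Nat.prime_two⟩
  obtain ⟨u, ⟨huU, huh⟩, hu1⟩ : ∃ u, u ∈ (K.U ⊓ Subgroup.centralizer {K.h} : Subgroup G) ∧ u ≠ 1 := by
    refine (Subgroup.bot_or_exists_ne_one _).resolve_left fun e => ?_
    have := K.U_cent_h_card hU
    rw [e, Subgroup.card_bot] at this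
    omega
  obtain ⟨hA', hA''⟩ := K.A'_norm_A2 hU huU hu1 (Subgroup.mem_centralizer_singleton_iff.1 huh)
  obtain ⟨N, hN⟩ : ∃ N, N = Subgroup.centralizer {K.h} ⊓ Subgroup.normalizer (K.A2 hU : Set G) := ⟨_, rfl⟩
  have memN : ∀ {g : G}, g ∈ N ↔ Commute g K.h ∧ g ∈ Subgroup.normalizer (K.A2 hU : Set G) := fun {g} => by
    rw [hN, Subgroup.mem_inf, Subgroup.mem_centralizer_singleton_iff]; rfl
  have hVN : K.V ≤ N := fun v hv => by
    refine memN.2 ⟨(K.V_comm hv).2.2.symm, ?_⟩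
    rcases hv with rfl | rfl | rfl | rfl
    exacts [one_mem _, K.z_norm_A2 hU, K.x_norm_A2 hU, mul_mem (K.x_norm_A2 hU) (K.z_norm_A2 hU)]
  have hAN : K.A ≤ N := fun g hg =>
    memN.2 ⟨K.A_comm hg K.h_mem, Subgroup.le_normalizer (K.A_le_A2 hU hg)⟩
  have hfus : ∀ g ∈ N, g * K.z * g⁻¹ ∈ K.V → Commute g K.z := by
    intro g hg hv
    have hc : ∀ v, g * K.z * g⁻¹ = v → Nat.card (K.A2 hU ⊓ Subgroup.centralizer {v} : Subgroup G) = 27 :=
      fun v e => by rw [← K.conj_inf_cent (memN.1 hg).2 e, Solv.card_conj_smul, K.A2_cent_z hU, K.A_card]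
    obtain ⟨h1, h2⟩ := K.A2_cent_x_card hU
    rcases hv with e | e | e | e
    · exact absurd (conj_eq_one_iff.1 e) K.z_ne
    · exact mul_inv_eq_iff_eq_mul.1 e
    · have := hc _ e; omega
    · have := hc _ e; omega
  have hAV : ∀ v ∈ K.V, v ∈ K.A → v = 1 := fun v hv hA => by
    have h := (K.mem_A.1 hA).2.1
    rwa [pow_succ, K.V_exp hv, one_mul] at h
  -- the four-group is a Sylow subgroup
  have hV2 : IsPGroup 2 K.V := IsPGroup.of_card (n := 2) (by rw [K.V_card]; norm_num)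
  obtain ⟨S, hS⟩ := (hV2.comap_subtype (K := N)).exists_le_sylow
  have hSV : (S : Subgroup N) ≤ K.V.subgroupOf N := by
    by_contra hn
    haveI := S.isPGroup'.isNilpotent
    have hlt : (K.V.subgroupOf N).subgroupOf (S : Subgroup N) < ⊤ :=
      lt_top_iff_ne_top.2 fun h => hn (Subgroup.subgroupOf_eq_top.1 h)
    obtain ⟨g, hg, hgV⟩ := SetLike.exists_of_lt (Group.normalizerCondition_of_isNilpotent _ hlt)
    have hzS : (⟨⟨K.z, hVN K.z_mem_V⟩, hS (Subgroup.mem_subgroupOf.2 K.z_mem_V)⟩ : (S : Subgroup N)) ∈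
        (K.V.subgroupOf N).subgroupOf (S : Subgroup N) := K.z_mem_V
    have hz := hfus ((g : N) : G) (g : N).2 ((Subgroup.mem_normalizer_iff.1 hg _).1 hzS)
    obtain ⟨r, hr, v, hv, e⟩ := K.cent_h_nine rfl hz (memN.1 (g : N).2).1
    have hrS : (⟨r, hAN hr⟩ : N) ∈ (S : Subgroup N) := by
      have := mul_mem g.2 (inv_mem (hS (Subgroup.mem_subgroupOf.2 hv) : (⟨v, hVN hv⟩ : N) ∈ (S : Subgroup N)))
      convert this using 1
      refine Subtype.ext ?_
      push_cast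
      rw [e, mul_inv_cancel_right]
    obtain ⟨k, hk⟩ := S.isPGroup' ⟨_, hrS⟩
    have hk' : r ^ 2 ^ k = 1 := congrArg (fun w : (S : Subgroup N) => ((w : N) : G)) hk
    have hr1 : r = 1 := orderOf_eq_one_iff.1 (Nat.eq_one_of_dvd_coprimes
      (Nat.Coprime.pow_left k (by decide : Nat.Coprime 2 3)) (orderOf_dvd_of_pow_eq_one hk')
      (orderOf_dvd_of_pow_eq_one (K.mem_A.1 hr).2.1))
    exact hgV (show ((g : N) : G) ∈ K.V by rw [e, hr1, one_mul]; exact hv)
  have hSeq : ∀ w : N, w ∈ (S : Subgroup N) ↔ (w : G) ∈ K.V := fun w => ⟨fun h => hSV h, fun h => hS h⟩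
  have hnorm : Subgroup.normalizer ((S : Subgroup N) : Set N) ≤
      Subgroup.centralizer ((S : Subgroup N) : Set N) := by
    intro y hy
    have hmap : ∀ v ∈ K.V, (y : G) * v * (y : G)⁻¹ ∈ K.V := fun v hv =>
      (hSeq _).1 ((Subgroup.mem_normalizer_iff.1 hy ⟨v, hVN hv⟩).1 ((hSeq _).2 hv))
    have hyz := hfus y y.2 (hmap _ K.z_mem_V)
    obtain ⟨r, hr, v, hv, e⟩ := K.cent_h_nine rfl hyz (memN.1 y.2).1
    have hrx : Commute r K.x := by
      have h1 : r * K.x * r⁻¹ ∈ K.V := by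
        have h := hmap _ K.x_mem_V
        rwa [e, show r * v * K.x * (r * v)⁻¹ = r * (v * K.x * v⁻¹) * r⁻¹ by group, (K.V_comm hv).2.1.eq,
          mul_inv_cancel_right] at h
      have h2 : r * (K.x * r⁻¹ * K.x⁻¹) ∈ K.A :=
        mul_mem hr ((Subgroup.mem_normalizer_iff.1 (K.V_norm_A K.x_mem_V) _).1 (inv_mem hr))
      have h3 := hAV _ (show r * (K.x * r⁻¹ * K.x⁻¹) ∈ K.V by
        rw [show r * (K.x * r⁻¹ * K.x⁻¹) = r * K.x * r⁻¹ * K.x⁻¹ by group]
        exact mul_mem h1 (inv_mem K.x_mem_V)) h2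
      refine mul_inv_eq_iff_eq_mul.1 (mul_inv_eq_one.1 ?_)
      rw [show r * K.x * r⁻¹ * K.x⁻¹ = r * (K.x * r⁻¹ * K.x⁻¹) by group]
      exact h3
    have hyx : Commute (y : G) K.x := e ▸ hrx.mul_left (K.V_comm hv).2.1
    refine Subgroup.mem_centralizer_iff.2 fun w hw => Subtype.ext ?_
    push_cast
    rcases (hSeq w).1 hw with h | h | h | h <;> rw [h]
    · rw [one_mul, mul_one]
    · exact hyz.eq.symm
    · exact hyx.eq.symm
    · exact (hyx.mul_right hyz).eq.symm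
  obtain ⟨T, hT⟩ : ∃ T, T = (MonoidHom.transferSylow S hnorm).ker := ⟨_, rfl⟩
  have hTn : T.Normal := hT ▸ MonoidHom.normal_ker _
  set P0 := T.map N.subtype with hP0
  have hP0N : P0 ≤ N := Subgroup.map_subtype_le _
  have hodd : Odd (Nat.card P0) := by
    rw [hP0, Solv.card_map_subtype, hT]
    exact Nat.odd_iff.2 (Nat.two_dvd_ne_zero.1 (MonoidHom.not_dvd_card_ker_transferSylow S hnorm))
  have hnormP : ∀ y ∈ N, y ∈ Subgroup.normalizer (P0 : Set G) := by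
    intro y hy
    refine Subgroup.mem_normalizer_iff.2 fun g => ⟨?_, ?_⟩
    · rintro ⟨k, hk, rfl⟩
      exact ⟨⟨y, hy⟩ * k * ⟨y, hy⟩⁻¹, hTn.conj_mem k hk _, by simp⟩
    · rintro ⟨k, hk, hke⟩
      refine ⟨⟨y, hy⟩⁻¹ * k * ⟨y, hy⟩⁻¹⁻¹, hTn.conj_mem k hk _, ?_⟩
      simp only [Subgroup.coe_subtype] at hke
      simp [hke, mul_assoc]
  have hcube : ∀ g ∈ N, g ^ 3 = 1 → g ∈ P0 := by
    intro g hg h3
    refine ⟨⟨g, hg⟩, ?_, rfl⟩
    have hodd' : Odd (orderOf (⟨g, hg⟩ : N)) := by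
      rw [← Subgroup.orderOf_coe]; exact K.odd_of_cube h3
    rw [hT, SetLike.mem_coe, MonoidHom.mem_ker, ← orderOf_eq_one_iff]
    obtain ⟨i, hi⟩ := S.2 (MonoidHom.transferSylow S hnorm ⟨g, hg⟩)
    exact Nat.eq_one_of_dvd_coprimes (Nat.Coprime.pow_right i hodd'.coprime_two_right)
      (orderOf_map_dvd _ _) (orderOf_dvd_of_pow_eq_one hi)
  refine ⟨P0, ?_, fun g hg => (memN.1 (hP0N hg)).1, fun g hg => hcube g (hAN hg) (K.mem_A.1 hg).2.1,
    fun g hg => hcube g (memN.2 ⟨(K.mem_A'.1 hg).2.2, hA' hg⟩) (K.mem_A'.1 hg).1,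
    fun g hg => hcube g (memN.2 ⟨(K.mem_A''.1 hg).2.2, hA'' hg⟩) (K.mem_A''.1 hg).1⟩
  have hord : ∀ g ∈ P0, Odd (orderOf g) := fun g hg =>
    hodd.of_dvd_nat (Subgroup.orderOf_dvd_natCard P0 hg)
  obtain ⟨n1, c1⟩ := K.card_pow_three (H := P0 ⊓ Subgroup.centralizer {K.z}) fun g hg => (K.mem_A_iff.1
    (K.mem_A_of_odd (hord g hg.1) (Subgroup.mem_centralizer_singleton_iff.1 hg.2)
      (memN.1 (hP0N hg.1)).1)).1
  obtain ⟨n2, c2⟩ := K.card_pow_three (H := P0 ⊓ Subgroup.centralizer {K.x}) fun g hg => (K.mem_A'.1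
    (K.mem_A'_of_odd (hord g hg.1) (Subgroup.mem_centralizer_singleton_iff.1 hg.2)
      (memN.1 (hP0N hg.1)).1)).1
  obtain ⟨n3, c3⟩ := K.card_pow_three (H := P0 ⊓ Subgroup.centralizer {K.x * K.z}) fun g hg =>
    (K.mem_A''.1 (K.mem_A''_of_odd (hord g hg.1) (Subgroup.mem_centralizer_singleton_iff.1 hg.2)
      (memN.1 (hP0N hg.1)).1)).1
  have hform := K.four_formula hodd (hnormP _ (hVN K.z_mem_V)) (hnormP _ (hVN K.x_mem_V))
  rw [c1, c2, c3, ← pow_add, ← pow_add] at hform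
  obtain ⟨n, -, hn⟩ := (Nat.dvd_prime_pow Nat.prime_three).1 (Dvd.intro _ hform.symm)
  exact IsPGroup.of_card hn

/-- An element of `A` centralizing both conjugates of `A` is a power of `h`. -/
theorem A_cent_both {y : G} (hy : y ∈ K.A) (h1 : ∀ e ∈ K.A', Commute y e)
    (h2 : ∀ e ∈ K.A'', Commute y e) : y ∈ Subgroup.zpowers K.h := by
  have hs : ∀ e ∈ K.A', Commute (K.s * y * K.s⁻¹) e := by
    intro e he
    have hz2 : Commute e (K.x * K.z * K.z) := by
      rw [mul_assoc, K.sq_z, mul_one]; exact (K.mem_A'.1 he).2.1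
    have e1 : K.s * (K.x * K.z) * K.s⁻¹ = K.x := K.s_xz
    have hmem : K.s⁻¹ * e * K.s ∈ K.A'' := by
      have he' : e = K.s * (K.s⁻¹ * e * K.s) * K.s⁻¹ := by group
      obtain ⟨q1, q2, q3⟩ := K.mem_A'.1 he
      rw [he'] at q1 q2 q3
      refine K.mem_A''.2 ⟨by rwa [conj_pow, conj_eq_one_iff] at q1, (commute_conj_iff e1).1 q2,
        K.s_comm_h.1 q3⟩
    have := (h2 _ hmem).map (MulAut.conj K.s).toMonoidHom
    simp only [MulEquiv.coe_toMonoidHom, MulAut.conj_apply] at this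
    rwa [show K.s * (K.s⁻¹ * e * K.s) * K.s⁻¹ = e by group] at this
  obtain ⟨i, hi, j, hj, k, hk, rfl⟩ := K.A_eq hy
  rcases Nat.eq_zero_or_pos k with hk0 | hk0
  · subst hk0
    rw [pow_zero, mul_one] at h1 ⊢
    by_cases hij : i = j
    · subst hij
      rw [← K.ab.mul_pow]
      exact pow_mem (Subgroup.mem_zpowers _) _
    refine absurd (fun e he => ?_) (K.A'_not_cent_ab hU)
    have heh : Commute K.h e := (K.mem_A'.1 he).2.2.symm
    have hn := (h1 e he).mul_left (heh.pow_left (2 * j))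
    have hrw : K.a ^ i * K.b ^ j * K.h ^ (2 * j) = K.a ^ ((i + 2 * j) % 3) := by
      rw [show K.h = K.a * K.b from rfl, K.ab.mul_pow, ← pow_eq_pow_mod _ K.a3,
        show K.a ^ i * K.b ^ j * (K.a ^ (2 * j) * K.b ^ (2 * j)) =
          K.a ^ i * (K.b ^ j * K.a ^ (2 * j)) * K.b ^ (2 * j) by group, (K.ab.pow_pow _ _).symm.eq,
        show K.a ^ i * (K.a ^ (2 * j) * K.b ^ j) * K.b ^ (2 * j) =
          K.a ^ i * K.a ^ (2 * j) * (K.b ^ j * K.b ^ (2 * j)) by group, ← pow_add, ← pow_add,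
        show j + 2 * j = 3 * j by ring, pow_mul, K.b3, one_pow, mul_one]
    rw [hrw] at hn
    have ha : Commute K.a e := by
      have : (i + 2 * j) % 3 = 1 ∨ (i + 2 * j) % 3 = 2 := by omega
      rcases this with e1 | e1 <;> rw [e1] at hn
      · rwa [pow_one] at hn
      · have := hn.pow_left 2
        rwa [← pow_mul, show (2 * 2 : ℕ) = 3 + 1 from rfl, pow_succ, K.a3, one_mul] at this
    refine ⟨ha.symm, ?_⟩
    have := ha.inv_left.mul_left heh
    rw [show K.a⁻¹ * K.h = K.b by rw [show K.h = K.a * K.b from rfl, inv_mul_cancel_left]] at this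
    exact this.symm
  · exfalso
    obtain ⟨e, he, hec⟩ := K.A'_not_cent_c hU
    have hprod : K.a ^ i * K.b ^ j * K.c ^ k * (K.s * (K.a ^ i * K.b ^ j * K.c ^ k) * K.s⁻¹) =
        K.c ^ (2 * k) := by
      have hc1 : K.s * K.c * K.s⁻¹ = K.c := by rw [← K.cs.eq, mul_inv_cancel_right]
      rw [show K.s * (K.a ^ i * K.b ^ j * K.c ^ k) * K.s⁻¹ =
          (K.s * K.a ^ i * K.s⁻¹) * (K.s * K.b ^ j * K.s⁻¹) * (K.s * K.c ^ k * K.s⁻¹) by group,
        ← conj_pow, ← conj_pow, ← conj_pow, K.s_a, K.s_b, hc1, inv_pow, inv_pow]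
      calc K.a ^ i * K.b ^ j * K.c ^ k * ((K.a ^ i)⁻¹ * (K.b ^ j)⁻¹ * K.c ^ k)
          = K.a ^ i * K.b ^ j * (K.c ^ k * (K.b ^ j * K.a ^ i)⁻¹) * K.c ^ k := by group
        _ = K.a ^ i * K.b ^ j * ((K.b ^ j * K.a ^ i)⁻¹ * K.c ^ k) * K.c ^ k := by
          rw [(((K.bc.pow_pow j k).symm.mul_right (K.ac.pow_pow i k).symm).inv_right).eq]
        _ = K.c ^ (2 * k) := by rw [(K.ab.pow_pow i j).eq, two_mul, pow_add]; group
    have h3 := (h1 e he).mul_left (hs e he)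
    rw [hprod, pow_eq_pow_mod _ K.c3] at h3
    refine hec ?_
    have : (2 * k) % 3 = 1 ∨ (2 * k) % 3 = 2 := by omega
    rcases this with e1 | e1 <;> rw [e1] at h3
    · rw [pow_one] at h3; exact h3.symm
    · have := h3.pow_left 2
      rw [← pow_mul, show (2 * 2 : ℕ) = 3 + 1 from rfl, pow_succ, K.c3, one_mul] at this
      exact this.symm

/-- `U` does not have order nine. -/
theorem U_card_ne_nine : False := by
  classical
  haveI : Fact (Nat.Prime 3) := ⟨Nat.prime_three⟩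
  obtain ⟨P0, hP03, hP0h, hAP, hA'P, hA''P⟩ := K.exists_big_three hU
  set gen : Set G := (K.A : Set G) ∪ K.A' ∪ K.A'' with hgen
  set P := Subgroup.closure gen with hP
  have hPP0 : P ≤ P0 := (Subgroup.closure_le _).2 (Set.union_subset (Set.union_subset hAP hA'P) hA''P)
  have hPh : ∀ g ∈ P, Commute g K.h := fun g hg => hP0h g (hPP0 hg)
  have hP3 : IsPGroup 3 P := hP03.to_le hPP0
  have genA : ∀ {e : G}, e ∈ K.A → e ∈ P := fun h => Subgroup.subset_closure (Or.inl (Or.inl h))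
  have genA' : ∀ {e : G}, e ∈ K.A' → e ∈ P := fun h => Subgroup.subset_closure (Or.inl (Or.inr h))
  have genA'' : ∀ {e : G}, e ∈ K.A'' → e ∈ P := fun h => Subgroup.subset_closure (Or.inr h)
  -- `W` is the preimage of the center modulo `⟨h⟩`
  set H := Subgroup.zpowers K.h with hH
  have hHc : ∀ d ∈ H, ∀ g ∈ P, Commute g d := fun d hd g hg => by
    obtain ⟨p, rfl⟩ := hd
    exact (hPh g hg).zpow_right p
  let W : Subgroup G :=
    { carrier := {g | g ∈ P ∧ ∀ p ∈ P, g * p * g⁻¹ * p⁻¹ ∈ H}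
      one_mem' := ⟨one_mem _, fun p _ => by simp⟩
      mul_mem' := by
        rintro g g' ⟨hg, hg1⟩ ⟨hg', hg1'⟩
        refine ⟨mul_mem hg hg', fun p hp => ?_⟩
        rw [show g * g' * p * (g * g')⁻¹ * p⁻¹ = g * (g' * p * g'⁻¹ * p⁻¹) * g⁻¹ * (g * p * g⁻¹ * p⁻¹) by group,
          (hHc _ (hg1' p hp) g hg).eq, mul_inv_cancel_right]
        exact mul_mem (hg1' p hp) (hg1 p hp)
      inv_mem' := by
        rintro g ⟨hg, hg1⟩
        refine ⟨inv_mem hg, fun p hp => ?_⟩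
        rw [show g⁻¹ * p * g⁻¹⁻¹ * p⁻¹ = g⁻¹ * (g * p * g⁻¹ * p⁻¹)⁻¹ * g by group,
          ((hHc _ (inv_mem (hg1 p hp)) g hg).inv_left).eq, inv_mul_cancel_right]
        exact inv_mem (hg1 p hp) }
  have hnormW : ∀ g : G, (g * K.h * g⁻¹ = K.h ∨ g * K.h * g⁻¹ = K.h⁻¹) →
      (∀ e ∈ gen, g * e * g⁻¹ ∈ gen) → g ∈ Subgroup.normalizer (W : Set G) := by
    intro g hgh hgen'
    have hsub : P ≤ P.comap (MulAut.conj g).toMonoidHom :=
      (Subgroup.closure_le _).2 fun e he => Subgroup.subset_closure (hgen' e he)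
    have hgP : g ∈ Subgroup.normalizer (P : Set G) := by
      refine Solv.mem_normalizer_of_conj_smul (Subgroup.eq_of_le_of_card_ge (fun w hw => ?_)
        (Solv.card_conj_smul _ _).ge)
      rw [Solv.mem_conj_smul] at hw
      have h := hsub hw
      rw [Subgroup.mem_comap, MulEquiv.coe_toMonoidHom, MulAut.conj_apply] at h
      rwa [show g * (g⁻¹ * w * g) * g⁻¹ = w by group] at h
    have hgH : ∀ d ∈ H, g * d * g⁻¹ ∈ H := by
      rintro d ⟨p, rfl⟩
      simp only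
      rw [← conj_zpow]
      rcases hgh with e | e <;> rw [e]
      · exact ⟨p, rfl⟩
      · exact zpow_mem (inv_mem (Subgroup.mem_zpowers _)) _
    refine Solv.mem_normalizer_of_conj_smul (Subgroup.eq_of_le_of_card_ge (fun w hw => ?_)
      (Solv.card_conj_smul _ _).ge)
    rw [Solv.mem_conj_smul] at hw
    obtain ⟨hw1, hw2⟩ := hw
    refine ⟨by
      have := (Subgroup.mem_normalizer_iff.1 hgP _).1 hw1
      rwa [show g * (g⁻¹ * w * g) * g⁻¹ = w by group] at this, fun p hp => ?_⟩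
    have hp' : g⁻¹ * p * g ∈ P := by
      have := (Subgroup.mem_normalizer_iff.1 (inv_mem hgP) p).1 hp
      rwa [inv_inv] at this
    have := hgH _ (hw2 _ hp')
    rwa [show g * (g⁻¹ * w * g * (g⁻¹ * p * g) * (g⁻¹ * w * g)⁻¹ * (g⁻¹ * p * g)⁻¹) * g⁻¹ =
      w * p * w⁻¹ * p⁻¹ by group] at this
  have hh : ∀ {g e : G}, (g * K.h * g⁻¹ = K.h ∨ g * K.h * g⁻¹ = K.h⁻¹) → Commute e K.h →
      Commute (g * e * g⁻¹) K.h := by
    intro g e hg he
    rcases hg with q | q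
    · exact (commute_conj_iff q).2 he
    · exact Commute.inv_right_iff.1 ((commute_conj_iff q).2 he)
  have cube : ∀ {g e : G}, e ^ 3 = 1 → (g * e * g⁻¹) ^ 3 = 1 := fun {g e} he => by
    rw [conj_pow, he, mul_one, mul_inv_cancel]
  have hgenmap : ∀ g : G, (g * K.h * g⁻¹ = K.h ∨ g * K.h * g⁻¹ = K.h⁻¹) →
      (g * K.z * g⁻¹ = K.z ∨ g * K.z * g⁻¹ = K.x ∨ g * K.z * g⁻¹ = K.x * K.z) →
      (g * K.x * g⁻¹ = K.z ∨ g * K.x * g⁻¹ = K.x ∨ g * K.x * g⁻¹ = K.x * K.z) →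
      (g * (K.x * K.z) * g⁻¹ = K.z ∨ g * (K.x * K.z) * g⁻¹ = K.x ∨ g * (K.x * K.z) * g⁻¹ = K.x * K.z) →
      ∀ e ∈ gen, g * e * g⁻¹ ∈ gen := by
    intro g q h1 h2 h3 e he
    have place : ∀ y, Commute (g * e * g⁻¹) y → (g * e * g⁻¹) ^ 3 = 1 → Commute (g * e * g⁻¹) K.h →
        (y = K.z ∨ y = K.x ∨ y = K.x * K.z) → g * e * g⁻¹ ∈ gen := by
      intro y hy hc hh' hcase
      rcases hcase with rfl | rfl | rfl
      exacts [Or.inl (Or.inl (K.mem_A_iff.2 ⟨hc, hy, hh'⟩)), Or.inl (Or.inr (K.mem_A'.2 ⟨hc, hy, hh'⟩)),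
        Or.inr (K.mem_A''.2 ⟨hc, hy, hh'⟩)]
    rcases he with (he | he) | he
    · obtain ⟨a1, a2, a3⟩ := K.mem_A_iff.1 he
      exact place _ ((commute_conj_iff rfl).2 a2) (cube a1) (hh q a3) h1
    · obtain ⟨a1, a2, a3⟩ := K.mem_A'.1 he
      exact place _ ((commute_conj_iff rfl).2 a2) (cube a1) (hh q a3) h2
    · obtain ⟨a1, a2, a3⟩ := K.mem_A''.1 he
      exact place _ ((commute_conj_iff rfl).2 a2) (cube a1) (hh q a3) h3
  have hzN : K.z ∈ Subgroup.normalizer (W : Set G) :=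
    hnormW _ (Or.inl (by rw [← K.hz.eq, mul_inv_cancel_right])) (hgenmap _
      (Or.inl (by rw [← K.hz.eq, mul_inv_cancel_right])) (Or.inl (mul_inv_cancel_right _ _))
      (Or.inr (Or.inl (by rw [← K.xz.eq, mul_inv_cancel_right])))
      (Or.inr (Or.inr (by rw [← mul_assoc, ← K.xz.eq, mul_inv_cancel_right]))))
  have hxxz : K.x * (K.x * K.z) * K.x⁻¹ = K.x * K.z := by
    rw [← mul_assoc, K.x_sq, one_mul, K.inv_x, K.xz.eq]
  have hxN : K.x ∈ Subgroup.normalizer (W : Set G) :=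
    hnormW _ (Or.inl (by rw [← K.hx.eq, mul_inv_cancel_right])) (hgenmap _
      (Or.inl (by rw [← K.hx.eq, mul_inv_cancel_right]))
      (Or.inl (by rw [K.xz.eq, mul_inv_cancel_right]))
      (Or.inr (Or.inl (mul_inv_cancel_right _ _))) (Or.inr (Or.inr hxxz)))
  have hgN : K.g0 ∈ Subgroup.normalizer (W : Set G) :=
    hnormW _ K.g0_h (hgenmap _ K.g0_h (Or.inr (Or.inl K.g0_z)) (Or.inl K.g0_x) (Or.inr (Or.inr K.g0_xz)))
  have hsN : K.s ∈ Subgroup.normalizer (W : Set G) :=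
    hnormW _ (Or.inr K.s_h) (hgenmap _ (Or.inr K.s_h) (Or.inl (by rw [K.sz.eq, mul_inv_cancel_right]))
      (Or.inr (Or.inr K.s_x)) (Or.inr (Or.inl K.s_xz)))
  have hPord : ∀ g ∈ P, Odd (orderOf g) := fun g hg => by
    obtain ⟨n, hn⟩ := IsPGroup.iff_card.1 hP03
    exact ((show Odd 3 from ⟨1, rfl⟩).pow (n := n)).of_dvd_nat
      (hn ▸ Subgroup.orderOf_dvd_natCard P0 (hPP0 hg))
  have hHA : H ≤ K.A := Subgroup.zpowers_le.2 K.h_mem
  have hHW : H ≤ W := fun d hd => ⟨genA (hHA hd), fun p hp => by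
    rw [show d * p * d⁻¹ * p⁻¹ = d * (p * d⁻¹ * p⁻¹) by group, (hHc _ (inv_mem hd) p hp).eq,
      mul_inv_cancel_right, mul_inv_cancel]
    exact one_mem _⟩
  have hWz : W ⊓ Subgroup.centralizer {K.z} = H := by
    refine le_antisymm ?_ (le_inf hHW fun d hd =>
      Subgroup.mem_centralizer_singleton_iff.2 (K.mem_A.1 (hHA hd)).1.eq)
    rintro y ⟨⟨hyP, hy2⟩, hyz⟩
    have hyz' : Commute y K.z := Subgroup.mem_centralizer_singleton_iff.1 hyz
    have hyA : y ∈ K.A := K.mem_A_of_odd (hPord y hyP) hyz' (hPh y hyP)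
    have key : ∀ e, e ∈ P → Commute (e * (K.z * e * K.z⁻¹)) K.x →
        Commute e (K.z * e * K.z⁻¹) → Commute y e := by
      intro e he hqx hee
      set e' := K.z * e * K.z⁻¹ with he'
      set d := y * e * y⁻¹ * e⁻¹ with hd
      have hdH : d ∈ H := hy2 e he
      have he'P : e' ∈ P := by
        have hgP : ∀ w ∈ gen, K.z * w * K.z⁻¹ ∈ gen := hgenmap _
          (Or.inl (by rw [← K.hz.eq, mul_inv_cancel_right])) (Or.inl (mul_inv_cancel_right _ _))
          (Or.inr (Or.inl (by rw [← K.xz.eq, mul_inv_cancel_right])))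
          (Or.inr (Or.inr (by rw [← mul_assoc, ← K.xz.eq, mul_inv_cancel_right])))
        exact ((Subgroup.closure_le _).2 (fun w hw => Subgroup.subset_closure (hgP w hw)) :
          P ≤ P.comap (MulAut.conj K.z).toMonoidHom) he
      have hzz : K.z * e' * K.z⁻¹ = e := by
        rw [he', show K.z * (K.z * e * K.z⁻¹) * K.z⁻¹ = (K.z * K.z) * e * (K.z * K.z)⁻¹ by group, K.sq_z]
        group
      have hqz : Commute (e * e') K.z := by
        refine (mul_inv_eq_iff_eq_mul.1 ?_).symm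
        rw [show K.z * (e * e') * K.z⁻¹ = e' * (K.z * e' * K.z⁻¹) by rw [he']; group, hzz, hee.eq]
      have hqH : e * e' ∈ H := K.A_cent_x (K.mem_A_of_odd (hPord _ (mul_mem he he'P)) hqz
        (hPh _ (mul_mem he he'P))) hqx
      have hzy : K.z * y * K.z⁻¹ = y := by rw [← hyz'.eq, mul_inv_cancel_right]
      have hzd : K.z * d * K.z⁻¹ = d := by rw [← (K.mem_A.1 (hHA hdH)).1.eq, mul_inv_cancel_right]
      have h1 : K.z * d * K.z⁻¹ = d⁻¹ := by
        calc K.z * d * K.z⁻¹ = (K.z * y * K.z⁻¹) * e' * (K.z * y * K.z⁻¹)⁻¹ * e'⁻¹ := by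
              rw [hd, he']; group
          _ = y * (e⁻¹ * (e * e')) * y⁻¹ * (e⁻¹ * (e * e'))⁻¹ := by rw [hzy]; group
          _ = y * e⁻¹ * ((e * e') * y⁻¹ * (e * e')⁻¹) * e := by group
          _ = y * e⁻¹ * y⁻¹ * e := by
            rw [← ((hHc _ hqH y hyP).inv_left).eq, mul_inv_cancel_right]
          _ = e⁻¹ * d⁻¹ * e := by rw [hd]; group
          _ = d⁻¹ := by rw [((hHc _ (inv_mem hdH) e he).inv_left).eq, inv_mul_cancel_right]
      have hd1 : d = 1 := by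
        by_contra hne
        exact inv_ne_self_of_cube (K.mem_A.1 (hHA hdH)).2.1 hne (h1.symm.trans hzd)
      exact mul_inv_eq_iff_eq_mul.1 (mul_inv_eq_one.1 hd1)
    refine K.A_cent_both hU hyA (fun e he => ?_) (fun e he => ?_)
    · obtain ⟨e1, e2, e3⟩ := K.mem_A'.1 he
      have e2' : Commute (K.z * e * K.z⁻¹) K.x :=
        (commute_conj_iff (by rw [← K.xz.eq, mul_inv_cancel_right])).2 e2
      have e3' : Commute (K.z * e * K.z⁻¹) K.h :=
        (commute_conj_iff (by rw [← K.hz.eq, mul_inv_cancel_right])).2 e3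
      exact key e (genA' he) (e2.mul_left e2') (K.A'_comm he (K.mem_A'.2 ⟨cube e1, e2', e3'⟩))
    · obtain ⟨e1, e2, e3⟩ := K.mem_A''.1 he
      have e2' : Commute (K.z * e * K.z⁻¹) (K.x * K.z) :=
        (commute_conj_iff (by rw [← mul_assoc, ← K.xz.eq, mul_inv_cancel_right])).2 e2
      have e3' : Commute (K.z * e * K.z⁻¹) K.h :=
        (commute_conj_iff (by rw [← K.hz.eq, mul_inv_cancel_right])).2 e3
      have hee := K.A''_comm he (K.mem_A''.2 ⟨cube e1, e2', e3'⟩)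
      refine key e (genA'' he) ?_ hee
      have hzz : K.z * (K.z * e * K.z⁻¹) * K.z⁻¹ = e := by
        rw [show K.z * (K.z * e * K.z⁻¹) * K.z⁻¹ = (K.z * K.z) * e * (K.z * K.z)⁻¹ by group, K.sq_z]
        group
      have hqz : Commute (e * (K.z * e * K.z⁻¹)) K.z := by
        refine (mul_inv_eq_iff_eq_mul.1 ?_).symm
        rw [show K.z * (e * (K.z * e * K.z⁻¹)) * K.z⁻¹ =
          K.z * e * K.z⁻¹ * (K.z * (K.z * e * K.z⁻¹) * K.z⁻¹) by group, hzz, hee.eq]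
      have := (e2.mul_left e2').mul_right hqz
      rwa [mul_assoc K.x, K.sq_z, mul_one] at this
  have hWP : W ≤ P := fun g hg => hg.1
  have hWodd : Odd (Nat.card W) := by
    obtain ⟨n, hn⟩ := IsPGroup.iff_card.1 (hP3.to_le hWP)
    rw [hn]
    exact (show Odd 3 from ⟨1, rfl⟩).pow
  have c2 : Nat.card (W ⊓ Subgroup.centralizer {K.x} : Subgroup G) = 3 := by
    rw [← K.conj_inf_cent hgN K.g0_z, Solv.card_conj_smul, hWz, K.card_zpowers_h]
  have c3 : Nat.card (W ⊓ Subgroup.centralizer {K.x * K.z} : Subgroup G) = 3 := by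
    rw [← K.conj_inf_cent hsN K.s_x, Solv.card_conj_smul, c2]
  have c4 : H ⊓ Subgroup.centralizer {K.x} = H := inf_eq_left.2 (Subgroup.zpowers_le.2
    (Subgroup.mem_centralizer_singleton_iff.2 K.hx.eq))
  have hform := K.four_formula hWodd hzN hxN
  rw [c2, c3, hWz, c4, K.card_zpowers_h] at hform
  have hWH : H = W := Subgroup.eq_of_le_of_card_ge hHW (by rw [K.card_zpowers_h]; omega)
  -- but the center modulo `⟨h⟩` is nontrivial
  set Z := H.subgroupOf P with hZ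
  haveI : Z.Normal := ⟨fun d hd g => by
    rw [hZ, Subgroup.mem_subgroupOf] at hd ⊢
    push_cast
    rw [(hHc _ hd g g.2).eq, mul_inv_cancel_right]
    exact hd⟩
  haveI : Nontrivial (P ⧸ Z) := by
    refine ⟨QuotientGroup.mk ⟨K.c, genA K.c_mem⟩, 1, fun e => ?_⟩
    rw [QuotientGroup.eq_one_iff, hZ, Subgroup.mem_subgroupOf] at e
    obtain ⟨p, hp⟩ := e
    obtain ⟨q, hq, hqc⟩ := K.A'_not_cent_c hU
    simp only at hp
    exact hqc (hp ▸ (K.mem_A'.1 hq).2.2.zpow_right p)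
  haveI := (hP3.to_quotient Z).center_nontrivial
  obtain ⟨w, hw⟩ := exists_ne (1 : Subgroup.center (P ⧸ Z))
  obtain ⟨g, hg⟩ := QuotientGroup.mk_surjective (w : P ⧸ Z)
  have hgW : (g : G) ∈ W := by
    refine ⟨g.2, fun p hp => ?_⟩
    have h := Subgroup.mem_center_iff.1 w.2 (QuotientGroup.mk ⟨p, hp⟩)
    rw [← hg, ← QuotientGroup.mk_mul, ← QuotientGroup.mk_mul, QuotientGroup.eq, hZ,
      Subgroup.mem_subgroupOf] at h
    push_cast at h
    have h' : (g : G) * p * ((p * g)⁻¹ * (g * p)) * ((g : G) * p)⁻¹ ∈ H := by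
      rw [(hHc _ h _ (mul_mem g.2 hp)).eq, mul_inv_cancel_right]
      exact h
    rwa [show (g : G) * p * ((p * g)⁻¹ * (g * p)) * ((g : G) * p)⁻¹ = (g : G) * p * (g : G)⁻¹ * p⁻¹ by group] at h'
  refine hw (Subtype.ext ?_)
  rw [← hg]
  exact (QuotientGroup.eq_one_iff g).2 (Subgroup.mem_subgroupOf.2 (hWH.symm ▸ hgW : (g : G) ∈ H))

end Ctx

end Cfsg.Agent.Spor.DoubleAlt
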