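import Mathlib

/-!
# Permutations of nine or ten points

The points fall into three blocks `{0,1,2}`, `{3,4,5}`, `{6,7,8}` and possibly a tenth point; this
file lists the permutations used in the case of nine or ten points and their centralizers.
-/

set_option autoImplicit false
set_option linter.style.haveILetI false
set_option linter.unusedSectionVars false
set_option maxHeartbeats 2000000
set_option synthInstance.maxHeartbeats 400000
set_option synthInstance.maxSize 2048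

open Equiv Equiv.Perm

namespace Cfsg.Agent.Spor.DoubleAlt.Nine

variable {m : ℕ}

/-- The rotation of the first block. -/
def pa : Perm (Fin (m + 9)) := swap 0 1 * swap 1 2
/-- The rotation of the second block. -/
def pb : Perm (Fin (m + 9)) := swap 3 4 * swap 4 5
/-- The rotation of the third block. -/
def pc : Perm (Fin (m + 9)) := swap 6 7 * swap 7 8
/-- The product of the first two rotations. -/
def ph : Perm (Fin (m + 9)) := pa * pb
/-- The interchange of the first two blocks. -/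
def px6 : Perm (Fin (m + 9)) := swap 0 3 * swap 1 4 * swap 2 5
/-- The fixed involution on eight points. -/
def px : Perm (Fin (m + 9)) := swap 0 3 * swap 1 4 * swap 2 5 * swap 6 7
/-- The inversion of the first two rotations. -/
def ps : Perm (Fin (m + 9)) := swap 0 1 * swap 3 4
/-- A double transposition inside the involution. -/
def pq1 : Perm (Fin (m + 9)) := swap 0 3 * swap 1 4
/-- Another double transposition inside the involution. -/
def pq2 : Perm (Fin (m + 9)) := swap 1 4 * swap 2 5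
/-- The remaining part of the involution. -/
def pr1 : Perm (Fin (m + 9)) := swap 2 5 * swap 6 7
/-- An element permuting the first two rotations in a cycle of length four. -/
def psig : Perm (Fin (m + 9)) := swap 0 3 * swap 1 4 * swap 2 5 * swap 3 4
/-- Another inversion of the first two rotations. -/
def pj : Perm (Fin (m + 9)) := swap 1 2 * swap 4 5
/-- The cyclic permutation of the three blocks. -/
def pt : Perm (Fin (m + 9)) :=
  swap 0 3 * swap 3 6 * (swap 1 4 * swap 4 7) * (swap 2 5 * swap 5 8)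
/-- An involution inverting `ph`. -/
def peta : Perm (Fin (m + 9)) := swap 0 4 * swap 1 3 * swap 2 5 * swap 6 7
/-- An odd element of the centralizer of the involution (ten points). -/
def pq9 : Perm (Fin (m + 9)) := swap 6 7 * swap 8 9
/-- An involution inverting `ph` and centralizing the involution (ten points). -/
def ptau : Perm (Fin (m + 9)) := swap 1 2 * swap 4 5 * (swap 6 7 * swap 8 9)

variable {σ τ : Perm (Fin (m + 9))}

theorem comm_apply (h : Commute σ τ) (x : Fin (m + 9)) : σ (τ x) = τ (σ x) := DFunLike.congr_fun h.eq x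

theorem agree_next (hσ : Commute σ τ) {f : Perm (Fin (m + 9))} (hf : Commute f τ) {x : Fin (m + 9)}
    (h : σ x = f x) : σ (τ x) = f (τ x) := by rw [comm_apply hσ, h, comm_apply hf]

variable (hm : m ≤ 1)
include hm

theorem comm_pc (hσ : Commute σ pc) :
    ∃ i, i < 3 ∧ ∀ x : Fin (m + 9), 6 ≤ x.val → x.val < 9 → σ x = (pc ^ i : Perm (Fin (m + 9))) x := by
  have h6 : (pc : Perm (Fin (m + 9))) (σ 6) ≠ σ 6 := by
    rw [← comm_apply hσ]
    exact σ.injective.ne (by interval_cases m <;> decide)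
  have hd : ∀ y : Fin (m + 9), (pc : Perm (Fin (m + 9))) y ≠ y →
      ∃ i, i < 3 ∧ y = (pc ^ i : Perm (Fin (m + 9))) 6 := by
    interval_cases m <;> decide
  obtain ⟨i, hi, h0⟩ := hd _ h6
  have hx : ∀ x : Fin (m + 9), 6 ≤ x.val → x.val < 9 →
      x = 6 ∨ x = (pc : Perm (Fin (m + 9))) 6 ∨ x = (pc : Perm (Fin (m + 9))) ((pc : Perm (Fin (m + 9))) 6) := by
    interval_cases m <;> decide
  have hc : Commute (pc ^ i : Perm (Fin (m + 9))) pc := (Commute.refl _).pow_left i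
  have h1 := agree_next hσ hc h0
  refine ⟨i, hi, fun x h h' => ?_⟩
  rcases hx x h h' with rfl | rfl | rfl
  exacts [h0, h1, agree_next hσ hc h1]

theorem comm_ph (hσ : Commute σ ph) :
    ∃ i, i < 3 ∧ ∃ j, j < 3 ∧ ∃ e, e < 2 ∧ ∀ x : Fin (m + 9), x.val < 6 →
      σ x = (pa ^ i * pb ^ j * px6 ^ e : Perm (Fin (m + 9))) x := by
  have hmv : ∀ x : Fin (m + 9), x.val < 6 → (ph : Perm (Fin (m + 9))) x ≠ x := by
    interval_cases m <;> decide
  have hmv' : ∀ x : Fin (m + 9), (ph : Perm (Fin (m + 9))) x ≠ x → x.val < 6 := by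
    interval_cases m <;> decide
  have hlt : ∀ x : Fin (m + 9), x.val < 6 → (σ x).val < 6 := fun x hx => hmv' _ (by
    rw [← comm_apply hσ]; exact σ.injective.ne (hmv x hx))
  have hd : ∀ y : Fin (m + 9), y.val < 6 → ∀ w : Fin (m + 9), w.val < 6 → w ≠ y →
      w ≠ (ph : Perm (Fin (m + 9))) y → w ≠ (ph : Perm (Fin (m + 9))) ((ph : Perm (Fin (m + 9))) y) →
      ∃ i, i < 3 ∧ ∃ j, j < 3 ∧ ∃ e, e < 2 ∧ y = (pa ^ i * pb ^ j * px6 ^ e : Perm (Fin (m + 9))) 0 ∧
        w = (pa ^ i * pb ^ j * px6 ^ e : Perm (Fin (m + 9))) 3 := by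
    interval_cases m <;> decide
  obtain ⟨i, hi, j, hj, e, he, h0, h3⟩ := hd (σ 0) (hlt _ (by interval_cases m <;> decide)) (σ 3)
    (hlt _ (by interval_cases m <;> decide)) (σ.injective.ne (by interval_cases m <;> decide))
    (by rw [← comm_apply hσ]; exact σ.injective.ne (by interval_cases m <;> decide))
    (by rw [← comm_apply hσ, ← comm_apply hσ]; exact σ.injective.ne (by interval_cases m <;> decide))
  have hc : Commute (pa ^ i * pb ^ j * px6 ^ e : Perm (Fin (m + 9))) ph := by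
    have h1 : Commute (pa : Perm (Fin (m + 9))) ph :=
      show (pa : Perm (Fin (m + 9))) * ph = ph * pa by interval_cases m <;> decide
    have h2 : Commute (pb : Perm (Fin (m + 9))) ph :=
      show (pb : Perm (Fin (m + 9))) * ph = ph * pb by interval_cases m <;> decide
    have h3 : Commute (px6 : Perm (Fin (m + 9))) ph :=
      show (px6 : Perm (Fin (m + 9))) * ph = ph * px6 by interval_cases m <;> decide
    exact ((h1.pow_left i).mul_left (h2.pow_left j)).mul_left (h3.pow_left e)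
  have hx : ∀ x : Fin (m + 9), x.val < 6 → x = 0 ∨ x = (ph : Perm (Fin (m + 9))) 0 ∨
      x = (ph : Perm (Fin (m + 9))) ((ph : Perm (Fin (m + 9))) 0) ∨ x = 3 ∨
      x = (ph : Perm (Fin (m + 9))) 3 ∨ x = (ph : Perm (Fin (m + 9))) ((ph : Perm (Fin (m + 9))) 3) := by
    interval_cases m <;> decide
  have a1 := agree_next hσ hc h0
  have b1 := agree_next hσ hc h3
  refine ⟨i, hi, j, hj, e, he, fun x h => ?_⟩
  rcases hx x h with rfl | rfl | rfl | rfl | rfl | rfl
  exacts [h0, a1, agree_next hσ hc a1, h3, b1, agree_next hσ hc b1]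

/-- The centralizer of the three rotations. -/
theorem comm_abc (ha : Commute σ pa) (hb : Commute σ pb) (hc : Commute σ pc) :
    ∃ i, i < 3 ∧ ∃ j, j < 3 ∧ ∃ k, k < 3 ∧ σ = (pa ^ i * pb ^ j * pc ^ k : Perm (Fin (m + 9))) := by
  obtain ⟨k, hk, hk'⟩ := comm_pc hm hc
  obtain ⟨i, hi, j, hj, e, he, hij⟩ := comm_ph hm (σ := σ) (ha.mul_right hb)
  obtain rfl : e = 0 := by
    by_contra h
    obtain rfl : e = 1 := by omega
    have h0 : (pa : Perm (Fin (m + 9))) (σ 0) ≠ σ 0 := by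
      rw [← comm_apply ha]
      exact σ.injective.ne (by interval_cases m <;> decide)
    have hd : ∀ i, i < 3 → ∀ j, j < 3 → (pa : Perm (Fin (m + 9)))
        ((pa ^ i * pb ^ j * px6 ^ 1 : Perm (Fin (m + 9))) 0) =
        (pa ^ i * pb ^ j * px6 ^ 1 : Perm (Fin (m + 9))) 0 := by interval_cases m <;> decide
    exact h0 (by rw [hij 0 (by interval_cases m <;> decide)]; exact hd i hi j hj)
  refine ⟨i, hi, j, hj, k, hk, Equiv.ext fun x => ?_⟩
  have d1 : ∀ i, i < 3 → ∀ j, j < 3 → ∀ k, k < 3 → ∀ x : Fin (m + 9),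
      x.val < 6 → (pa ^ i * pb ^ j * pc ^ k : Perm (Fin (m + 9))) x =
        (pa ^ i * pb ^ j * px6 ^ 0 : Perm (Fin (m + 9))) x := by
    interval_cases m <;> decide +kernel
  have d2 : ∀ i, i < 3 → ∀ j, j < 3 → ∀ k, k < 3 → ∀ x : Fin (m + 9),
      6 ≤ x.val → x.val < 9 → (pa ^ i * pb ^ j * pc ^ k : Perm (Fin (m + 9))) x =
        (pc ^ k : Perm (Fin (m + 9))) x := by
    interval_cases m <;> decide +kernel
  have d3 : ∀ i, i < 3 → ∀ j, j < 3 → ∀ k, k < 3 → ∀ x : Fin (m + 9),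
      9 ≤ x.val → (pa ^ i * pb ^ j * pc ^ k : Perm (Fin (m + 9))) x = x := by
    interval_cases m <;> decide +kernel
  rcases lt_or_ge x.val 6 with h | h
  · rw [hij x h, d1 i hi j hj k hk x h]
  rcases lt_or_ge x.val 9 with h' | h'
  · rw [hk' x h h', d2 i hi j hj k hk x h h']
  rw [d3 i hi j hj k hk x h']
  have hfix : ∀ y : Fin (m + 9), (pa : Perm (Fin (m + 9))) y = y → (pb : Perm (Fin (m + 9))) y = y →
      (pc : Perm (Fin (m + 9))) y = y → ∀ x : Fin (m + 9), 9 ≤ x.val →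
      (pa : Perm (Fin (m + 9))) x = x ∧ (pb : Perm (Fin (m + 9))) x = x ∧
        (pc : Perm (Fin (m + 9))) x = x ∧ y = x := by
    interval_cases m <;> decide
  have hall : ∀ x : Fin (m + 9), 9 ≤ x.val → (pa : Perm (Fin (m + 9))) x = x ∧
      (pb : Perm (Fin (m + 9))) x = x ∧ (pc : Perm (Fin (m + 9))) x = x := by
    interval_cases m <;> decide
  obtain ⟨f1, f2, f3⟩ := hall x h'
  exact (hfix (σ x) (by rw [← comm_apply ha, f1]) (by rw [← comm_apply hb, f2])
    (by rw [← comm_apply hc, f3]) x h').2.2.2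

/-- The centralizer of `ph` has exponent dividing twenty-four. -/
theorem comm_ph_pow (hσ : Commute σ ph) : σ ^ 24 = 1 := by
  obtain ⟨i, hi, j, hj, e, he, h⟩ := comm_ph hm hσ
  set f : Perm (Fin (m + 9)) := pa ^ i * pb ^ j * px6 ^ e with hf
  have hf6 : ∀ x : Fin (m + 9), x.val < 6 → (f x).val < 6 := by
    have : ∀ i, i < 3 → ∀ j, j < 3 → ∀ e, e < 2 → ∀ x : Fin (m + 9), x.val < 6 →
        ((pa ^ i * pb ^ j * px6 ^ e : Perm (Fin (m + 9))) x).val < 6 := by
      interval_cases m <;> decide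
    exact this i hi j hj e he
  have hσ6 : ∀ x : Fin (m + 9), (σ x).val < 6 ↔ x.val < 6 := by
    have hmv : ∀ x : Fin (m + 9), x.val < 6 ↔ (ph : Perm (Fin (m + 9))) x ≠ x := by
      interval_cases m <;> decide
    intro x
    rw [hmv, hmv, ← comm_apply hσ, σ.injective.ne_iff]
  have hk : ∀ k : ℕ, ∀ x : Fin (m + 9), x.val < 6 → (σ ^ k) x = (f ^ k) x ∧ ((f ^ k) x).val < 6 := by
    intro k
    induction k with
    | zero => exact fun x hx => ⟨rfl, hx⟩
    | succ k ih =>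
      intro x hx
      obtain ⟨h1, h2⟩ := ih x hx
      rw [pow_succ', pow_succ', Perm.mul_apply, Perm.mul_apply, h1, h _ h2]
      exact ⟨rfl, hf6 _ h2⟩
  have hf24 : f ^ 24 = 1 := by
    have : ∀ i, i < 3 → ∀ j, j < 3 → ∀ e, e < 2 →
        ((pa ^ i * pb ^ j * px6 ^ e : Perm (Fin (m + 9))) ^ 6) = 1 := by
      interval_cases m <;> decide +kernel
    rw [show 24 = 6 * 4 from rfl, pow_mul, hf, this i hi j hj e he, one_pow]
  ext x : 1
  rcases lt_or_ge x.val 6 with hx | hx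
  · rw [(hk 24 x hx).1, hf24]
  let q : Fin (m + 9) → Prop := fun y => ¬ y.val < 6
  have hq : ∀ y, q (σ y) ↔ q y := fun y => not_congr (hσ6 y)
  let k := σ.subtypePerm hq
  have hc : Fintype.card (Subtype q) ∣ 12 ∧ Fintype.card (Subtype q) ≤ 4 := by
    interval_cases m <;> decide
  have h24 : k ^ 24 = 1 := by
    refine orderOf_dvd_iff_pow_eq_one.1 ((orderOf_dvd_natCard k).trans ?_)
    rw [Nat.card_perm, Nat.card_eq_fintype_card]
    exact (Nat.factorial_dvd_factorial hc.2).trans (by decide)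
  have := congrArg (fun g : Perm (Subtype q) => ((g ⟨x, not_lt.2 hx⟩ : Subtype q) : Fin (m + 9))) h24
  simpa [k, Perm.subtypePerm_pow] using this

/-- The centralizer of `ph` fixing the tenth point. -/
theorem comm_ph_fix (hσ : Commute σ ph) (hsign : sign σ = 1)
    (hfix : ∀ x : Fin (m + 9), 9 ≤ x.val → σ x = x) :
    ∃ i, i < 3 ∧ ∃ j, j < 3 ∧ ∃ k, k < 3 ∧ ∃ e, e < 2 ∧
      σ = (pa ^ i * pb ^ j * pc ^ k * px ^ e : Perm (Fin (m + 9))) := by
  obtain ⟨i, hi, j, hj, e, he, h⟩ := comm_ph hm hσ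
  have hmv : ∀ x : Fin (m + 9), x.val < 6 ↔ (ph : Perm (Fin (m + 9))) x ≠ x := by
    interval_cases m <;> decide
  have hhi : ∀ x : Fin (m + 9), 6 ≤ x.val → x.val < 9 → 6 ≤ (σ x).val ∧ (σ x).val < 9 := by
    intro x h1 h2
    constructor
    · rw [← not_lt, hmv, ← comm_apply hσ, σ.injective.ne_iff, ← hmv]
      omega
    · by_contra h3
      have := σ.injective ((hfix (σ x) (by omega)))
      omega
  have hd : ∀ y : Fin (m + 9), 6 ≤ y.val → y.val < 9 → ∀ w : Fin (m + 9), 6 ≤ w.val → w.val < 9 →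
      y ≠ w → ∀ v : Fin (m + 9), 6 ≤ v.val → v.val < 9 → v ≠ y → v ≠ w → ∃ k, k < 3 ∧ ∃ f, f < 2 ∧
        y = (pc ^ k * swap 6 7 ^ f : Perm (Fin (m + 9))) 6 ∧
        w = (pc ^ k * swap 6 7 ^ f : Perm (Fin (m + 9))) 7 ∧
        v = (pc ^ k * swap 6 7 ^ f : Perm (Fin (m + 9))) 8 := by
    interval_cases m <;> decide +kernel
  have v6 : 6 ≤ (6 : Fin (m + 9)).val ∧ (6 : Fin (m + 9)).val < 9 := by interval_cases m <;> decide
  have v7 : 6 ≤ (7 : Fin (m + 9)).val ∧ (7 : Fin (m + 9)).val < 9 := by interval_cases m <;> decide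
  have v8 : 6 ≤ (8 : Fin (m + 9)).val ∧ (8 : Fin (m + 9)).val < 9 := by interval_cases m <;> decide
  obtain ⟨k, hk, f, hf, e6, e7, e8⟩ := hd _ (hhi 6 v6.1 v6.2).1 (hhi 6 v6.1 v6.2).2 _
    (hhi 7 v7.1 v7.2).1 (hhi 7 v7.1 v7.2).2 (σ.injective.ne (by interval_cases m <;> decide)) _
    (hhi 8 v8.1 v8.2).1 (hhi 8 v8.1 v8.2).2 (σ.injective.ne (by interval_cases m <;> decide))
    (σ.injective.ne (by interval_cases m <;> decide))
  have d1 : ∀ i, i < 3 → ∀ j, j < 3 → ∀ e, e < 2 → ∀ k, k < 3 → ∀ f, f < 2 → ∀ x : Fin (m + 9),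
      x.val < 6 → (pa ^ i * pb ^ j * px6 ^ e * (pc ^ k * swap 6 7 ^ f) : Perm (Fin (m + 9))) x =
        (pa ^ i * pb ^ j * px6 ^ e : Perm (Fin (m + 9))) x := by
    interval_cases m <;> decide +kernel
  have d2 : ∀ i, i < 3 → ∀ j, j < 3 → ∀ e, e < 2 → ∀ k, k < 3 → ∀ f, f < 2 → ∀ x : Fin (m + 9),
      6 ≤ x.val → x.val < 9 →
        (pa ^ i * pb ^ j * px6 ^ e * (pc ^ k * swap 6 7 ^ f) : Perm (Fin (m + 9))) x =
        (pc ^ k * swap 6 7 ^ f : Perm (Fin (m + 9))) x := by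
    interval_cases m <;> decide +kernel
  have d2' : ∀ x : Fin (m + 9), 6 ≤ x.val → x.val < 9 → x = 6 ∨ x = 7 ∨ x = 8 := by
    interval_cases m <;> decide +kernel
  have d3 : ∀ i, i < 3 → ∀ j, j < 3 → ∀ e, e < 2 → ∀ k, k < 3 → ∀ f, f < 2 → ∀ x : Fin (m + 9),
      9 ≤ x.val → (pa ^ i * pb ^ j * px6 ^ e * (pc ^ k * swap 6 7 ^ f) : Perm (Fin (m + 9))) x = x := by
    interval_cases m <;> decide +kernel
  have he' : σ = (pa ^ i * pb ^ j * px6 ^ e * (pc ^ k * swap 6 7 ^ f) : Perm (Fin (m + 9))) := by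
    ext x : 1
    rcases lt_or_ge x.val 6 with h1 | h1
    · rw [h x h1, d1 i hi j hj e he k hk f hf x h1]
    rcases lt_or_ge x.val 9 with h2 | h2
    · rw [d2 i hi j hj e he k hk f hf x h1 h2]
      rcases d2' x h1 h2 with rfl | rfl | rfl
      exacts [e6, e7, e8]
    rw [hfix x h2, d3 i hi j hj e he k hk f hf x h2]
  have hd3 : ∀ i, i < 3 → ∀ j, j < 3 → ∀ e, e < 2 → ∀ k, k < 3 → ∀ f, f < 2 →
      sign (pa ^ i * pb ^ j * px6 ^ e * (pc ^ k * swap 6 7 ^ f) : Perm (Fin (m + 9))) = 1 →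
      ∃ k', k' < 3 ∧ (pa ^ i * pb ^ j * px6 ^ e * (pc ^ k * swap 6 7 ^ f) : Perm (Fin (m + 9))) =
        pa ^ i * pb ^ j * pc ^ k' * px ^ e := by
    interval_cases m <;> decide +kernel
  obtain ⟨k', hk', hh⟩ := hd3 i hi j hj e he k hk f hf (he' ▸ hsign)
  exact ⟨i, hi, j, hj, k', hk', e, he, he'.trans hh⟩

/-- The centralizer of the involution and `ph`. -/
theorem comm_px_ph (hx : Commute σ px) (hh : Commute σ ph) (hsign : sign σ = 1) :
    ∃ i, i < 3 ∧ (σ = ph ^ i ∨ σ = ph ^ i * px ∨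
      (m = 1 ∧ (σ = ph ^ i * pq9 ∨ σ = ph ^ i * pq9 * px))) := by
  obtain ⟨i, hi, j, hj, e, he, h⟩ := comm_ph hm hh
  have hmv : ∀ x : Fin (m + 9), x.val < 6 ↔ (ph : Perm (Fin (m + 9))) x ≠ x := by
    interval_cases m <;> decide
  have hhi : ∀ x : Fin (m + 9), 6 ≤ x.val → 6 ≤ (σ x).val := by
    intro x h1
    rw [← not_lt, hmv, ← comm_apply hh, σ.injective.ne_iff, ← hmv]
    omega
  have hd0 : ∀ i, i < 3 → ∀ j, j < 3 → ∀ e, e < 2 →
      (∀ x : Fin (m + 9), x.val < 6 → (pa ^ i * pb ^ j * px6 ^ e : Perm (Fin (m + 9))) ((px : Perm (Fin (m + 9))) x) =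
        (px : Perm (Fin (m + 9))) ((pa ^ i * pb ^ j * px6 ^ e : Perm (Fin (m + 9))) x)) → i = j := by
    interval_cases m <;> decide +kernel
  have hpx6 : ∀ x : Fin (m + 9), x.val < 6 → ((px : Perm (Fin (m + 9))) x).val < 6 := by
    interval_cases m <;> decide
  obtain rfl := hd0 i hi j hj e he fun x hlt => by rw [← h _ (hpx6 x hlt), comm_apply hx, h x hlt]
  have v6 : 6 ≤ (6 : Fin (m + 9)).val := by interval_cases m <;> decide
  have v8 : 6 ≤ (8 : Fin (m + 9)).val := by interval_cases m <;> decide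
  have hne : (px : Perm (Fin (m + 9))) (σ 6) ≠ σ 6 := by
    rw [← comm_apply hx]
    exact σ.injective.ne (by interval_cases m <;> decide)
  have hfix8 : (px : Perm (Fin (m + 9))) (σ 8) = σ 8 := by
    rw [← comm_apply hx]
    interval_cases m <;> exact congrArg _ (by decide)
  have hdf : ∀ i, i < 3 → ∀ e, e < 2 → ∀ y : Fin (m + 9), 6 ≤ y.val →
      (px : Perm (Fin (m + 9))) y ≠ y → ∃ f, f < 2 ∧ ∀ l, l < m + 1 →
        y = (pa ^ i * pb ^ i * px6 ^ e * (swap 6 7 ^ f * swap 8 9 ^ l) : Perm (Fin (m + 9))) 6 := by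
    interval_cases m <;> decide +kernel
  have hdl : ∀ i, i < 3 → ∀ e, e < 2 → ∀ v : Fin (m + 9), 6 ≤ v.val →
      (px : Perm (Fin (m + 9))) v = v → ∃ l, l < m + 1 ∧ ∀ f, f < 2 →
        v = (pa ^ i * pb ^ i * px6 ^ e * (swap 6 7 ^ f * swap 8 9 ^ l) : Perm (Fin (m + 9))) 8 := by
    interval_cases m <;> decide +kernel
  have hd9 : ∀ i, i < 3 → ∀ e, e < 2 → ∀ f, f < 2 → ∀ l, l < m + 1 → ∀ u : Fin (m + 9), 6 ≤ u.val →
      (px : Perm (Fin (m + 9))) u = u →
      u ≠ (pa ^ i * pb ^ i * px6 ^ e * (swap 6 7 ^ f * swap 8 9 ^ l) : Perm (Fin (m + 9))) 8 → m = 1 →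
      u = (pa ^ i * pb ^ i * px6 ^ e * (swap 6 7 ^ f * swap 8 9 ^ l) : Perm (Fin (m + 9))) 9 := by
    interval_cases m <;> decide +kernel
  obtain ⟨f, hf, e6'⟩ := hdf i hi e he (σ 6) (hhi _ v6) hne
  obtain ⟨l, hl, e8'⟩ := hdl i hi e he (σ 8) (hhi _ v8) hfix8
  have e6 := e6' l hl
  have e8 := e8' f hf
  have e9 : m = 1 → σ 9 =
      (pa ^ i * pb ^ i * px6 ^ e * (swap 6 7 ^ f * swap 8 9 ^ l) : Perm (Fin (m + 9))) 9 := fun h1 => by
    refine hd9 i hi e he f hf l hl (σ 9) ?_ ?_ ?_ h1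
    · subst h1; exact hhi _ (by decide)
    · subst h1; rw [← comm_apply hx]; exact congrArg _ (by decide)
    · rw [← e8]; subst h1; exact σ.injective.ne (by decide)
  set g : Perm (Fin (m + 9)) := pa ^ i * pb ^ i * px6 ^ e * (swap 6 7 ^ f * swap 8 9 ^ l) with hg
  have he' : σ = g := by
    ext x : 1
    have d1 : ∀ i, i < 3 → ∀ e, e < 2 → ∀ f, f < 2 → ∀ l, l < m + 1 → ∀ x : Fin (m + 9),
        x.val < 6 → (pa ^ i * pb ^ i * px6 ^ e * (swap 6 7 ^ f * swap 8 9 ^ l) : Perm (Fin (m + 9))) x =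
          (pa ^ i * pb ^ i * px6 ^ e : Perm (Fin (m + 9))) x := by
      interval_cases m <;> decide +kernel
    have d2 : ∀ x : Fin (m + 9),
        6 ≤ x.val → x = 6 ∨ x = (px : Perm (Fin (m + 9))) 6 ∨ x = 8 ∨ (m = 1 ∧ x = 9) := by
      interval_cases m <;> decide +kernel
    have d3 : ∀ i, i < 3 → ∀ e, e < 2 → ∀ f, f < 2 → ∀ l, l < m + 1 →
        (pa ^ i * pb ^ i * px6 ^ e * (swap 6 7 ^ f * swap 8 9 ^ l) : Perm (Fin (m + 9)))
          ((px : Perm (Fin (m + 9))) 6) = (px : Perm (Fin (m + 9)))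
          ((pa ^ i * pb ^ i * px6 ^ e * (swap 6 7 ^ f * swap 8 9 ^ l) : Perm (Fin (m + 9))) 6) := by
      interval_cases m <;> decide +kernel
    rcases lt_or_ge x.val 6 with h1 | h1
    · rw [h x h1, ← d1 i hi e he f hf l hl x h1]
    rcases d2 x h1 with rfl | rfl | rfl | ⟨hm1, rfl⟩
    · exact e6
    · rw [hg, d3 i hi e he f hf l hl, comm_apply hx, e6]
    · exact e8
    · exact e9 hm1
  have hd4 : ∀ i, i < 3 → ∀ e, e < 2 → ∀ f, f < 2 → ∀ l, l < m + 1 →
      sign (pa ^ i * pb ^ i * px6 ^ e * (swap 6 7 ^ f * swap 8 9 ^ l) : Perm (Fin (m + 9))) = 1 →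
      ((pa ^ i * pb ^ i * px6 ^ e * (swap 6 7 ^ f * swap 8 9 ^ l) : Perm (Fin (m + 9))) = ph ^ i ∨
        (pa ^ i * pb ^ i * px6 ^ e * (swap 6 7 ^ f * swap 8 9 ^ l) : Perm (Fin (m + 9))) = ph ^ i * px ∨
        (m = 1 ∧ ((pa ^ i * pb ^ i * px6 ^ e * (swap 6 7 ^ f * swap 8 9 ^ l) : Perm (Fin (m + 9))) = ph ^ i * pq9 ∨
          (pa ^ i * pb ^ i * px6 ^ e * (swap 6 7 ^ f * swap 8 9 ^ l) : Perm (Fin (m + 9))) = ph ^ i * pq9 * px))) := by
    interval_cases m <;> decide +kernel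
  exact ⟨i, hi, by rw [he']; exact hd4 i hi e he f hf l hl (by rw [he'] at hsign; exact hsign)⟩

/-- A permutation commuting with a rotation of all three blocks does not move four or eight points. -/
theorem four_comm_full {i j k : ℕ} (hi0 : 0 < i) (hi : i < 3) (hj0 : 0 < j) (hj : j < 3)
    (hk0 : 0 < k) (hk : k < 3) (h4 : 4 ∣ σ.support.card)
    (hσ : Commute σ (pa ^ i * pb ^ j * pc ^ k)) : σ = 1 := by
  classical
  have hfix : ∀ i, i < 3 → 0 < i → ∀ j, j < 3 → 0 < j → ∀ k, k < 3 → 0 < k → ∀ x : Fin (m + 9),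
      ((pa ^ i * pb ^ j * pc ^ k : Perm (Fin (m + 9))) x = x ↔ 9 ≤ x.val) := by
    interval_cases m <;> decide +kernel
  have hthree : ∀ i, i < 3 → ∀ j, j < 3 → ∀ k, k < 3 →
      (pa ^ i * pb ^ j * pc ^ k : Perm (Fin (m + 9))) ^ 3 ^ 1 = 1 := by
    interval_cases m <;> decide +kernel
  set v : Perm (Fin (m + 9)) := pa ^ i * pb ^ j * pc ^ k with hv
  have hv1 : ∀ x, v x = x ↔ 9 ≤ x.val := hfix i hi hi0 j hj hj0 k hk hk0
  have hv3 : v ^ 3 ^ 1 = 1 := hthree i hi j hj k hk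
  have hhi : ∀ x : Fin (m + 9), 9 ≤ x.val → σ x = x := by
    intro x hx
    have h9 : 9 ≤ (σ x).val := (hv1 _).1 (by rw [← comm_apply hσ, (hv1 x).2 hx])
    exact Fin.ext (by omega)
  let q : Fin (m + 9) → Prop := fun x => σ x ≠ x
  have hq : ∀ x, q (v x) ↔ q x := fun x => by
    show σ (v x) ≠ v x ↔ σ x ≠ x
    rw [comm_apply hσ, v.injective.ne_iff]
  haveI : Fact (Nat.Prime 3) := ⟨Nat.prime_three⟩
  have h3 := Equiv.Perm.card_compl_support_modEq (p := 3) (n := 1)
    (σ := v.subtypePerm hq) (by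
      have h' : v ^ 3 = 1 := by simpa using hv3
      rw [Perm.subtypePerm_pow]; ext x; simp [h'])
  have hempty : (v.subtypePerm hq).supportᶜ = ∅ := by
    refine Finset.eq_empty_of_forall_notMem fun x hx => ?_
    rw [Finset.mem_compl, Perm.mem_support, not_not] at hx
    exact x.2 (hhi x ((hv1 x).1 (congrArg Subtype.val hx)))
  rw [hempty, Finset.card_empty] at h3
  have hcard : Fintype.card (Subtype q) = σ.support.card :=
    Fintype.card_of_subtype σ.support fun x => Perm.mem_support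
  rw [hcard] at h3
  have hle : σ.support.card ≤ 9 := by
    refine (Finset.card_le_card (t := (Finset.univ.filter fun x : Fin (m + 9) => x.val < 9)) ?_).trans ?_
    · intro x hx
      rw [Finset.mem_filter]
      refine ⟨Finset.mem_univ _, ?_⟩
      by_contra h
      exact Perm.mem_support.1 hx (hhi x (by omega))
    · interval_cases m <;> decide
  have h0 : σ.support.card = 0 := by
    have h3' : 0 % 3 = σ.support.card % 3 := h3
    omega
  exact Perm.support_eq_empty_iff.1 (Finset.card_eq_zero.1 h0)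

/-- An involution commuting with the third rotation moves fewer than eight points. -/
theorem eight_comm_pc (h2 : σ * σ = 1) (h8 : 8 ∣ σ.support.card) (hσ : Commute σ pc) : σ = 1 := by
  obtain ⟨i, hi, h⟩ := comm_pc hm hσ
  have v6 : 6 ≤ (6 : Fin (m + 9)).val ∧ (6 : Fin (m + 9)).val < 9 := by interval_cases m <;> decide
  have hd : ∀ i, i < 3 → ∀ x : Fin (m + 9), 6 ≤ x.val → x.val < 9 →
      6 ≤ ((pc ^ i : Perm (Fin (m + 9))) x).val ∧ ((pc ^ i : Perm (Fin (m + 9))) x).val < 9 := by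
    interval_cases m <;> decide +kernel
  have hi0 : i = 0 := by
    have e := h 6 v6.1 v6.2
    have h2' : σ (σ 6) = 6 := by rw [← Perm.mul_apply, h2, Perm.one_apply]
    rw [e, h _ (hd i hi 6 v6.1 v6.2).1 (hd i hi 6 v6.1 v6.2).2] at h2'
    have : ∀ i, i < 3 → (pc ^ i : Perm (Fin (m + 9))) ((pc ^ i : Perm (Fin (m + 9))) 6) = 6 → i = 0 := by
      interval_cases m <;> decide +kernel
    exact this i hi h2'
  subst hi0
  have hle : σ.support.card ≤ 7 := by
    refine (Finset.card_le_card (t := (Finset.univ.filter fun x : Fin (m + 9) => x.val < 6 ∨ 9 ≤ x.val)) ?_).trans ?_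
    · intro x hx
      rw [Finset.mem_filter]
      refine ⟨Finset.mem_univ _, ?_⟩
      by_contra hc
      push Not at hc
      exact Perm.mem_support.1 hx (by simpa using h x hc.1 hc.2)
    · interval_cases m <;> decide
  exact Perm.support_eq_empty_iff.1 (Finset.card_eq_zero.1 (by omega))

end Cfsg.Agent.Spor.DoubleAlt.Nine
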