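import Cfsg.Agent.Lib.Spor.DoubleAlt.Defs
import Cfsg.Agent.Lib.Spor.DoubleAlt.Nine.Perms

/-!
# The elements used for nine and ten points
-/

set_option autoImplicit false
set_option linter.style.haveILetI false
set_option linter.unusedSectionVars false
set_option maxHeartbeats 1000000

open Equiv Equiv.Perm

namespace Cfsg.Agent.Spor.DoubleAlt

open Nine

universe u

/-- An involution whose centralizer is the double cover of `A_9` or `A_10` and is fused to all other
involutions of the centralizer. -/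
structure Ctx (G : Type u) [Group G] (m : ℕ) extends DAlt G (m + 9) where
  hm : m ≤ 1
  fused : ∀ {y : G}, Commute y z → y * y = 1 → y ≠ 1 → IsConj z y

namespace Ctx

variable {G : Type u} [Group G] {m : ℕ} (K : Ctx G m)
include K

/-- A lift of an even permutation. -/
noncomputable def lift (σ : Perm (Fin (m + 9))) : G :=
  if h : sign σ = 1 then (K.surj h).choose else 1

theorem lift_spec {σ : Perm (Fin (m + 9))} (h : sign σ = 1) :
    Commute (K.lift σ) K.z ∧ K.p (K.lift σ) = σ := by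
  rw [lift, dif_pos h]
  exact (K.surj h).choose_spec

/-- The lift of order three of a permutation of order three. -/
noncomputable def lift3 (σ : Perm (Fin (m + 9))) : G :=
  if h : σ ^ 3 = 1 then (K.toDAlt.exists_odd_lift (m := 3) ⟨1, rfl⟩ h).choose else 1

theorem lift3_spec {σ : Perm (Fin (m + 9))} (h : σ ^ 3 = 1) :
    Commute (K.lift3 σ) K.z ∧ K.p (K.lift3 σ) = σ ∧ K.lift3 σ ^ 3 = 1 := by
  rw [lift3, dif_pos h]
  exact (K.toDAlt.exists_odd_lift (m := 3) ⟨1, rfl⟩ h).choose_spec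

theorem pa_three : (pa : Perm (Fin (m + 9))) ^ 3 = 1 := by
  have := K.hm; interval_cases m <;> decide
theorem pb_three : (pb : Perm (Fin (m + 9))) ^ 3 = 1 := by
  have := K.hm; interval_cases m <;> decide
theorem pc_three : (pc : Perm (Fin (m + 9))) ^ 3 = 1 := by
  have := K.hm; interval_cases m <;> decide
theorem pt_three : (pt : Perm (Fin (m + 9))) ^ 3 = 1 := by
  have := K.hm; interval_cases m <;> decide

/-- The lift of the first rotation. -/
noncomputable def a : G := K.lift3 pa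
/-- The lift of the second rotation. -/
noncomputable def b : G := K.lift3 pb
/-- The lift of the third rotation. -/
noncomputable def c : G := K.lift3 pc
/-- The product of the first two rotations. -/
noncomputable def h : G := K.a * K.b
/-- The lift of the cycle of the blocks. -/
noncomputable def t : G := K.lift3 pt
/-- The involution on eight points. -/
noncomputable def x : G := K.lift px
/-- A lift inverting the first two rotations. -/
noncomputable def s : G := K.lift ps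
/-- A lift of a double transposition inside the involution. -/
noncomputable def q1 : G := K.lift pq1
/-- A lift of a double transposition inside the involution. -/
noncomputable def q2 : G := K.lift pq2
/-- A lift of order eight. -/
noncomputable def sig : G := K.lift psig
/-- A lift inverting the first two rotations. -/
noncomputable def j : G := K.lift pj
/-- A lift of a double transposition of four outer points (ten points). -/
noncomputable def q9 : G := K.lift pq9

theorem az : Commute K.a K.z := (K.lift3_spec K.pa_three).1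
theorem bz : Commute K.b K.z := (K.lift3_spec K.pb_three).1
theorem cz : Commute K.c K.z := (K.lift3_spec K.pc_three).1
theorem hz : Commute K.h K.z := K.az.mul_left K.bz
theorem tz : Commute K.t K.z := (K.lift3_spec K.pt_three).1
theorem p_a : K.p K.a = pa := (K.lift3_spec K.pa_three).2.1
theorem p_b : K.p K.b = pb := (K.lift3_spec K.pb_three).2.1
theorem p_c : K.p K.c = pc := (K.lift3_spec K.pc_three).2.1
theorem p_t : K.p K.t = pt := (K.lift3_spec K.pt_three).2.1
theorem p_h : K.p K.h = ph := by rw [h, K.p_mul K.az K.bz, K.p_a, K.p_b]; rfl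
theorem a3 : K.a ^ 3 = 1 := (K.lift3_spec K.pa_three).2.2
theorem b3 : K.b ^ 3 = 1 := (K.lift3_spec K.pb_three).2.2
theorem c3 : K.c ^ 3 = 1 := (K.lift3_spec K.pc_three).2.2
theorem t3 : K.t ^ 3 = 1 := (K.lift3_spec K.pt_three).2.2

theorem sign_px : sign (px : Perm (Fin (m + 9))) = 1 := by
  have := K.hm; interval_cases m <;> decide
theorem sign_ps : sign (ps : Perm (Fin (m + 9))) = 1 := by
  have := K.hm; interval_cases m <;> decide
theorem sign_pq1 : sign (pq1 : Perm (Fin (m + 9))) = 1 := by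
  have := K.hm; interval_cases m <;> decide
theorem sign_pq2 : sign (pq2 : Perm (Fin (m + 9))) = 1 := by
  have := K.hm; interval_cases m <;> decide
theorem sign_psig : sign (psig : Perm (Fin (m + 9))) = 1 := by
  have := K.hm; interval_cases m <;> decide
theorem sign_pj : sign (pj : Perm (Fin (m + 9))) = 1 := by
  have := K.hm; interval_cases m <;> decide

theorem xz : Commute K.x K.z := (K.lift_spec K.sign_px).1
theorem p_x : K.p K.x = px := (K.lift_spec K.sign_px).2
theorem sz : Commute K.s K.z := (K.lift_spec K.sign_ps).1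
theorem p_s : K.p K.s = ps := (K.lift_spec K.sign_ps).2
theorem q1z : Commute K.q1 K.z := (K.lift_spec K.sign_pq1).1
theorem p_q1 : K.p K.q1 = pq1 := (K.lift_spec K.sign_pq1).2
theorem q2z : Commute K.q2 K.z := (K.lift_spec K.sign_pq2).1
theorem p_q2 : K.p K.q2 = pq2 := (K.lift_spec K.sign_pq2).2
theorem sigz : Commute K.sig K.z := (K.lift_spec K.sign_psig).1
theorem p_sig : K.p K.sig = psig := (K.lift_spec K.sign_psig).2
theorem jz : Commute K.j K.z := (K.lift_spec K.sign_pj).1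
theorem p_j : K.p K.j = pj := (K.lift_spec K.sign_pj).2

/-- Two elements of order three with the same image are equal. -/
theorem eq3 {u v : G} (hu : Commute u K.z) (hv : Commute v K.z) (hu3 : u ^ 3 = 1) (hv3 : v ^ 3 = 1)
    (e : K.p u = K.p v) : u = v :=
  K.toDAlt.odd_lift_unique hu hv (m := 3) ⟨1, rfl⟩ hu3 hv3 e

/-- Conjugation of elements of order three is read off from the images. -/
theorem conj3 {g u v : G} (hg : Commute g K.z) (hu : Commute u K.z) (hv : Commute v K.z)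
    (hu3 : u ^ 3 = 1) (hv3 : v ^ 3 = 1) (e : K.p g * K.p u * (K.p g)⁻¹ = K.p v) : g * u * g⁻¹ = v :=
  K.eq3 (K.toDAlt.comm_conj hg hu) hv (by rw [conj_pow, hu3, mul_one, mul_inv_cancel]) hv3
    ((K.toDAlt.p_conj hg hu).trans e)

theorem inv3 {u : G} (hu3 : u ^ 3 = 1) : u⁻¹ ^ 3 = 1 := by rw [inv_pow, hu3, inv_one]

/-- An element of order three commutes with the lifts of the centralizer of its image. -/
theorem comm3 {u v : G} (hu : Commute u K.z) (hv : Commute v K.z) (hu3 : u ^ 3 = 1)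
    (e : Commute (K.p u) (K.p v)) : Commute u v :=
  K.toDAlt.comm_of_odd hu hv e ((show Odd 3 from ⟨1, rfl⟩).of_dvd_nat
    (orderOf_dvd_of_pow_eq_one (by rw [← K.toDAlt.p_pow hu, hu3, K.toDAlt.p_one])))

theorem ab : Commute K.a K.b := K.comm3 K.az K.bz K.a3 (by
  rw [K.p_a, K.p_b]; show (pa : Perm (Fin (m + 9))) * pb = pb * pa
  have := K.hm; interval_cases m <;> decide)
theorem ac : Commute K.a K.c := K.comm3 K.az K.cz K.a3 (by
  rw [K.p_a, K.p_c]; show (pa : Perm (Fin (m + 9))) * pc = pc * pa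
  have := K.hm; interval_cases m <;> decide)
theorem bc : Commute K.b K.c := K.comm3 K.bz K.cz K.b3 (by
  rw [K.p_b, K.p_c]; show (pb : Perm (Fin (m + 9))) * pc = pc * pb
  have := K.hm; interval_cases m <;> decide)
theorem hc : Commute K.h K.c := K.ac.mul_left K.bc
theorem h3 : K.h ^ 3 = 1 := by rw [h, K.ab.mul_pow, K.a3, K.b3, one_mul]

theorem t_a : K.t * K.a * K.t⁻¹ = K.b := K.conj3 K.tz K.az K.bz K.a3 K.b3 (by
  rw [K.p_t, K.p_a, K.p_b]; have := K.hm; interval_cases m <;> decide)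
theorem t_b : K.t * K.b * K.t⁻¹ = K.c := K.conj3 K.tz K.bz K.cz K.b3 K.c3 (by
  rw [K.p_t, K.p_b, K.p_c]; have := K.hm; interval_cases m <;> decide)
theorem t_c : K.t * K.c * K.t⁻¹ = K.a := K.conj3 K.tz K.cz K.az K.c3 K.a3 (by
  rw [K.p_t, K.p_c, K.p_a]; have := K.hm; interval_cases m <;> decide)

theorem x_a : K.x * K.a * K.x⁻¹ = K.b := K.conj3 K.xz K.az K.bz K.a3 K.b3 (by
  rw [K.p_x, K.p_a, K.p_b]; have := K.hm; interval_cases m <;> decide)
theorem x_b : K.x * K.b * K.x⁻¹ = K.a := K.conj3 K.xz K.bz K.az K.b3 K.a3 (by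
  rw [K.p_x, K.p_b, K.p_a]; have := K.hm; interval_cases m <;> decide)
theorem x_c : K.x * K.c * K.x⁻¹ = K.c⁻¹ :=
  K.conj3 K.xz K.cz K.cz.inv_left K.c3 (K.inv3 K.c3) (by
    rw [K.p_x, K.p_c, K.toDAlt.p_inv K.cz, K.p_c]; have := K.hm; interval_cases m <;> decide)
theorem hx : Commute K.h K.x := K.comm3 K.hz K.xz K.h3 (by
  rw [K.p_h, K.p_x]; show (ph : Perm (Fin (m + 9))) * px = px * ph
  have := K.hm; interval_cases m <;> decide)

theorem s_a : K.s * K.a * K.s⁻¹ = K.a⁻¹ :=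
  K.conj3 K.sz K.az K.az.inv_left K.a3 (K.inv3 K.a3) (by
    rw [K.p_s, K.p_a, K.toDAlt.p_inv K.az, K.p_a]; have := K.hm; interval_cases m <;> decide)
theorem s_b : K.s * K.b * K.s⁻¹ = K.b⁻¹ :=
  K.conj3 K.sz K.bz K.bz.inv_left K.b3 (K.inv3 K.b3) (by
    rw [K.p_s, K.p_b, K.toDAlt.p_inv K.bz, K.p_b]; have := K.hm; interval_cases m <;> decide)
theorem s_h : K.s * K.h * K.s⁻¹ = K.h⁻¹ := by
  rw [h, show K.s * (K.a * K.b) * K.s⁻¹ = (K.s * K.a * K.s⁻¹) * (K.s * K.b * K.s⁻¹) by group,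
    K.s_a, K.s_b, mul_inv_rev, K.ab.inv_inv.eq]
theorem cs : Commute K.c K.s := K.comm3 K.cz K.sz K.c3 (by
  rw [K.p_c, K.p_s]; show (pc : Perm (Fin (m + 9))) * ps = ps * pc
  have := K.hm; interval_cases m <;> decide)
theorem cq1 : Commute K.c K.q1 := K.comm3 K.cz K.q1z K.c3 (by
  rw [K.p_c, K.p_q1]; show (pc : Perm (Fin (m + 9))) * pq1 = pq1 * pc
  have := K.hm; interval_cases m <;> decide)
theorem cq2 : Commute K.c K.q2 := K.comm3 K.cz K.q2z K.c3 (by
  rw [K.p_c, K.p_q2]; show (pc : Perm (Fin (m + 9))) * pq2 = pq2 * pc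
  have := K.hm; interval_cases m <;> decide)
theorem csig : Commute K.c K.sig := K.comm3 K.cz K.sigz K.c3 (by
  rw [K.p_c, K.p_sig]; show (pc : Perm (Fin (m + 9))) * psig = psig * pc
  have := K.hm; interval_cases m <;> decide)
theorem cj : Commute K.c K.j := K.comm3 K.cz K.jz K.c3 (by
  rw [K.p_c, K.p_j]; show (pc : Perm (Fin (m + 9))) * pj = pj * pc
  have := K.hm; interval_cases m <;> decide)
theorem sig_a : K.sig * K.a * K.sig⁻¹ = K.b := K.conj3 K.sigz K.az K.bz K.a3 K.b3 (by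
  rw [K.p_sig, K.p_a, K.p_b]; have := K.hm; interval_cases m <;> decide)
theorem sig_b : K.sig * K.b * K.sig⁻¹ = K.a⁻¹ :=
  K.conj3 K.sigz K.bz K.az.inv_left K.b3 (K.inv3 K.a3) (by
    rw [K.p_sig, K.p_b, K.toDAlt.p_inv K.az, K.p_a]; have := K.hm; interval_cases m <;> decide)
theorem j_a : K.j * K.a * K.j⁻¹ = K.a⁻¹ :=
  K.conj3 K.jz K.az K.az.inv_left K.a3 (K.inv3 K.a3) (by
    rw [K.p_j, K.p_a, K.toDAlt.p_inv K.az, K.p_a]; have := K.hm; interval_cases m <;> decide)
theorem j_b : K.j * K.b * K.j⁻¹ = K.b⁻¹ :=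
  K.conj3 K.jz K.bz K.bz.inv_left K.b3 (K.inv3 K.b3) (by
    rw [K.p_j, K.p_b, K.toDAlt.p_inv K.bz, K.p_b]; have := K.hm; interval_cases m <;> decide)
theorem j_h : K.j * K.h * K.j⁻¹ = K.h⁻¹ := by
  rw [h, show K.j * (K.a * K.b) * K.j⁻¹ = (K.j * K.a * K.j⁻¹) * (K.j * K.b * K.j⁻¹) by group,
    K.j_a, K.j_b, mul_inv_rev, K.ab.inv_inv.eq]

/-- A lift of a product of two disjoint transpositions squares to `z`. -/
theorem sq_two {g : G} (hg : Commute g K.z) (a b c d : Fin (m + 9))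
    (hd : a ≠ b ∧ c ≠ d ∧ a ≠ c ∧ a ≠ d ∧ b ≠ c ∧ b ≠ d) (e : K.p g = swap a b * swap c d) :
    g * g = K.z :=
  K.sq_dt hg hd.1 hd.2.1 hd.2.2.1 hd.2.2.2.1 hd.2.2.2.2.1 hd.2.2.2.2.2 e

theorem s_sq : K.s * K.s = K.z :=
  K.sq_two K.sz 0 1 3 4 (by have := K.hm; interval_cases m <;> decide) K.p_s
theorem q1_sq : K.q1 * K.q1 = K.z :=
  K.sq_two K.q1z 0 3 1 4 (by have := K.hm; interval_cases m <;> decide) K.p_q1
theorem q2_sq : K.q2 * K.q2 = K.z :=
  K.sq_two K.q2z 1 4 2 5 (by have := K.hm; interval_cases m <;> decide) K.p_q2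
theorem j_sq : K.j * K.j = K.z :=
  K.sq_two K.jz 1 2 4 5 (by have := K.hm; interval_cases m <;> decide) K.p_j

theorem sig_four : K.sig ^ 4 = K.z := by
  rw [show K.sig ^ 4 = K.sig * K.sig * (K.sig * K.sig) by rw [← sq, ← sq, ← pow_mul]]
  refine K.sq_two (K.sigz.mul_left K.sigz) 0 1 3 4 (by have := K.hm; interval_cases m <;> decide) ?_
  rw [K.p_mul K.sigz K.sigz, K.p_sig]; have := K.hm; interval_cases m <;> decide

/-- The product of the double transposition lifts giving the involution. -/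
theorem anti_x {u : G} (hu : Commute u K.z) (hu2 : u * u = K.z) {d r : Perm (Fin (m + 9))}
    (hd : sign d = 1) (hdr : d * r = px) (hr : ∀ v, K.p u v = v ∨ r v = v)
    (a b c e : Fin (m + 9)) (hdd : a ≠ b ∧ c ≠ e ∧ a ≠ c ∧ a ≠ e ∧ b ≠ c ∧ b ≠ e)
    (hde : d = swap a b * swap c e)
    (a' b' c' e' : Fin (m + 9)) (hdd' : a' ≠ b' ∧ c' ≠ e' ∧ a' ≠ c' ∧ a' ≠ e' ∧ b' ≠ c' ∧ b' ≠ e')
    (hprod : K.p u * d = swap a' b' * swap c' e') : u * K.x * u⁻¹ = K.x * K.z := by
  obtain ⟨v, hv, hv'⟩ := K.surj hd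
  have hvz : Commute (v⁻¹ * K.x) K.z := hv.inv_left.mul_left K.xz
  have h1 := K.toDAlt.anticomm hu hv hu2 (K.sq_two hv a b c e hdd (hv'.trans hde))
    (K.sq_two (hu.mul_left hv) a' b' c' e' hdd' (by rw [K.p_mul hu hv, hv', hprod]))
  have h2 : Commute u (v⁻¹ * K.x) := K.toDAlt.comm_disjoint hu hvz fun w => by
    rw [K.p_mul hv.inv_left K.xz, K.toDAlt.p_inv hv, hv', K.p_x, ← hdr, inv_mul_cancel_left]
    exact hr w
  calc u * K.x * u⁻¹ = (u * v * u⁻¹) * (u * (v⁻¹ * K.x) * u⁻¹) := by group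
    _ = v * K.z * (v⁻¹ * K.x) := by rw [h1, h2.eq, mul_inv_cancel_right]
    _ = K.x * K.z := by rw [hv.eq, mul_assoc, mul_inv_cancel_left, K.xz.eq]

/-- Lifts of double transpositions which are part of the involution commute with it. -/
theorem comm_x_part {u : G} (hu : Commute u K.z)
    (hr : ∀ v, K.p u v = v ∨ ((K.p u)⁻¹ * px : Perm (Fin (m + 9))) v = v) : Commute u K.x := by
  have h2 : Commute u (u⁻¹ * K.x) := K.toDAlt.comm_disjoint hu (hu.inv_left.mul_left K.xz) fun w => by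
    rw [K.p_mul hu.inv_left K.xz, K.toDAlt.p_inv hu, K.p_x]
    exact hr w
  have := (Commute.refl u).mul_right h2
  rwa [mul_inv_cancel_left] at this

theorem q1x : Commute K.q1 K.x := K.comm_x_part K.q1z (by
  rw [K.p_q1]; have := K.hm; interval_cases m <;> decide)
theorem q2x : Commute K.q2 K.x := K.comm_x_part K.q2z (by
  rw [K.p_q2]; have := K.hm; interval_cases m <;> decide)

theorem q_anti : K.q1 * K.q2 * K.q1⁻¹ = K.q2 * K.z :=
  K.toDAlt.anticomm K.q1z K.q2z K.q1_sq K.q2_sq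
    (K.sq_two (K.q1z.mul_left K.q2z) 0 3 2 5 (by have := K.hm; interval_cases m <;> decide) (by
      rw [K.p_mul K.q1z K.q2z, K.p_q1, K.p_q2]; have := K.hm; interval_cases m <;> decide))

theorem h_q1 : K.h * K.q1 * K.h⁻¹ = K.q2 ∨ K.h * K.q1 * K.h⁻¹ = K.q2 * K.z :=
  K.toDAlt.eq_or K.q2z (K.toDAlt.comm_conj K.hz K.q1z) (by
    rw [K.toDAlt.p_conj K.hz K.q1z, K.p_h, K.p_q1, K.p_q2]
    have := K.hm; interval_cases m <;> decide)

theorem s_x : K.s * K.x * K.s⁻¹ = K.x * K.z :=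
  K.anti_x K.sz K.s_sq (d := pq1) (r := pr1) K.sign_pq1
    (by have := K.hm; interval_cases m <;> decide)
    (by rw [K.p_s]; have := K.hm; interval_cases m <;> decide)
    0 3 1 4 (by have := K.hm; interval_cases m <;> decide) rfl
    0 4 1 3 (by have := K.hm; interval_cases m <;> decide)
    (by rw [K.p_s]; have := K.hm; interval_cases m <;> decide)

theorem j_x : K.j * K.x * K.j⁻¹ = K.x * K.z :=
  K.anti_x K.jz K.j_sq (d := pq2) (r := swap 0 3 * swap 6 7) K.sign_pq2
    (by have := K.hm; interval_cases m <;> decide)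
    (by rw [K.p_j]; have := K.hm; interval_cases m <;> decide)
    1 4 2 5 (by have := K.hm; interval_cases m <;> decide) rfl
    1 5 2 4 (by have := K.hm; interval_cases m <;> decide)
    (by rw [K.p_j]; have := K.hm; interval_cases m <;> decide)

theorem x_sq : K.x * K.x = 1 := by
  have h := K.toDAlt.sq_invol _ K.xz rfl (by
    rw [K.p_x]; have := K.hm; interval_cases m <;> decide)
  refine h.2.1 ?_
  rw [K.p_x]; have := K.hm; interval_cases m <;> decide

theorem x_ne : K.x ≠ 1 := fun e => by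
  have h : K.p K.x = 1 := by rw [e, K.toDAlt.p_one]
  rw [K.p_x] at h
  revert h
  have := K.hm; interval_cases m <;> decide

theorem x_ne_z : K.x ≠ K.z := fun e => by
  have h : K.p K.x = 1 := by rw [e, K.p_z]
  rw [K.p_x] at h
  revert h
  have := K.hm; interval_cases m <;> decide

theorem inv_x : K.x⁻¹ = K.x := inv_eq_of_mul_eq_one_right K.x_sq

theorem xz_sq : K.x * K.z * (K.x * K.z) = 1 := by
  rw [mul_assoc, ← mul_assoc K.z, ← K.xz.eq, mul_assoc, K.sq_z, mul_one, K.x_sq]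

/-- The involution `η = s x`. -/
noncomputable def eta : G := K.s * K.x

theorem etaz : Commute K.eta K.z := K.sz.mul_left K.xz

theorem eta_x : K.eta * K.x * K.eta⁻¹ = K.x * K.z := by
  rw [eta, show K.s * K.x * K.x * (K.s * K.x)⁻¹ = K.s * K.x * K.s⁻¹ * (K.s * (K.x * K.x⁻¹ * K.x⁻¹ * K.x) * K.s⁻¹) by group, K.s_x]
  group

theorem p_eta : K.p K.eta = peta := by
  rw [eta, K.p_mul K.sz K.xz, K.p_s, K.p_x]; have := K.hm; interval_cases m <;> decide

theorem eta_sq : K.eta * K.eta = 1 := by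
  have h := K.toDAlt.sq_invol _ K.etaz rfl (by
    rw [K.p_eta]; have := K.hm; interval_cases m <;> decide)
  refine h.2.1 ?_
  rw [K.p_eta]; have := K.hm; interval_cases m <;> decide

theorem eta_h : K.eta * K.h * K.eta⁻¹ = K.h⁻¹ := by
  rw [eta, show K.s * K.x * K.h * (K.s * K.x)⁻¹ = K.s * (K.x * K.h * K.x⁻¹) * K.s⁻¹ by group,
    ← K.hx.eq, mul_inv_cancel_right, K.s_h]

variable (hm1 : m = 1)
include hm1

theorem q9z : Commute K.q9 K.z := (K.lift_spec (by subst hm1; decide)).1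
theorem p_q9 : K.p K.q9 = pq9 := (K.lift_spec (by subst hm1; decide)).2

theorem q9_x : K.q9 * K.x * K.q9⁻¹ = K.x * K.z := by
  subst hm1
  exact K.anti_x (K.q9z rfl) (K.sq_two (K.q9z rfl) 6 7 8 9 (by decide) (K.p_q9 rfl))
    (d := pr1) (r := pq1) (by decide) (by decide) (by rw [K.p_q9 rfl]; decide)
    2 5 6 7 (by decide) rfl 2 5 8 9 (by decide) (by rw [K.p_q9 rfl]; decide)

/-- The involution `τ = j q₉` of ten points. -/
theorem tau_facts : Commute (K.j * K.q9) K.z ∧ K.j * K.q9 * (K.j * K.q9) = 1 ∧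
    Commute (K.j * K.q9) K.x ∧ K.j * K.q9 * K.h * (K.j * K.q9)⁻¹ = K.h⁻¹ ∧
    K.p (K.j * K.q9) = ptau := by
  subst hm1
  have hz := K.jz.mul_left (K.q9z rfl)
  have hp : K.p (K.j * K.q9) = ptau := by rw [K.p_mul K.jz (K.q9z rfl), K.p_j, K.p_q9 rfl]; decide
  refine ⟨hz, ?_, ?_, ?_, hp⟩
  · exact (K.toDAlt.sq_invol _ hz rfl (by rw [hp]; decide)).2.1 (by rw [hp]; decide)
  · refine mul_inv_eq_iff_eq_mul.1 ?_
    calc K.j * K.q9 * K.x * (K.j * K.q9)⁻¹ = K.j * (K.q9 * K.x * K.q9⁻¹) * K.j⁻¹ := by group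
      _ = K.j * K.x * K.j⁻¹ * (K.j * K.z * K.j⁻¹) := by rw [K.q9_x rfl]; group
      _ = K.x := by rw [K.j_x, K.jz.eq, mul_inv_cancel_right, mul_assoc, K.sq_z, mul_one]
  · have hq : Commute K.h K.q9 := K.comm3 K.hz (K.q9z rfl) K.h3 (by
      rw [K.p_h, K.p_q9 rfl]; show (ph : Perm (Fin (1 + 9))) * pq9 = pq9 * ph; decide)
    rw [show K.j * K.q9 * K.h * (K.j * K.q9)⁻¹ = K.j * (K.q9 * K.h * K.q9⁻¹) * K.j⁻¹ by group,
      ← hq.eq, mul_inv_cancel_right, K.j_h]

end Ctx

end Cfsg.Agent.Spor.DoubleAlt
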