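import Cfsg.Agent.Lib.Spor.DoubleAlt.Pairs
import Cfsg.Agent.Lib.Spor.DoubleAlt.Nine.Setup

/-!
# Centralizers inside the double cover, nine or ten points
-/

set_option autoImplicit false
set_option linter.style.haveILetI false
set_option linter.unusedSectionVars false
set_option maxHeartbeats 1000000
set_option synthInstance.maxHeartbeats 400000
set_option synthInstance.maxSize 2048

open Equiv Equiv.Perm

namespace Cfsg.Agent.Spor.DoubleAlt

open Nine

universe u

/-- The points of the pairs of the involution. -/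
def pairPts {m : ℕ} (v : Fin 4 × Bool) : Fin (m + 9) :=
  if v.2 then (![3, 4, 5, 7] : Fin 4 → Fin (m + 9)) v.1 else (![0, 1, 2, 6] : Fin 4 → Fin (m + 9)) v.1

theorem pairPts_injective {m : ℕ} (hm : m ≤ 1) : Function.Injective (pairPts (m := m)) := by
  unfold Function.Injective pairPts
  interval_cases m <;> decide

theorem pairPts_swap {m : ℕ} (hm : m ≤ 1) :
    ∀ (i : Fin 4) (b : Bool), (px : Perm (Fin (m + 9))) (pairPts (i, b)) = pairPts (i, !b) := by
  unfold pairPts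
  interval_cases m <;> decide

theorem pairPts_fix {m : ℕ} (hm : m ≤ 1) :
    ∀ y : Fin (m + 9), (¬ ∃ v, pairPts v = y) → (px : Perm (Fin (m + 9))) y = y := by
  unfold pairPts
  interval_cases m <;> decide

namespace Ctx

variable {G : Type u} [Group G] {m : ℕ} (K : Ctx G m)
include K

theorem images_comm (i j k i' j' k' : ℕ) :
    Commute (pa ^ i * pb ^ j * pc ^ k : Perm (Fin (m + 9))) (pa ^ i' * pb ^ j' * pc ^ k') := by
  have h1 := K.ab
  have e : ∀ {u v : G}, Commute u K.z → Commute v K.z → Commute u v → Commute (K.p u) (K.p v) := by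
    intro u v hu hv h
    show _ = _
    rw [← K.p_mul hu hv, ← K.p_mul hv hu, h.eq]
  have ab := e K.az K.bz K.ab
  have ac := e K.az K.cz K.ac
  have bc := e K.bz K.cz K.bc
  rw [K.p_a, K.p_b] at ab
  rw [K.p_a, K.p_c] at ac
  rw [K.p_b, K.p_c] at bc
  have hA : Commute (pa ^ i : Perm (Fin (m + 9))) (pa ^ i' * pb ^ j' * pc ^ k') :=
    (((Commute.refl _).pow_pow i i').mul_right (ab.pow_pow i j')).mul_right (ac.pow_pow i k')
  have hB : Commute (pb ^ j : Perm (Fin (m + 9))) (pa ^ i' * pb ^ j' * pc ^ k') :=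
    ((ab.symm.pow_pow j i').mul_right ((Commute.refl _).pow_pow j j')).mul_right (bc.pow_pow j k')
  have hC : Commute (pc ^ k : Perm (Fin (m + 9))) (pa ^ i' * pb ^ j' * pc ^ k') :=
    ((ac.symm.pow_pow k i').mul_right (bc.symm.pow_pow k j')).mul_right ((Commute.refl _).pow_pow k k')
  exact (hA.mul_left hB).mul_left hC

/-- The elementary abelian group generated by the three rotations. -/
noncomputable def A : Subgroup G where
  carrier := {g | Commute g K.z ∧ g ^ 3 = 1 ∧ ∃ i j k : ℕ, K.p g = pa ^ i * pb ^ j * pc ^ k}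
  one_mem' := ⟨Commute.one_left _, one_pow 3, 0, 0, 0, by simp [K.toDAlt.p_one]⟩
  mul_mem' := by
    rintro g g' ⟨hg, hg3, i, j, k, e⟩ ⟨hg', hg3', i', j', k', e'⟩
    have hc : Commute g g' := K.comm3 hg hg' hg3 (by rw [e, e']; exact K.images_comm i j k i' j' k')
    refine ⟨hg.mul_left hg', by rw [hc.mul_pow, hg3, hg3', one_mul], i + i', j + j', k + k', ?_⟩
    rw [K.p_mul hg hg', e, e']
    have h1 := K.images_comm 0 j k i' 0 0
    have h2 := K.images_comm 0 0 k 0 j' 0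
    simp only [pow_zero, one_mul, mul_one] at h1 h2
    rw [pow_add, pow_add, pow_add]
    calc pa ^ i * pb ^ j * pc ^ k * (pa ^ i' * pb ^ j' * pc ^ k')
        = pa ^ i * ((pb ^ j * pc ^ k) * pa ^ i') * pb ^ j' * pc ^ k' := by simp only [mul_assoc]
      _ = pa ^ i * pa ^ i' * (pb ^ j * (pc ^ k * pb ^ j')) * pc ^ k' := by rw [h1.eq]; simp only [mul_assoc]
      _ = _ := by rw [h2.eq]; simp only [mul_assoc]
  inv_mem' := by
    rintro g ⟨hg, hg3, i, j, k, e⟩
    refine ⟨hg.inv_left, K.inv3 hg3, i + i, j + j, k + k, ?_⟩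
    have h2 : g⁻¹ = g * g := inv_eq_of_mul_eq_one_right (by rw [← mul_assoc, ← pow_two, ← pow_succ, hg3])
    rw [h2, K.p_mul hg hg, e]
    have h1 := K.images_comm 0 j k i 0 0
    have h3 := K.images_comm 0 0 k 0 j 0
    simp only [pow_zero, one_mul, mul_one] at h1 h3
    rw [pow_add, pow_add, pow_add]
    calc pa ^ i * pb ^ j * pc ^ k * (pa ^ i * pb ^ j * pc ^ k)
        = pa ^ i * ((pb ^ j * pc ^ k) * pa ^ i) * pb ^ j * pc ^ k := by simp only [mul_assoc]
      _ = pa ^ i * pa ^ i * (pb ^ j * (pc ^ k * pb ^ j)) * pc ^ k := by rw [h1.eq]; simp only [mul_assoc]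
      _ = _ := by rw [h3.eq]; simp only [mul_assoc]

theorem mem_A {g : G} :
    g ∈ K.A ↔ Commute g K.z ∧ g ^ 3 = 1 ∧ ∃ i j k : ℕ, K.p g = pa ^ i * pb ^ j * pc ^ k := Iff.rfl

theorem a_mem : K.a ∈ K.A := ⟨K.az, K.a3, 1, 0, 0, by simp [K.p_a]⟩
theorem b_mem : K.b ∈ K.A := ⟨K.bz, K.b3, 0, 1, 0, by simp [K.p_b]⟩
theorem c_mem : K.c ∈ K.A := ⟨K.cz, K.c3, 0, 0, 1, by simp [K.p_c]⟩
theorem h_mem : K.h ∈ K.A := mul_mem K.a_mem K.b_mem

theorem A_comm {g g' : G} (hg : g ∈ K.A) (hg' : g' ∈ K.A) : Commute g g' := by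
  obtain ⟨hgz, hg3, i, j, k, e⟩ := hg
  obtain ⟨hgz', -, i', j', k', e'⟩ := hg'
  exact K.comm3 hgz hgz' hg3 (by rw [e, e']; exact K.images_comm i j k i' j' k')

theorem p_abc (i j k : ℕ) : K.p (K.a ^ i * K.b ^ j * K.c ^ k) = pa ^ i * pb ^ j * pc ^ k := by
  rw [K.p_mul ((K.az.pow_left i).mul_left (K.bz.pow_left j)) (K.cz.pow_left k),
    K.p_mul (K.az.pow_left i) (K.bz.pow_left j), K.toDAlt.p_pow K.az, K.toDAlt.p_pow K.bz,
    K.toDAlt.p_pow K.cz, K.p_a, K.p_b, K.p_c]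

theorem A_eq {g : G} (hg : g ∈ K.A) :
    ∃ i, i < 3 ∧ ∃ j, j < 3 ∧ ∃ k, k < 3 ∧ g = K.a ^ i * K.b ^ j * K.c ^ k := by
  obtain ⟨hgz, hg3, i, j, k, e⟩ := hg
  refine ⟨i % 3, Nat.mod_lt _ (by norm_num), j % 3, Nat.mod_lt _ (by norm_num), k % 3,
    Nat.mod_lt _ (by norm_num), ?_⟩
  have hmem : K.a ^ (i % 3) * K.b ^ (j % 3) * K.c ^ (k % 3) ∈ K.A :=
    mul_mem (mul_mem (pow_mem K.a_mem _) (pow_mem K.b_mem _)) (pow_mem K.c_mem _)
  refine K.eq3 hgz hmem.1 hg3 hmem.2.1 ?_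
  rw [K.p_abc, e, ← pow_eq_pow_mod i K.pa_three, ← pow_eq_pow_mod j K.pb_three,
    ← pow_eq_pow_mod k K.pc_three]

/-- The four-group generated by `z` and `x`. -/
noncomputable def V : Subgroup G where
  carrier := {g | g = 1 ∨ g = K.z ∨ g = K.x ∨ g = K.x * K.z}
  one_mem' := Or.inl rfl
  mul_mem' := by
    have e1 : K.z * K.x = K.x * K.z := K.xz.eq.symm
    have e2 : K.z * (K.x * K.z) = K.x := by rw [← mul_assoc, e1, mul_assoc, K.sq_z, mul_one]
    have e3 : K.x * (K.x * K.z) = K.z := by rw [← mul_assoc, K.x_sq, one_mul]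
    have e4 : K.x * K.z * K.x = K.z := by rw [mul_assoc, e1, e3]
    rintro g g' (rfl | rfl | rfl | rfl) (rfl | rfl | rfl | rfl) <;>
      simp only [Set.mem_ofPred_eq, one_mul, mul_one, K.sq_z, K.x_sq, e1, e2, e3, e4, K.xz_sq,
        mul_assoc K.x K.z K.z, true_or, or_true]
  inv_mem' := by
    rintro g (rfl | rfl | rfl | rfl)
    · exact Or.inl inv_one
    · exact Or.inr (Or.inl K.toDAlt.inv_z)
    · exact Or.inr (Or.inr (Or.inl K.inv_x))
    · exact Or.inr (Or.inr (Or.inr (inv_eq_of_mul_eq_one_right K.xz_sq)))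

theorem mem_V {g : G} : g ∈ K.V ↔ g = 1 ∨ g = K.z ∨ g = K.x ∨ g = K.x * K.z := Iff.rfl

theorem z_mem_V : K.z ∈ K.V := Or.inr (Or.inl rfl)
theorem x_mem_V : K.x ∈ K.V := Or.inr (Or.inr (Or.inl rfl))

theorem V_comm {v : G} (hv : v ∈ K.V) : Commute v K.z ∧ Commute v K.x ∧ Commute K.h v := by
  rcases hv with rfl | rfl | rfl | rfl
  · exact ⟨Commute.one_left _, Commute.one_left _, Commute.one_right _⟩
  · exact ⟨K.toDAlt.comm_zz, K.xz.symm, K.hz⟩
  · exact ⟨K.xz, Commute.refl _, K.hx⟩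
  · exact ⟨K.xz.mul_left K.toDAlt.comm_zz, (Commute.refl K.x).mul_left K.xz.symm, K.hx.mul_right K.hz⟩

/-- An element with the image of an element of `A V` is in `A V`. -/
theorem mem_AV {g : G} (hg : Commute g K.z) {i j k e : ℕ} (he : e < 2)
    (hp : K.p g = pa ^ i * pb ^ j * pc ^ k * px ^ e) : ∃ u ∈ K.A, ∃ v ∈ K.V, g = u * v := by
  have hu : K.a ^ i * K.b ^ j * K.c ^ k ∈ K.A :=
    mul_mem (mul_mem (pow_mem K.a_mem _) (pow_mem K.b_mem _)) (pow_mem K.c_mem _)
  refine ⟨_, hu, (K.a ^ i * K.b ^ j * K.c ^ k)⁻¹ * g, ?_, by group⟩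
  have hv : Commute ((K.a ^ i * K.b ^ j * K.c ^ k)⁻¹ * g) K.z := hu.1.inv_left.mul_left hg
  have hpv : K.p ((K.a ^ i * K.b ^ j * K.c ^ k)⁻¹ * g) = px ^ e := by
    rw [K.p_mul hu.1.inv_left hg, K.toDAlt.p_inv hu.1, K.p_abc, hp, inv_mul_cancel_left]
  interval_cases e
  · rcases K.toDAlt.eq_or (Commute.one_left K.z) hv (by rw [hpv, K.toDAlt.p_one, pow_zero]) with h | h
    · exact Or.inl h
    · exact Or.inr (Or.inl (by rw [h, one_mul]))
  · rcases K.toDAlt.eq_or K.xz hv (by rw [hpv, K.p_x, pow_one]) with h | h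
    · exact Or.inr (Or.inr (Or.inl h))
    · exact Or.inr (Or.inr (Or.inr h))

theorem fix_of_A {g : G} (hg : Commute g K.z) (hn : ∀ u ∈ K.A, g * u * g⁻¹ ∈ K.A)
    {y : Fin (m + 9)} (hy : 9 ≤ y.val) : K.p g y = y := by
  have hm := K.hm
  have h9 : ∀ i, i < 3 → ∀ j, j < 3 → ∀ k, k < 3 → ∀ y : Fin (m + 9), 9 ≤ y.val →
      (pa ^ i * pb ^ j * pc ^ k : Perm (Fin (m + 9))) y = y := by
    interval_cases m <;> decide +kernel
  have hfix : ∀ u ∈ K.A, K.p u ((K.p g)⁻¹ y) = (K.p g)⁻¹ y := by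
    intro u hu
    obtain ⟨i, hi, j, hj, k, hk, e⟩ := K.A_eq (hn u hu)
    have h1 := K.toDAlt.p_conj hg hu.1
    rw [e, K.p_abc] at h1
    have h2 := h9 i hi j hj k hk y hy
    rw [h1, Perm.mul_apply, Perm.mul_apply] at h2
    exact Perm.eq_inv_iff_eq.2 h2
  have hd : ∀ w : Fin (m + 9), (pa : Perm (Fin (m + 9))) w = w → (pb : Perm (Fin (m + 9))) w = w →
      (pc : Perm (Fin (m + 9))) w = w → ∀ y : Fin (m + 9), 9 ≤ y.val → w = y := by
    interval_cases m <;> decide +kernel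
  have ha := hfix _ K.a_mem
  have hb := hfix _ K.b_mem
  have hc := hfix _ K.c_mem
  rw [K.p_a] at ha
  rw [K.p_b] at hb
  rw [K.p_c] at hc
  have := hd _ ha hb hc y hy
  exact (Perm.inv_eq_iff_eq.1 this).symm

/-- The normalizer of `A` in the centralizer of `z` and `h`. -/
theorem norm_A {g : G} (hg : Commute g K.z) (hgh : Commute g K.h) (hn : ∀ u ∈ K.A, g * u * g⁻¹ ∈ K.A) :
    ∃ u ∈ K.A, ∃ v ∈ K.V, g = u * v := by
  obtain ⟨i, -, j, -, k, -, e, he, hp⟩ := comm_ph_fix K.hm (σ := K.p g)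
    (by rw [← K.p_h]; exact (K.p_mul hg K.hz).symm.trans (hgh.eq ▸ K.p_mul K.hz hg))
    (K.sign_p hg) (fun y hy => K.fix_of_A hg hn hy)
  exact K.mem_AV hg he hp

/-- With nine points the centralizer of `z` and `h` is `A V`. -/
theorem cent_h_nine (h0 : m = 0) {g : G} (hg : Commute g K.z) (hgh : Commute g K.h) :
    ∃ u ∈ K.A, ∃ v ∈ K.V, g = u * v := by
  obtain ⟨i, -, j, -, k, -, e, he, hp⟩ := comm_ph_fix K.hm (σ := K.p g)
    (by rw [← K.p_h]; exact (K.p_mul hg K.hz).symm.trans (hgh.eq ▸ K.p_mul K.hz hg))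
    (K.sign_p hg) (fun y hy => absurd y.isLt (by omega))
  exact K.mem_AV hg he hp

theorem image_comm {g u : G} (hg : Commute g K.z) (hu : Commute u K.z) (h : Commute g u) :
    Commute (K.p g) (K.p u) := by
  show _ = _
  rw [← K.p_mul hg hu, ← K.p_mul hu hg, h.eq]

/-- The centralizer of `z`, `h` and a product involving the third rotation. -/
theorem cent_h_abc {g : G} (hg : Commute g K.z) (hgh : Commute g K.h) {i j k : ℕ} (hi : i < 3)
    (hj : j < 3) (hk : k < 3) (hk0 : 0 < k)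
    (hgv : Commute g (K.a ^ i * K.b ^ j * K.c ^ k)) :
    g ∈ K.A ∨ g * K.z ∈ K.A := by
  have hm := K.hm
  have hv : Commute (K.a ^ i * K.b ^ j * K.c ^ k) K.z :=
    ((K.az.pow_left i).mul_left (K.bz.pow_left j)).mul_left (K.cz.pow_left k)
  have h1 := K.image_comm hg hv hgv
  rw [K.p_abc] at h1
  have h2 := K.image_comm hg K.hz hgh
  rw [K.p_h] at h2
  have hfix9 : ∀ i, i < 3 → ∀ j, j < 3 → ∀ k, k < 3 → 0 < k → ∀ y : Fin (m + 9), 9 ≤ y.val →
      ∀ w : Fin (m + 9), (ph : Perm (Fin (m + 9))) w = w →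
      (pa ^ i * pb ^ j * pc ^ k : Perm (Fin (m + 9))) w = w → w = y := by
    interval_cases m <;> decide +kernel
  have hy9 : ∀ i, i < 3 → ∀ j, j < 3 → ∀ k, k < 3 → ∀ y : Fin (m + 9), 9 ≤ y.val →
      (ph : Perm (Fin (m + 9))) y = y ∧ (pa ^ i * pb ^ j * pc ^ k : Perm (Fin (m + 9))) y = y := by
    interval_cases m <;> decide +kernel
  obtain ⟨i', hi', j', hj', k', hk', e, he, hp⟩ := comm_ph_fix K.hm (σ := K.p g) h2 (K.sign_p hg)
    (fun y hy => hfix9 i hi j hj k hk hk0 y hy _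
      (by rw [← comm_apply h2, (hy9 i hi j hj k hk y hy).1])
      (by rw [← comm_apply h1, (hy9 i hi j hj k hk y hy).2]))
  have hd : ∀ i, i < 3 → ∀ j, j < 3 → ∀ k, k < 3 → 0 < k → ∀ i', i' < 3 → ∀ j', j' < 3 → ∀ k', k' < 3 →
      (pa ^ i' * pb ^ j' * pc ^ k' * px : Perm (Fin (m + 9))) ((pa ^ i * pb ^ j * pc ^ k : Perm (Fin (m + 9))) 6) ≠
        (pa ^ i * pb ^ j * pc ^ k : Perm (Fin (m + 9))) ((pa ^ i' * pb ^ j' * pc ^ k' * px : Perm (Fin (m + 9))) 6) := by
    interval_cases m <;> decide +kernel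
  have he0 : e = 0 := by
    by_contra h
    obtain rfl : e = 1 := by omega
    rw [pow_one] at hp
    exact hd i hi j hj k hk hk0 i' hi' j' hj' k' hk' (by rw [← hp]; exact comm_apply h1 6)
  subst he0
  rw [pow_zero, mul_one] at hp
  have hmem : K.a ^ i' * K.b ^ j' * K.c ^ k' ∈ K.A :=
    mul_mem (mul_mem (pow_mem K.a_mem _) (pow_mem K.b_mem _)) (pow_mem K.c_mem _)
  rcases K.toDAlt.eq_or hmem.1 hg ((K.p_abc i' j' k').trans hp.symm) with h | h
  · exact Or.inl (h ▸ hmem)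
  · refine Or.inr ?_
    rw [h, mul_assoc, K.sq_z, mul_one]
    exact hmem

/-- The centralizer of `z`, `x` and `h`. -/
theorem cent_xh {g : G} (hg : Commute g K.z) (hgx : Commute g K.x) (hgh : Commute g K.h) :
    ∃ i, i < 3 ∧ ∃ v ∈ K.V, g = K.h ^ i * v := by
  have h1 := K.image_comm hg K.xz hgx
  rw [K.p_x] at h1
  have h2 := K.image_comm hg K.hz hgh
  rw [K.p_h] at h2
  obtain ⟨i, hi, hcases⟩ := comm_px_ph K.hm h1 h2 (K.sign_p hg)
  refine ⟨i, hi, (K.h ^ i)⁻¹ * g, ?_, by group⟩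
  have hiz : Commute (K.h ^ i) K.z := K.hz.pow_left i
  have hrz : Commute ((K.h ^ i)⁻¹ * g) K.z := hiz.inv_left.mul_left hg
  have hrx : Commute ((K.h ^ i)⁻¹ * g) K.x := (K.hx.pow_left i).inv_left.mul_left hgx
  have hpr : K.p ((K.h ^ i)⁻¹ * g) = (ph ^ i)⁻¹ * K.p g := by
    rw [K.p_mul hiz.inv_left hg, K.toDAlt.p_inv hiz, K.toDAlt.p_pow K.hz, K.p_h]
  rcases hcases with e | e | ⟨hm1, e⟩
  · rcases K.toDAlt.eq_or (Commute.one_left K.z) hrz (by rw [hpr, e, inv_mul_cancel, K.toDAlt.p_one]) with h | h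
    · exact Or.inl h
    · exact Or.inr (Or.inl (by rw [h, one_mul]))
  · rcases K.toDAlt.eq_or K.xz hrz (by rw [hpr, e, inv_mul_cancel_left, K.p_x]) with h | h
    · exact Or.inr (Or.inr (Or.inl h))
    · exact Or.inr (Or.inr (Or.inr h))
  exfalso
  have hkill : ∀ r : G, Commute r K.z → Commute r K.x → K.p r ≠ pq9 := by
    intro r hr hrx' hrp
    rcases K.toDAlt.eq_or (K.q9z hm1) hr ((K.p_q9 hm1).trans hrp.symm) with h | h
    · have := K.q9_x hm1
      rw [← h, hrx'.eq, mul_inv_cancel_right] at this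
      exact K.z_ne (mul_eq_left.1 this.symm)
    · have h' : Commute K.q9 K.x := by
        have := hrx'.mul_left K.xz.symm
        rwa [h, mul_assoc, K.sq_z, mul_one] at this
      have := K.q9_x hm1
      rw [h'.eq, mul_inv_cancel_right] at this
      exact K.z_ne (mul_eq_left.1 this.symm)
  rcases e with e | e
  · exact hkill _ hrz hrx (by rw [hpr, e, inv_mul_cancel_left])
  · refine hkill _ (hrz.mul_left K.xz) (hrx.mul_left (Commute.refl _)) ?_
    rw [K.p_mul hrz K.xz, hpr, e, ← mul_assoc (ph ^ i)⁻¹, inv_mul_cancel_left, K.p_x]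
    have hm := K.hm
    subst hm1
    decide

/-- An element of the centralizers of `z` and `c` with square one. -/
theorem invol_c {g : G} (hg : Commute g K.z) (hgc : Commute g K.c) (h2 : g * g = 1) :
    g = 1 ∨ g = K.z := by
  have h1 := K.image_comm hg K.cz hgc
  rw [K.p_c] at h1
  exact K.ker hg (eight_comm_pc K.hm (by rw [← K.p_mul hg hg, h2, K.toDAlt.p_one])
    (K.toDAlt.invol_support hg h2) h1)

/-- The centralizer of a product of all three rotations has no element of order four. -/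
theorem four_full {g : G} (hg : Commute g K.z) {i j k : ℕ} (hi0 : 0 < i) (hi : i < 3) (hj0 : 0 < j)
    (hj : j < 3) (hk0 : 0 < k) (hk : k < 3) (hgv : Commute g (K.a ^ i * K.b ^ j * K.c ^ k))
    (h2 : g * g = 1 ∨ g * g = K.z) : g = 1 ∨ g = K.z := by
  have h1 := K.image_comm hg (((K.az.pow_left i).mul_left (K.bz.pow_left j)).mul_left (K.cz.pow_left k)) hgv
  rw [K.p_abc] at h1
  refine K.ker hg (four_comm_full K.hm hi0 hi hj0 hj hk0 hk ?_ h1)
  refine (K.toDAlt.sq_invol _ hg rfl ?_).1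
  rcases h2 with h | h
  · rw [← K.p_mul hg hg, h, K.toDAlt.p_one]
  · rw [← K.p_mul hg hg, h, K.p_z]

/-- The exponent of the centralizer of `z` and `h`. -/
theorem cent_h_pow {g : G} (hg : Commute g K.z) (hgh : Commute g K.h) : g ^ 48 = 1 := by
  have h2 := K.image_comm hg K.hz hgh
  rw [K.p_h] at h2
  have h := comm_ph_pow K.hm h2
  rw [← K.toDAlt.p_pow hg] at h
  rw [show (48 : ℕ) = 24 * 2 from rfl, pow_mul]
  rcases K.ker (hg.pow_left 24) h with e | e <;> rw [e, pow_two]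
  · exact one_mul 1
  · exact K.sq_z

/-- The pairs of `x`. -/
noncomputable def pairing : Pairing (K.p K.x) 4 where
  e := ⟨pairPts, pairPts_injective K.hm⟩
  swap_e := by rw [K.p_x]; exact pairPts_swap K.hm
  fix := fun y hy => by rw [K.p_x]; exact pairPts_fix K.hm y hy

variable [Finite G]

theorem three_kernel {g : K.toDAlt.cent2 K.x} (h3 : (g : G) ^ 3 = 1)
    (hψ : K.toDAlt.pairHom K.pairing K.xz g = 1) : (g : G) = 1 := by
  classical
  have hgz : Commute (g : G) K.z := (K.toDAlt.mem_cent2.1 g.2).1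
  set σ := K.p (g : G) with hσdef
  have hσ3 : σ ^ 3 ^ 1 = 1 := by rw [pow_one, hσdef, ← K.toDAlt.p_pow hgz, h3, K.toDAlt.p_one]
  have hfix : ∀ v, σ (K.pairing.e v) = K.pairing.e v := by
    rintro ⟨i, b⟩
    obtain ⟨b', hb'⟩ := K.toDAlt.pairHom_spec K.pairing K.xz g i b
    rw [hψ, Perm.one_apply] at hb'
    by_cases hbb : b' = b
    · rw [hσdef, hb', hbb]
    exfalso
    obtain ⟨c', hc'⟩ := K.toDAlt.pairHom_spec K.pairing K.xz g i b'
    rw [hψ, Perm.one_apply] at hc'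
    have hcb : c' ≠ b' := fun e => hbb (by
      rw [e] at hc'
      exact (congrArg Prod.snd (K.pairing.e.injective (σ.injective (hb'.trans hc'.symm)))).symm)
    have hc : c' = b := by cases b <;> cases b' <;> cases c' <;> simp_all
    rw [hc] at hc'
    have h2 : σ (σ (σ (K.pairing.e (i, b)))) = K.pairing.e (i, b) := by
      have h' : σ ^ 3 = 1 := by simpa using hσ3
      simpa [pow_succ, Perm.mul_apply] using DFunLike.congr_fun h' (K.pairing.e (i, b))
    rw [hσdef, hb', hc', hb'] at h2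
    exact hbb (congrArg Prod.snd (K.pairing.e.injective h2))
  haveI : Fact (Nat.Prime 3) := ⟨Nat.prime_three⟩
  have hmod := Equiv.Perm.card_compl_support_modEq (σ := σ) hσ3
  have hge : 8 ≤ σ.supportᶜ.card := by
    refine le_trans ?_ (Finset.card_le_card (s := Finset.univ.map K.pairing.e) ?_)
    · rw [Finset.card_map]; simp
    · intro y hy
      obtain ⟨v, -, rfl⟩ := Finset.mem_map.1 hy
      rw [Finset.mem_compl, Perm.mem_support, not_not]
      exact hfix v
  have hle := Finset.card_le_univ σ.supportᶜ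
  rw [Fintype.card_fin] at hmod hle
  have hsupp : σ.support.card = 0 := by
    have e : σ.supportᶜ.card % 3 = (m + 9) % 3 := hmod
    have := Finset.card_compl σ.support
    rw [Fintype.card_fin] at this
    have := K.hm
    omega
  rcases K.ker hgz (Perm.support_eq_empty_iff.1 (Finset.card_eq_zero.1 hsupp)) with e | e
  · exact e
  · rw [e, pow_succ, pow_two, K.sq_z, one_mul] at h3
    exact absurd h3 K.z_ne

/-- A three-subgroup of the centralizer of `z` and `x` has order at most three. -/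
theorem three_cent_x {P : Subgroup G} (hP : IsPGroup 3 P) (hle : P ≤ K.toDAlt.cent2 K.x) :
    Nat.card P ≤ 3 := by
  haveI : Fact (Nat.Prime 3) := ⟨Nat.prime_three⟩
  set ψ := (K.toDAlt.pairHom K.pairing K.xz).comp (Subgroup.inclusion hle)
  have hinj : Function.Injective ψ := by
    rw [injective_iff_map_eq_one]
    intro g hg
    obtain ⟨k, hk⟩ := hP g
    clear hk
    -- reduce to an element of order three
    by_contra hne
    have hd : 3 ∣ orderOf g := by
      obtain ⟨k, hk⟩ := IsPGroup.iff_orderOf.1 hP g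
      rw [hk]
      refine dvd_pow_self 3 fun h0 => hne ?_
      rw [h0, pow_zero, orderOf_eq_one_iff] at hk
      exact hk
    obtain ⟨r, hr⟩ := hd
    have hr3 : (g ^ r) ^ 3 = 1 := by rw [← pow_mul, mul_comm, ← hr, pow_orderOf_eq_one]
    have h1 : ((g ^ r : P) : G) = 1 := K.three_kernel (g := Subgroup.inclusion hle (g ^ r))
      (by simpa using congrArg Subtype.val hr3)
      (by show ψ (g ^ r) = 1; rw [map_pow, hg, one_pow])
    have h2 : orderOf g ∣ r := orderOf_dvd_of_pow_eq_one (Subtype.ext h1)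
    have hr0 : 0 < r := by
      rcases Nat.eq_zero_or_pos r with rfl | h
      · exact absurd hr (by rw [mul_zero]; exact (orderOf_pos g).ne')
      · exact h
    have := Nat.le_of_dvd hr0 h2
    omega
  have hd := Subgroup.card_subgroup_dvd_card ψ.range
  rw [← Nat.card_congr (MonoidHom.ofInjective hinj).toEquiv, Nat.card_perm, Nat.card_fin] at hd
  obtain ⟨k, hk⟩ := IsPGroup.iff_card.1 hP
  rw [hk] at hd ⊢
  rcases k with _ | _ | k
  · norm_num
  · norm_num
  · exfalso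
    have : 3 ^ 2 ∣ Nat.factorial 4 := (pow_dvd_pow 3 (by omega)).trans hd
    exact absurd this (by decide)

end Ctx

end Cfsg.Agent.Spor.DoubleAlt
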