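import Cfsg.Agent.Lib.Spor.DoubleAlt.Nine.Formula

/-!
# The centralizer of the third rotation

`C(c) = O · C(c, z)` with `O` of odd order; the points of `O` fixed by `x` form a group `U` which is
trivial, or of order nine and then there are nine points.
-/

set_option autoImplicit false
set_option linter.style.haveILetI false
set_option linter.unusedSectionVars false
set_option maxHeartbeats 1000000
set_option synthInstance.maxHeartbeats 400000
set_option synthInstance.maxSize 2048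

open Equiv Equiv.Perm
open scoped Pointwise

namespace Cfsg.Agent.Spor.DoubleAlt

open Nine

universe u

theorem pc_ne_one {m : ℕ} (hm : m ≤ 1) : (pc : Perm (Fin (m + 9))) ≠ 1 := by
  interval_cases m <;> decide

theorem pt_ne_one {m : ℕ} (hm : m ≤ 1) : (pt : Perm (Fin (m + 9))) ≠ 1 := by
  interval_cases m <;> decide

theorem pa_ne_pb {m : ℕ} (hm : m ≤ 1) : (pa : Perm (Fin (m + 9))) ≠ pb := by
  interval_cases m <;> decide

theorem factorization_three {m : ℕ} (hm : m ≤ 1) : (m + 9).factorial.factorization 3 = 4 := by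
  have h0 : (m + 9).factorial ≠ 0 := Nat.factorial_ne_zero _
  have h1 : 3 ^ 4 ∣ (m + 9).factorial := by interval_cases m <;> decide
  have h2 : ¬ 3 ^ 5 ∣ (m + 9).factorial := by interval_cases m <;> decide
  rw [Nat.prime_three.pow_dvd_iff_le_factorization h0] at h1 h2
  omega

theorem quat_perms_injective {m : ℕ} (hm : m ≤ 1) :
    Function.Injective (![1, pq1, pq2, pq1 * pq2] : Fin 4 → Perm (Fin (m + 9))) := by
  unfold Function.Injective
  interval_cases m <;> decide

namespace Ctx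

variable {G : Type u} [Group G] {m : ℕ} (K : Ctx G m)
include K

theorem norm_cent_c {g : G} (h : g * K.c * g⁻¹ = K.c ∨ g * K.c * g⁻¹ = K.c⁻¹) :
    g ∈ Subgroup.normalizer ((Subgroup.centralizer {K.c} : Subgroup G) : Set G) := by
  rw [Subgroup.mem_normalizer_iff]
  intro u
  rw [Subgroup.mem_centralizer_singleton_iff, Subgroup.mem_centralizer_singleton_iff]
  have key : ∀ d : G, g * K.c * g⁻¹ = d → (g * u * g⁻¹ * d = d * (g * u * g⁻¹) ↔ u * K.c = K.c * u) := by
    rintro _ rfl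
    constructor <;> intro e
    · calc u * K.c = g⁻¹ * (g * u * g⁻¹ * (g * K.c * g⁻¹)) * g := by group
        _ = g⁻¹ * (g * K.c * g⁻¹ * (g * u * g⁻¹)) * g := by rw [e]
        _ = K.c * u := by group
    · calc g * u * g⁻¹ * (g * K.c * g⁻¹) = g * (u * K.c) * g⁻¹ := by group
        _ = g * (K.c * u) * g⁻¹ := by rw [e]
        _ = g * K.c * g⁻¹ * (g * u * g⁻¹) := by group
  rcases h with e | e
  · exact (key _ e).symm
  · rw [← key _ e]
    show Commute (g * u * g⁻¹) K.c⁻¹ ↔ Commute (g * u * g⁻¹) K.c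
    exact Commute.inv_right_iff

theorem norm_of_comm {g : G} (h : Commute g K.c) :
    g ∈ Subgroup.normalizer ((Subgroup.centralizer {K.c} : Subgroup G) : Set G) :=
  K.norm_cent_c (Or.inl (mul_inv_eq_iff_eq_mul.2 h.eq))

theorem pc_pow_mul (i j : ℕ) : (pc ^ i * pc ^ j : Perm (Fin (m + 9))) = pc ^ (i + j) := (pow_add _ _ _).symm

/-- A normal subgroup of the centralizer of `z` and `c` is central up to the rotations of the third
block, or contains `z`. -/
theorem normal_cent_c {N : Subgroup G} (hN : ∀ g ∈ N, Commute g K.z ∧ Commute g K.c)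
    (hnor : ∀ g : G, Commute g K.z → Commute g K.c → ∀ u ∈ N, g * u * g⁻¹ ∈ N) :
    (∀ g ∈ N, ∃ i, i < 3 ∧ K.p g = pc ^ i) ∨ K.z ∈ N := by
  classical
  have hm := K.hm
  let q : Fin (m + 9) → Prop := fun y => y.val < 6 ∨ 9 ≤ y.val
  let emb : Perm (Subtype q) →* Perm (Fin (m + 9)) := Perm.ofSubtype
  have hout : ∀ (k : Perm (Subtype q)) (y : Fin (m + 9)), ¬ q y → emb k y = y := fun k y hy =>
    Perm.ofSubtype_apply_of_not_mem k hy
  have hpcfix : ∀ i, i < 3 → ∀ y : Fin (m + 9), (y.val < 6 ∨ 9 ≤ y.val) →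
      (pc ^ i : Perm (Fin (m + 9))) y = y := by
    interval_cases m <;> decide +kernel
  have hcomm : ∀ (k : Perm (Subtype q)), Commute (pc : Perm (Fin (m + 9))) (emb k) := fun k =>
    Perm.Disjoint.commute fun y => by
      by_cases hy : q y
      · refine Or.inl ?_
        have := hpcfix 1 (by norm_num) y hy
        rwa [pow_one] at this
      · exact Or.inr (hout k y hy)
  have hlift : ∀ k : Perm (Subtype q), sign k = 1 → ∃ g, Commute g K.z ∧ Commute g K.c ∧ K.p g = emb k := by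
    intro k hk
    obtain ⟨g, hg, hg'⟩ := K.surj (σ := emb k) (by rw [sign_ofSubtype, hk])
    exact ⟨g, hg, (K.comm3 K.cz hg K.c3 (by rw [K.p_c, hg']; exact hcomm k)).symm, hg'⟩
  have hdec : ∀ g ∈ N, ∃ i, i < 3 ∧ ∃ k : Perm (Subtype q), sign k = 1 ∧ K.p g = pc ^ i * emb k := by
    intro g hg
    obtain ⟨hgz, hgc⟩ := hN g hg
    have h1 := K.image_comm hgz K.cz hgc
    rw [K.p_c] at h1
    obtain ⟨i, hi, hagree⟩ := comm_pc K.hm h1
    set ρ := (pc ^ i : Perm (Fin (m + 9)))⁻¹ * K.p g with hρ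
    have hfix : ∀ y, ¬ q y → ρ y = y := by
      intro y hy
      simp only [q, not_or, not_lt, not_le] at hy
      rw [hρ, Perm.mul_apply, hagree y hy.1 hy.2]
      exact (pc ^ i : Perm (Fin (m + 9))).symm_apply_apply y
    have hq1 : ∀ y, q (ρ y) ↔ q y := by
      intro y
      by_cases hy : q y
      · refine iff_of_true ?_ hy
        by_contra h
        exact h (by rwa [ρ.injective (hfix _ h)])
      · rw [hfix y hy]
    have hq2 : ∀ y, ρ y ≠ y → q y := fun y h => by_contra fun hy => h (hfix y hy)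
    refine ⟨i, hi, ρ.subtypePerm hq1, ?_, ?_⟩
    · have hs : sign (pc ^ i : Perm (Fin (m + 9))) = 1 := by
        rw [← K.p_c, ← K.toDAlt.p_pow K.cz]; exact K.sign_p (K.cz.pow_left i)
      rw [← sign_ofSubtype, Perm.ofSubtype_subtypePerm hq1 hq2, hρ, map_mul, map_inv, hs, K.sign_p hgz]
      simp
    · rw [show emb (ρ.subtypePerm hq1) = ρ from Perm.ofSubtype_subtypePerm hq1 hq2, hρ, mul_inv_cancel_left]
  let M : Subgroup (alternatingGroup (Subtype q)) :=
    { carrier := {k | ∃ g ∈ N, ∃ i : ℕ, K.p g = pc ^ i * emb k}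
      one_mem' := ⟨1, one_mem _, 0, by rw [K.toDAlt.p_one, pow_zero, one_mul, OneMemClass.coe_one, map_one]⟩
      mul_mem' := by
        rintro k l ⟨g, hg, i, e⟩ ⟨g', hg', i', e'⟩
        refine ⟨g * g', mul_mem hg hg', i + i', ?_⟩
        rw [K.p_mul (hN g hg).1 (hN g' hg').1, e, e', Subgroup.coe_mul, map_mul, pow_add]
        calc pc ^ i * emb k * (pc ^ i' * emb l) = pc ^ i * (emb k * pc ^ i') * emb l := by group
          _ = _ := by rw [((hcomm k).pow_left i').symm.eq]; group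
      inv_mem' := by
        rintro k ⟨g, hg, i, e⟩
        refine ⟨g⁻¹, inv_mem hg, i + i, ?_⟩
        rw [K.toDAlt.p_inv (hN g hg).1, e, mul_inv_rev, InvMemClass.coe_inv, map_inv]
        have h3 : (pc ^ i : Perm (Fin (m + 9)))⁻¹ = pc ^ (i + i) := by
          refine inv_eq_of_mul_eq_one_right ?_
          rw [← pow_add, show i + (i + i) = 3 * i by ring, pow_mul, K.pc_three, one_pow]
        rw [h3, ((hcomm k).pow_left (i + i)).inv_right.eq] }
  haveI : IsSimpleGroup (alternatingGroup (Subtype q)) := by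
    refine alternatingGroup.isSimpleGroup ?_
    rw [Nat.card_eq_fintype_card]
    interval_cases m <;> decide
  haveI hMn : M.Normal := by
    refine ⟨fun k hk l => ?_⟩
    obtain ⟨g, hg, i, e⟩ := hk
    obtain ⟨u, hu, huc, hu'⟩ := hlift l (mem_alternatingGroup.1 l.2)
    refine ⟨u * g * u⁻¹, hnor u hu huc g hg, i, ?_⟩
    rw [K.toDAlt.p_conj hu (hN g hg).1, hu', e, Subgroup.coe_mul, Subgroup.coe_mul, InvMemClass.coe_inv,
      map_mul, map_mul, map_inv]
    calc emb l * (pc ^ i * emb k) * (emb l)⁻¹ = (emb l * pc ^ i) * emb k * (emb l)⁻¹ := by group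
      _ = _ := by rw [← ((hcomm l).pow_left i).eq]; group
  rcases hMn.eq_bot_or_eq_top with hbot | htop
  · left
    intro g hg
    obtain ⟨i, hi, k, hk, e⟩ := hdec g hg
    have hmem : (⟨k, mem_alternatingGroup.2 hk⟩ : alternatingGroup (Subtype q)) ∈ M := ⟨g, hg, i, e⟩
    rw [hbot, Subgroup.mem_bot] at hmem
    refine ⟨i, hi, ?_⟩
    rw [e, show k = 1 from congrArg Subtype.val hmem, map_one, mul_one]
  · right
    have hps : ∀ y : Fin (m + 9), (y.val < 6 ∨ 9 ≤ y.val) ↔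
        (((ps : Perm (Fin (m + 9))) y).val < 6 ∨ 9 ≤ ((ps : Perm (Fin (m + 9))) y).val) := by
      interval_cases m <;> decide +kernel
    have hps2 : ∀ y : Fin (m + 9), (ps : Perm (Fin (m + 9))) y ≠ y → (y.val < 6 ∨ 9 ≤ y.val) := by
      interval_cases m <;> decide +kernel
    set k := (ps : Perm (Fin (m + 9))).subtypePerm (p := q) (fun y => (hps y).symm) with hkdef
    have hk : emb k = ps := Perm.ofSubtype_subtypePerm (fun y => (hps y).symm) hps2
    have hks : sign k = 1 := by rw [← sign_ofSubtype]; exact hk ▸ K.sign_ps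
    obtain ⟨g, hg, i, e⟩ : (⟨k, mem_alternatingGroup.2 hks⟩ : alternatingGroup (Subtype q)) ∈ M :=
      htop ▸ Subgroup.mem_top _
    simp only at e
    rw [hk] at e
    have hgz := (hN g hg).1
    have hcps : Commute (pc : Perm (Fin (m + 9))) ps := hk ▸ hcomm k
    have hps3 : (ps : Perm (Fin (m + 9))) ^ 3 = ps := by interval_cases m <;> decide +kernel
    have hp3 : K.p (g ^ 3) = ps := by
      rw [K.toDAlt.p_pow hgz, e, (hcps.pow_left i).mul_pow, ← pow_mul, mul_comm i, pow_mul, K.pc_three,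
        one_pow, one_mul, hps3]
    have h6 : g ^ 3 * g ^ 3 = K.z :=
      K.sq_two (hgz.pow_left 3) 0 1 3 4 (by interval_cases m <;> decide) hp3
    rw [← h6]
    exact mul_mem (pow_mem hg 3) (pow_mem hg 3)

variable [Finite G]

theorem hun_c : ∀ u ∈ Subgroup.centralizer {K.c}, Commute u K.z → u * u = 1 → u = 1 ∨ u = K.z :=
  fun _ hu hz h2 => K.invol_c hz (Subgroup.mem_centralizer_singleton_iff.1 hu) h2

theorem z_cent_c : K.z ∈ Subgroup.centralizer {K.c} :=
  Subgroup.mem_centralizer_singleton_iff.2 K.cz.eq.symm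

/-- The odd core of the centralizer of `c`. -/
noncomputable def O : Subgroup G :=
  (odd_core_factor K.z_cent_c K.sq_z K.z_ne K.hun_c).choose

theorem O_spec : K.O ≤ Subgroup.centralizer {K.c} ∧ Odd (Nat.card K.O) ∧
    Subgroup.centralizer {K.c} ≤ Subgroup.normalizer (K.O : Set G) ∧
    (∀ g ∈ Subgroup.normalizer ((Subgroup.centralizer {K.c} : Subgroup G) : Set G),
      g ∈ Subgroup.normalizer (K.O : Set G)) ∧
    (∀ N ≤ Subgroup.centralizer {K.c}, Odd (Nat.card N) →
      Subgroup.centralizer {K.c} ≤ Subgroup.normalizer (N : Set G) → N ≤ K.O) ∧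
    ∀ g ∈ Subgroup.centralizer {K.c}, ∃ o ∈ K.O, Commute (o⁻¹ * g) K.z :=
  (odd_core_factor K.z_cent_c K.sq_z K.z_ne K.hun_c).choose_spec

theorem O_comm {o : G} (ho : o ∈ K.O) : Commute o K.c :=
  Subgroup.mem_centralizer_singleton_iff.1 (K.O_spec.1 ho)

theorem norm_O {g : G} (h : g * K.c * g⁻¹ = K.c ∨ g * K.c * g⁻¹ = K.c⁻¹) :
    g ∈ Subgroup.normalizer (K.O : Set G) := K.O_spec.2.2.2.1 g (K.norm_cent_c h)

theorem norm_O_comm {g : G} (h : Commute g K.c) : g ∈ Subgroup.normalizer (K.O : Set G) :=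
  K.norm_O (Or.inl (mul_inv_eq_iff_eq_mul.2 h.eq))

theorem z_norm_O : K.z ∈ Subgroup.normalizer (K.O : Set G) := K.norm_O_comm K.cz.symm

theorem x_norm_O : K.x ∈ Subgroup.normalizer (K.O : Set G) := K.norm_O (Or.inr K.x_c)

theorem s_norm_O : K.s ∈ Subgroup.normalizer (K.O : Set G) := K.norm_O_comm K.cs.symm

theorem orderOf_c : orderOf K.c = 3 := by
  haveI : Fact (Nat.Prime 3) := ⟨Nat.prime_three⟩
  refine orderOf_eq_prime K.c3 fun e => ?_
  have h : K.p K.c = 1 := by rw [e, K.toDAlt.p_one]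
  rw [K.p_c] at h
  exact pc_ne_one K.hm h

theorem c_mem_O : K.c ∈ K.O := by
  refine K.O_spec.2.2.2.2.1 (Subgroup.zpowers K.c) ?_ ?_ ?_ (Subgroup.mem_zpowers _)
  · rw [Subgroup.zpowers_le, Subgroup.mem_centralizer_singleton_iff]
  · rw [Nat.card_zpowers, K.orderOf_c]
    exact ⟨1, rfl⟩
  · intro g hg
    refine Subgroup.mem_normalizer_iff.2 fun u => ?_
    have hgc : Commute g K.c := Subgroup.mem_centralizer_singleton_iff.1 hg
    constructor
    · rintro ⟨k, rfl⟩
      refine ⟨k, ?_⟩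
      show K.c ^ k = g * K.c ^ k * g⁻¹
      rw [(hgc.zpow_right k).eq, mul_inv_cancel_right]
    · rintro ⟨k, hk⟩
      refine ⟨k, ?_⟩
      have hk' : K.c ^ k = g * u * g⁻¹ := hk
      show K.c ^ k = u
      calc K.c ^ k = g⁻¹ * (g * K.c ^ k) := by group
        _ = g⁻¹ * (K.c ^ k * g) := by rw [(hgc.zpow_right k).eq]
        _ = u := by rw [hk']; group

theorem z_notMem_odd {L : Subgroup G} (h : Odd (Nat.card L)) : K.z ∉ L := fun hz => by
  haveI : Fact (Nat.Prime 2) := ⟨Nat.prime_two⟩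
  have h2 : orderOf K.z = 2 := orderOf_eq_prime (by rw [pow_two]; exact K.sq_z) K.z_ne
  exact (Nat.not_even_iff_odd.2 h) (even_iff_two_dvd.2 (h2 ▸ Subgroup.orderOf_dvd_natCard L hz))

/-- The points of `O` fixed by `z` are the powers of `c`. -/
theorem O_cent_z {o : G} (ho : o ∈ K.O) (hz : Commute o K.z) : o ∈ Subgroup.zpowers K.c := by
  set N := K.O ⊓ Subgroup.centralizer {K.z}
  have hN : ∀ g ∈ N, Commute g K.z ∧ Commute g K.c := fun g hg =>
    ⟨Subgroup.mem_centralizer_singleton_iff.1 hg.2, K.O_comm hg.1⟩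
  have hnor : ∀ g : G, Commute g K.z → Commute g K.c → ∀ u ∈ N, g * u * g⁻¹ ∈ N := fun g hgz hgc u hu =>
    ⟨(Subgroup.mem_normalizer_iff.1 (K.norm_O_comm hgc) u).1 hu.1,
      Subgroup.mem_centralizer_singleton_iff.2 (K.toDAlt.comm_conj hgz (hN u hu).1).eq⟩
  rcases K.normal_cent_c hN hnor with h | h
  · obtain ⟨i, -, e⟩ := h o ⟨ho, Subgroup.mem_centralizer_singleton_iff.2 hz.eq⟩
    rcases K.toDAlt.eq_or (K.cz.pow_left i) hz (by rw [K.toDAlt.p_pow K.cz, K.p_c, e]) with h1 | h1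
    · exact h1 ▸ ⟨i, zpow_natCast _ _⟩
    · exfalso
      refine K.z_notMem_odd K.O_spec.2.1 ?_
      rw [show K.z = (K.c ^ i)⁻¹ * o by rw [h1]; group]
      exact mul_mem (inv_mem (pow_mem K.c_mem_O i)) ho
  · exact absurd h.1 (K.z_notMem_odd K.O_spec.2.1)

theorem card_O_z : Nat.card (K.O ⊓ Subgroup.centralizer {K.z} : Subgroup G) = 3 := by
  have : K.O ⊓ Subgroup.centralizer {K.z} = Subgroup.zpowers K.c := by
    refine le_antisymm (fun o ho => K.O_cent_z ho.1 (Subgroup.mem_centralizer_singleton_iff.1 ho.2))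
      (Subgroup.zpowers_le.2 ⟨K.c_mem_O, Subgroup.mem_centralizer_singleton_iff.2 K.cz.eq⟩)
  rw [this, Nat.card_zpowers, K.orderOf_c]

/-- The points of `O` fixed by `x`. -/
noncomputable def U : Subgroup G := K.O ⊓ Subgroup.centralizer {K.x}

theorem mem_U {u : G} : u ∈ K.U ↔ u ∈ K.O ∧ Commute u K.x := by
  rw [U, Subgroup.mem_inf, Subgroup.mem_centralizer_singleton_iff]; rfl

theorem U_cent_z {u : G} (hu : u ∈ K.U) (hz : Commute u K.z) : u = 1 := by
  obtain ⟨huO, hux⟩ := K.mem_U.1 hu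
  obtain ⟨k, hk⟩ := K.O_cent_z huO hz
  have hk' : K.c ^ k = u := hk
  have h1 : K.x * u * K.x⁻¹ = u⁻¹ := by rw [← hk', ← conj_zpow, K.x_c, inv_zpow]
  rw [← hux.eq, mul_inv_cancel_right] at h1
  have h2 : u ^ 2 = 1 := by rw [pow_two]; exact mul_eq_one_iff_eq_inv.2 h1
  have h3 : u ^ 3 = 1 := by
    rw [← hk', ← zpow_natCast, ← zpow_mul, mul_comm, zpow_mul, zpow_natCast, K.c3, one_zpow]
  rwa [pow_succ, h2, one_mul] at h3

theorem U_odd : Odd (Nat.card K.U) := K.O_spec.2.1.of_dvd_nat (Subgroup.card_dvd_of_le inf_le_left)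

theorem norm_U {g : G} (hg : g ∈ Subgroup.normalizer (K.O : Set G)) (hgx : Commute g K.x) :
    g ∈ Subgroup.normalizer (K.U : Set G) := by
  refine Subgroup.mem_normalizer_iff.2 fun u => ?_
  rw [K.mem_U, K.mem_U, ← Subgroup.mem_normalizer_iff.1 hg u]
  refine and_congr_right fun _ => ⟨fun h => (hgx.mul_left h).mul_left hgx.inv_left, fun h => ?_⟩
  have := (hgx.inv_left.mul_left h).mul_left hgx
  rwa [show g⁻¹ * (g * u * g⁻¹) * g = u by group] at this

theorem z_norm_U : K.z ∈ Subgroup.normalizer (K.U : Set G) := K.norm_U K.z_norm_O K.xz.symm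

theorem U_inverted {u : G} (hu : u ∈ K.U) : K.z * u * K.z⁻¹ = u⁻¹ := by
  have hz : orderOf K.z = 2 := by
    haveI : Fact (Nat.Prime 2) := ⟨Nat.prime_two⟩
    exact orderOf_eq_prime (by rw [pow_two]; exact K.sq_z) K.z_ne
  have h := Fusion.card_inverted hz K.z_norm_U K.U_odd
  have hbot : K.U ⊓ Subgroup.centralizer {K.z} = ⊥ := (Subgroup.eq_bot_iff_forall _).2 fun v hv =>
    K.U_cent_z hv.1 (Subgroup.mem_centralizer_singleton_iff.1 hv.2)
  rw [hbot, Subgroup.relIndex_bot_left] at h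
  let f : {y : G // y ∈ K.U ∧ K.z * y * K.z⁻¹ = y⁻¹} → K.U := fun y => ⟨y, y.2.1⟩
  have hf : Function.Injective f := fun y y' e => Subtype.ext (congrArg (fun v : K.U => (v : G)) e)
  obtain ⟨y, hy⟩ := (hf.bijective_of_nat_card_le h.le).2 ⟨u, hu⟩
  have : (y : G) = u := congrArg Subtype.val hy
  exact this ▸ y.2.2

theorem U_comm {u v : G} (hu : u ∈ K.U) (hv : v ∈ K.U) : Commute u v := by
  have h := K.U_inverted (mul_mem hu hv)
  rw [show K.z * (u * v) * K.z⁻¹ = (K.z * u * K.z⁻¹) * (K.z * v * K.z⁻¹) by group, K.U_inverted hu,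
    K.U_inverted hv, mul_inv_rev] at h
  exact Commute.inv_inv_iff.1 h

/-- The quaternion group commuting with `x` and `c`. -/
noncomputable def Q : Subgroup G where
  carrier := {g | Commute g K.z ∧ (K.p g = 1 ∨ K.p g = pq1 ∨ K.p g = pq2 ∨ K.p g = pq1 * pq2)}
  one_mem' := ⟨Commute.one_left _, Or.inl K.toDAlt.p_one⟩
  mul_mem' := by
    have hm := K.hm
    rintro g g' ⟨hg, e⟩ ⟨hg', e'⟩
    refine ⟨hg.mul_left hg', ?_⟩
    rw [K.p_mul hg hg']
    rcases e with e | e | e | e <;> rcases e' with e' | e' | e' | e' <;> rw [e, e'] <;>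
      interval_cases m <;> decide
  inv_mem' := by
    have hm := K.hm
    rintro g ⟨hg, e⟩
    refine ⟨hg.inv_left, ?_⟩
    rw [K.toDAlt.p_inv hg]
    rcases e with e | e | e | e <;> rw [e] <;> interval_cases m <;> decide

theorem Q_mem {g : G} (hg : g ∈ K.Q) : Commute g K.x ∧ Commute g K.c := by
  have hm := K.hm
  obtain ⟨hgz, e⟩ := hg
  have key : ∀ {u : G}, Commute u K.z → Commute u K.x → Commute u K.c → K.p g = K.p u →
      Commute g K.x ∧ Commute g K.c := by
    intro u hu hux huc he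
    rcases K.toDAlt.eq_or hu hgz he.symm with rfl | rfl
    · exact ⟨hux, huc⟩
    · exact ⟨hux.mul_left K.xz.symm, huc.mul_left K.cz.symm⟩
  rcases e with e | e | e | e
  · exact key (Commute.one_left _) (Commute.one_left _) (Commute.one_left _) (e.trans K.toDAlt.p_one.symm)
  · exact key K.q1z K.q1x K.cq1.symm (e.trans K.p_q1.symm)
  · exact key K.q2z K.q2x K.cq2.symm (e.trans K.p_q2.symm)
  · exact key (K.q1z.mul_left K.q2z) (K.q1x.mul_left K.q2x) (K.cq1.symm.mul_left K.cq2.symm)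
      (by rw [e, K.p_mul K.q1z K.q2z, K.p_q1, K.p_q2])

theorem Q_sq {g : G} (hg : g ∈ K.Q) : g = 1 ∨ g = K.z ∨ g * g = K.z := by
  have hm := K.hm
  obtain ⟨hgz, e | e | e | e⟩ := hg
  · exact (K.ker hgz e).imp id Or.inl
  · exact Or.inr (Or.inr (K.sq_two hgz 0 3 1 4 (by interval_cases m <;> decide) e))
  · exact Or.inr (Or.inr (K.sq_two hgz 1 4 2 5 (by interval_cases m <;> decide) e))
  · refine Or.inr (Or.inr (K.sq_two hgz 0 3 2 5 (by interval_cases m <;> decide) (e.trans ?_)))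
    interval_cases m <;> decide

theorem Q_card : Nat.card K.Q = 8 := by
  have hm := K.hm
  let f : Fin 4 → G := ![1, K.q1, K.q2, K.q1 * K.q2]
  let g : Fin 4 → Perm (Fin (m + 9)) := ![1, pq1, pq2, pq1 * pq2]
  have hf : ∀ i, Commute (f i) K.z ∧ K.p (f i) = g i := by
    intro i
    fin_cases i
    · exact ⟨Commute.one_left _, K.toDAlt.p_one⟩
    · exact ⟨K.q1z, K.p_q1⟩
    · exact ⟨K.q2z, K.p_q2⟩
    · exact ⟨K.q1z.mul_left K.q2z, (K.p_mul K.q1z K.q2z).trans (by rw [K.p_q1, K.p_q2]; rfl)⟩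
  have hg : ∀ i, g i = 1 ∨ g i = pq1 ∨ g i = pq2 ∨ g i = pq1 * pq2 := by
    intro i; fin_cases i <;> simp [g]
  have hginj : Function.Injective g := quat_perms_injective K.hm
  let θ : Fin 4 × Fin 2 → K.Q := fun v => ⟨f v.1 * K.z ^ (v.2 : ℕ), (hf v.1).1.mul_left
    (K.toDAlt.comm_zz.pow_left _), by
      rw [K.p_mul (hf v.1).1 (K.toDAlt.comm_zz.pow_left _), K.toDAlt.p_pow K.toDAlt.comm_zz, K.p_z,
        one_pow, mul_one, (hf v.1).2]
      exact hg v.1⟩
  have hθ : Function.Bijective θ := by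
    constructor
    · rintro ⟨i, e⟩ ⟨i', e'⟩ h
      have h' : f i * K.z ^ (e : ℕ) = f i' * K.z ^ (e' : ℕ) := congrArg Subtype.val h
      have hp := congrArg K.p h'
      rw [K.p_mul (hf i).1 (K.toDAlt.comm_zz.pow_left _), K.p_mul (hf i').1 (K.toDAlt.comm_zz.pow_left _),
        K.toDAlt.p_pow K.toDAlt.comm_zz, K.toDAlt.p_pow K.toDAlt.comm_zz, K.p_z, one_pow, one_pow, mul_one,
        mul_one, (hf i).2, (hf i').2] at hp
      obtain rfl := hginj hp
      have h2 := mul_left_cancel h'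
      fin_cases e <;> fin_cases e' <;> first
        | rfl
        | exact absurd (by simpa using h2) K.z_ne
        | exact absurd (by simpa using h2.symm) K.z_ne
    · rintro ⟨v, hv, e⟩
      obtain ⟨i, hi⟩ : ∃ i, K.p v = g i := by
        rcases e with e | e | e | e
        exacts [⟨0, e⟩, ⟨1, e⟩, ⟨2, e⟩, ⟨3, e⟩]
      rcases K.toDAlt.eq_or (hf i).1 hv ((hf i).2.trans hi.symm) with h | h
      · exact ⟨(i, 0), Subtype.ext (by simp [θ, h])⟩
      · exact ⟨(i, 1), Subtype.ext (by simp [θ, h])⟩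
  rw [← Nat.card_congr (Equiv.ofBijective θ hθ)]
  simp

theorem Q_norm_U {g : G} (hg : g ∈ K.Q) : g ∈ Subgroup.normalizer (K.U : Set G) :=
  K.norm_U (K.norm_O_comm (K.Q_mem hg).2) (K.Q_mem hg).1

theorem Q_free {g : G} (hg : g ∈ K.Q) {u : G} (hu : u ∈ K.U) (hu1 : u ≠ 1)
    (h : g * u * g⁻¹ = u) : g = 1 := by
  rcases K.Q_sq hg with e | e | e
  · exact e
  · exfalso
    rw [e] at h
    exact hu1 (K.U_cent_z hu (mul_inv_eq_iff_eq_mul.1 h).symm)
  · exfalso
    have hc : Commute u g := (mul_inv_eq_iff_eq_mul.1 h).symm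
    exact hu1 (K.U_cent_z hu (e ▸ hc.mul_right hc))

/-- A subgroup of `U` normalized by the quaternion group has order one modulo eight. -/
theorem eight_dvd {L : Subgroup G} (hL : L ≤ K.U) (hn : ∀ g ∈ K.Q, ∀ u ∈ L, g * u * g⁻¹ ∈ L) :
    8 ∣ Nat.card L - 1 := by
  have h := dvd_card_conj_free K.Q ((L : Set G) \ {1}) (fun g hg u hu => ⟨hn g hg u hu.1, fun e => hu.2
    (conj_eq_one_iff.1 e)⟩) (fun g hg u hu e => K.Q_free hg (hL hu.1) hu.2 e)
  rw [K.Q_card, Nat.card_coe_set_eq, Set.ncard_sdiff_singleton_of_mem (one_mem L)] at h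
  exact h

theorem card_cent_z : Nat.card (Subgroup.centralizer {K.z}) = (m + 9).factorial := by
  classical
  let π : Subgroup.centralizer {K.z} →* Perm (Fin (m + 9)) :=
    { toFun := fun g => K.p g
      map_one' := K.toDAlt.p_one
      map_mul' := fun g g' => K.p_mul (Subgroup.mem_centralizer_singleton_iff.1 g.2)
        (Subgroup.mem_centralizer_singleton_iff.1 g'.2) }
  have hr : π.range = alternatingGroup (Fin (m + 9)) := by
    refine le_antisymm ?_ ?_
    · rintro _ ⟨g, rfl⟩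
      exact mem_alternatingGroup.2 (K.sign_p (Subgroup.mem_centralizer_singleton_iff.1 g.2))
    · intro σ hσ
      obtain ⟨g, hg, e⟩ := K.surj (mem_alternatingGroup.1 hσ)
      exact ⟨⟨g, Subgroup.mem_centralizer_singleton_iff.2 hg.eq⟩, e⟩
  have hk : Nat.card π.ker = 2 := by
    rw [Nat.card_eq_two_iff]
    refine ⟨1, ⟨⟨K.z, Subgroup.mem_centralizer_singleton_iff.2 rfl⟩, K.p_z⟩, fun e => K.z_ne
      (congrArg (fun v : π.ker => ((v : Subgroup.centralizer {K.z}) : G)) e).symm,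
      Set.eq_univ_of_forall fun v => ?_⟩
    rcases K.ker (Subgroup.mem_centralizer_singleton_iff.1 v.1.2) v.2 with e | e
    · exact Or.inl (Subtype.ext (Subtype.ext e))
    · exact Or.inr (Subtype.ext (Subtype.ext e))
  have h := π.ker.card_mul_index
  rw [Subgroup.index_ker, hr, hk] at h
  haveI : Nontrivial (Fin (m + 9)) := Fin.nontrivial_iff_two_le.2 (by omega)
  rw [← h, two_mul_nat_card_alternatingGroup, Nat.card_perm, Nat.card_fin]

/-- A subgroup of order `81` of the centralizer of `z` is not abelian. -/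
theorem not_abelian_81 {P : Subgroup G} (hP : P ≤ Subgroup.centralizer {K.z}) (hc : Nat.card P = 81)
    (hab : ∀ u ∈ P, ∀ v ∈ P, Commute u v) : False := by
  haveI : Fact (Nat.Prime 3) := ⟨Nat.prime_three⟩
  set C := Subgroup.centralizer {K.z} with hC
  have hfac : (Nat.card C).factorization 3 = 4 := by
    rw [hC, K.card_cent_z]
    exact factorization_three K.hm
  obtain ⟨R, hR⟩ : ∃ R : Subgroup G, IsPGroup 3 R ∧ R ≤ C ∧ K.a ∈ R ∧ K.t ∈ R := by
    have h1 : IsPGroup 3 K.A := fun g => ⟨1, Subtype.ext (by simpa using g.2.2.1)⟩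
    have h2 : IsPGroup 3 (Subgroup.zpowers K.t) := by
      refine IsPGroup.of_card (n := 1) ?_
      rw [Nat.card_zpowers, pow_one]
      refine orderOf_eq_prime K.t3 fun e => ?_
      have h : K.p K.t = 1 := by rw [e, K.toDAlt.p_one]
      rw [K.p_t] at h
      exact pt_ne_one K.hm h
    have hn : Subgroup.zpowers K.t ≤ Subgroup.normalizer (K.A : Set G) := by
      rw [Subgroup.zpowers_le]
      have hle : ∀ g ∈ K.A, K.t * g * K.t⁻¹ ∈ K.A := by
        intro g hg
        obtain ⟨i, -, j, -, k, -, rfl⟩ := K.A_eq hg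
        rw [show K.t * (K.a ^ i * K.b ^ j * K.c ^ k) * K.t⁻¹ =
          (K.t * K.a ^ i * K.t⁻¹) * (K.t * K.b ^ j * K.t⁻¹) * (K.t * K.c ^ k * K.t⁻¹) by group,
          ← conj_pow, ← conj_pow, ← conj_pow, K.t_a, K.t_b, K.t_c]
        exact mul_mem (mul_mem (pow_mem K.b_mem _) (pow_mem K.c_mem _)) (pow_mem K.a_mem _)
      refine Subgroup.mem_normalizer_iff.2 fun g => ⟨hle g, fun h => ?_⟩
      have := hle _ (hle _ h)
      have h3 : K.t * K.t = K.t⁻¹ := (inv_eq_of_mul_eq_one_right (by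
        rw [← mul_assoc, ← pow_two, ← pow_succ, K.t3])).symm
      rwa [show K.t * (K.t * (K.t * g * K.t⁻¹) * K.t⁻¹) * K.t⁻¹ =
        (K.t * K.t) * K.t * g * ((K.t * K.t) * K.t)⁻¹ by group, h3, inv_mul_cancel, one_mul, inv_one,
        mul_one] at this
    refine ⟨K.A ⊔ Subgroup.zpowers K.t, (sup_comm (Subgroup.zpowers K.t) K.A) ▸ h2.to_sup_of_normal_right' h1 hn, ?_,
      Subgroup.mem_sup_left K.a_mem, Subgroup.mem_sup_right (Subgroup.mem_zpowers _)⟩
    refine sup_le (fun g hg => Subgroup.mem_centralizer_singleton_iff.2 hg.1.eq) ?_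
    exact Subgroup.zpowers_le.2 (Subgroup.mem_centralizer_singleton_iff.2 K.tz.eq)
  obtain ⟨hR3, hRC, haR, htR⟩ := hR
  obtain ⟨S, hS⟩ := (hR3.comap_subtype (K := C)).exists_le_sylow
  have hPS : Solv.IsSylIn 3 P C := ⟨hP, by rw [hc, hfac]; norm_num⟩
  obtain ⟨P', hP'⟩ := hPS.exists_sylow
  obtain ⟨k, hk⟩ := MulAction.exists_smul_eq C P' S
  have key : ∀ v : C, v ∈ S → ∃ w ∈ P, (v : G) = (k : G) * w * (k : G)⁻¹ := by
    intro v hv
    rw [← hk] at hv
    obtain ⟨w, hw, rfl⟩ := hv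
    exact ⟨(w : G), hP' ▸ ⟨w, hw, rfl⟩, by simp⟩
  obtain ⟨w, hw, hwa⟩ := key ⟨K.a, hRC haR⟩ (hS haR)
  obtain ⟨w', hw', hwt⟩ := key ⟨K.t, hRC htR⟩ (hS htR)
  have hcom : Commute K.a K.t := by
    simp only at hwa hwt
    rw [hwa, hwt]
    exact (hab w hw w' hw').map (MulAut.conj (k : G)).toMonoidHom
  have h := K.t_a
  rw [← hcom.eq, mul_inv_cancel_right] at h
  have h' := congrArg K.p h
  rw [K.p_a, K.p_b] at h'
  exact pa_ne_pb K.hm h'

end Ctx

end Cfsg.Agent.Spor.DoubleAlt
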