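import Cfsg.Agent.Lib.Spor.DoubleAlt.Nine.Core

/-!
# The fixed points of the involution in the odd core have order one or nine
-/

set_option autoImplicit false
set_option linter.style.haveILetI false
set_option linter.unusedSectionVars false
set_option maxHeartbeats 1000000
set_option synthInstance.maxHeartbeats 400000
set_option synthInstance.maxSize 2048

open Equiv Equiv.Perm
open scoped Pointwise

namespace Cfsg.Agent.Spor.DoubleAlt

open Nine

universe u

/-- The rotation of seven points. -/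
def pseven {m : ℕ} : Perm (Fin (m + 9)) :=
  swap 0 1 * swap 1 2 * swap 2 3 * swap 3 4 * swap 4 5 * swap 5 9

theorem pseven_facts {m : ℕ} (hm : m = 1) :
    (pseven : Perm (Fin (m + 9))) ^ 7 = 1 ∧ (pseven : Perm (Fin (m + 9))) * pc = pc * pseven ∧
      ∀ i, i < 3 → (pseven : Perm (Fin (m + 9))) ≠ pc ^ i := by
  subst hm
  decide +kernel

theorem seven_gap : (∀ a, a < 6 → ∀ j, j < 6 → j ≤ a → 7 ∣ 3 ^ a - 3 ^ j → j = a) ∧
    ∀ a, a < 5 → ∀ j, j < 5 → j ≤ a → 7 ∣ 5 ^ a - 5 ^ j → j = a := by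
  decide

theorem eight_gap : (∀ a, a < 5 → 8 ∣ 3 ^ a - 1 → a = 0 ∨ a = 2 ∨ a = 4) ∧
    (∀ a, a < 3 → 8 ∣ 5 ^ a - 1 → a = 0 ∨ a = 2) ∧ ∀ a, a < 2 → 8 ∣ 7 ^ a - 1 → a = 0 := by
  decide

theorem factorization_five {m : ℕ} (hm : m ≤ 1) : (m + 9).factorial.factorization 5 = m + 1 := by
  have h0 : (m + 9).factorial ≠ 0 := Nat.factorial_ne_zero _
  have h1 : 5 ^ (m + 1) ∣ (m + 9).factorial := by interval_cases m <;> decide
  have h2 : ¬ 5 ^ (m + 2) ∣ (m + 9).factorial := by interval_cases m <;> decide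
  rw [(by norm_num : Nat.Prime 5).pow_dvd_iff_le_factorization h0] at h1 h2
  omega

theorem factorization_seven {m : ℕ} (hm : m ≤ 1) : (m + 9).factorial.factorization 7 = 1 := by
  have h0 : (m + 9).factorial ≠ 0 := Nat.factorial_ne_zero _
  have h1 : 7 ^ 1 ∣ (m + 9).factorial := by interval_cases m <;> decide
  have h2 : ¬ 7 ^ 2 ∣ (m + 9).factorial := by interval_cases m <;> decide
  rw [(by norm_num : Nat.Prime 7).pow_dvd_iff_le_factorization h0] at h1 h2
  omega

namespace Ctx

variable {G : Type u} [Group G] [Finite G] {m : ℕ} (K : Ctx G m)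
include K

theorem card_O : Nat.card K.O = 3 * Nat.card K.U ^ 2 := by
  have h := K.four_formula K.O_spec.2.1 K.z_norm_O K.x_norm_O
  have e1 : K.O ⊓ Subgroup.centralizer {K.z} ⊓ Subgroup.centralizer {K.x} = ⊥ := by
    refine (Subgroup.eq_bot_iff_forall _).2 fun g hg => ?_
    obtain ⟨⟨h1, h2⟩, h3⟩ := hg
    exact K.U_cent_z ⟨h1, h3⟩ (Subgroup.mem_centralizer_singleton_iff.1 h2)
  have e2 : Nat.card (K.O ⊓ Subgroup.centralizer {K.x * K.z} : Subgroup G) = Nat.card K.U := by
    rw [← K.conj_inf_cent K.s_norm_O K.s_x, Solv.card_conj_smul]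
    rfl
  rw [K.card_O_z, e2, e1, Subgroup.card_bot, one_pow, mul_one] at h
  rw [← h, pow_two, mul_assoc]
  rfl

/-- The primary parts of `U`. -/
theorem U_part (p : ℕ) [hp : Fact p.Prime] :
    8 ∣ p ^ (Nat.card K.U).factorization p - 1 := by
  let L : Subgroup G :=
    { carrier := {u | u ∈ K.U ∧ ∃ k : ℕ, u ^ p ^ k = 1}
      one_mem' := ⟨one_mem _, 0, one_pow _⟩
      mul_mem' := by
        rintro u v ⟨hu, k, hk⟩ ⟨hv, l, hl⟩
        refine ⟨mul_mem hu hv, k + l, ?_⟩
        rw [(K.U_comm hu hv).mul_pow, pow_add, pow_mul, hk, one_pow, one_mul, mul_comm (p ^ k), pow_mul, hl,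
          one_pow]
      inv_mem' := by
        rintro u ⟨hu, k, hk⟩
        exact ⟨inv_mem hu, k, by rw [inv_pow, hk, inv_one]⟩ }
  obtain ⟨P, hP⟩ := Solv.exists_isSylIn p K.U
  have hL : IsPGroup p L := fun u => by
    obtain ⟨hu, k, hk⟩ := u.2
    exact ⟨k, Subtype.ext (by simpa using hk)⟩
  have hPL : P ≤ L := fun u hu => by
    obtain ⟨k, hk⟩ := hP.isPGroup ⟨u, hu⟩
    exact ⟨hP.1 hu, k, by simpa using congrArg Subtype.val hk⟩
  have he := hP.eq_of_le hL (fun u hu => hu.1) hPL
  rw [← hP.2, he]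
  refine K.eight_dvd (fun u hu => hu.1) fun g hg u hu => ?_
  obtain ⟨hu1, k, hk⟩ := hu
  exact ⟨(Subgroup.mem_normalizer_iff.1 (K.Q_norm_U hg) u).1 hu1, k,
    by rw [conj_pow, hk, mul_one, mul_inv_cancel]⟩

theorem exists_conj_x : ∃ g : G, g * K.z * g⁻¹ = K.x :=
  isConj_iff.1 (K.fused K.xz K.x_sq K.x_ne)

theorem U_card_dvd : Nat.card K.U ∣ (m + 9).factorial := by
  obtain ⟨g, hg⟩ := K.exists_conj_x
  rw [← K.card_cent_z, ← Solv.card_conj_smul g⁻¹ K.U]
  refine Subgroup.card_dvd_of_le fun u hu => ?_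
  rw [Solv.mem_conj_smul, inv_inv] at hu
  have h := (K.mem_U.1 hu).2
  rw [Subgroup.mem_centralizer_singleton_iff]
  have := h.map (MulAut.conj g⁻¹).toMonoidHom
  simp only [MulEquiv.coe_toMonoidHom, MulAut.conj_apply, inv_inv] at this
  rw [← hg, show g⁻¹ * (g * K.z * g⁻¹) * g = K.z by group,
    show g⁻¹ * (g * u * g⁻¹) * g = u by group] at this
  exact this.eq

theorem U_three_five :
    (Nat.card K.U).factorization 3 ∈ ({0, 2} : Finset ℕ) ∧
      (Nat.card K.U).factorization 5 ∈ (if m = 1 then {0, 2} else {0} : Finset ℕ) ∧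
      ∀ p, p.Prime → p ≠ 3 → p ≠ 5 → (Nat.card K.U).factorization p = 0 := by
  have hd := K.U_card_dvd
  have hle : ∀ p, (Nat.card K.U).factorization p ≤ (m + 9).factorial.factorization p := fun p =>
    (Nat.factorization_le_iff_dvd Nat.card_pos.ne' (Nat.factorial_ne_zero _)).2 hd p
  obtain ⟨g3, g5, g7⟩ := eight_gap
  have hm := K.hm
  haveI : Fact (Nat.Prime 3) := ⟨Nat.prime_three⟩
  refine ⟨?_, ?_, ?_⟩
  · have h3 := hle 3
    rw [factorization_three K.hm] at h3
    rcases g3 _ (by omega) (K.U_part 3) with h | h | h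
    · rw [h]; decide
    · rw [h]; decide
    exfalso
    obtain ⟨P, hP⟩ := Solv.exists_isSylIn 3 K.U
    obtain ⟨g, hg⟩ := K.exists_conj_x
    refine K.not_abelian_81 (P := MulAut.conj g⁻¹ • P) ?_ (by rw [Solv.card_conj_smul, hP.2, h]; norm_num) ?_
    · intro u hu
      rw [Solv.mem_conj_smul, inv_inv] at hu
      have h' := (K.mem_U.1 (hP.1 hu)).2
      have := h'.map (MulAut.conj g⁻¹).toMonoidHom
      simp only [MulEquiv.coe_toMonoidHom, MulAut.conj_apply, inv_inv] at this
      rw [← hg, show g⁻¹ * (g * K.z * g⁻¹) * g = K.z by group,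
        show g⁻¹ * (g * u * g⁻¹) * g = u by group] at this
      exact Subgroup.mem_centralizer_singleton_iff.2 this.eq
    · intro u hu v hv
      rw [Solv.mem_conj_smul, inv_inv] at hu hv
      have := (K.U_comm (hP.1 hu) (hP.1 hv)).map (MulAut.conj g⁻¹).toMonoidHom
      simpa [mul_assoc] using this
  · haveI : Fact (Nat.Prime 5) := ⟨by norm_num⟩
    have h5 := hle 5
    rw [factorization_five K.hm] at h5
    rcases g5 _ (by omega) (K.U_part 5) with h | h
    · rw [h]; split_ifs <;> simp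
    · rw [h] at h5 ⊢
      rw [if_pos (by omega : m = 1)]
      simp
  · intro p hp h3 h5
    haveI : Fact p.Prime := ⟨hp⟩
    by_contra h0
    have hdp : p ∣ Nat.card K.U := by
      by_contra h
      exact h0 (Nat.factorization_eq_zero_of_not_dvd h)
    have hle10 : p ≤ m + 9 := hp.dvd_factorial.1 (hdp.trans hd)
    have h2 : p ≠ 2 := fun e => by
      subst e
      exact (Nat.not_even_iff_odd.2 K.U_odd) (even_iff_two_dvd.2 hdp)
    have hp7 : p = 7 := by
      have h2' := hp.two_le
      have h10 : p ≤ 10 := by omega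
      interval_cases p <;> first | omega | exact absurd hp (by norm_num)
    subst hp7
    have h7 := hle 7
    rw [factorization_seven K.hm] at h7
    exact h0 (g7 _ (by omega) (K.U_part 7))

theorem O_factorization (p : ℕ) :
    (Nat.card K.O).factorization p = (3 : ℕ).factorization p + 2 * (Nat.card K.U).factorization p := by
  rw [K.card_O, Nat.factorization_mul (by norm_num) (pow_ne_zero _ Nat.card_pos.ne'), Nat.factorization_pow]
  simp

/-- With ten points `U` is trivial. -/
theorem U_bot_ten (hm1 : m = 1) : K.U = ⊥ := by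
  obtain ⟨h7, hc7, hne7⟩ := pseven_facts hm1
  obtain ⟨f, hf, hfp, hf7⟩ := K.toDAlt.exists_odd_lift (m := 7) ⟨3, rfl⟩ h7
  have hfc : Commute f K.c := (K.comm3 K.cz hf K.c3 (by rw [K.p_c, hfp]; exact hc7.symm)).symm
  have hf1 : f ≠ 1 := fun e => by
    rw [e, K.toDAlt.p_one] at hfp
    exact hne7 0 (by norm_num) (by rw [← hfp, pow_zero])
  haveI : Fact (Nat.Prime 7) := ⟨by norm_num⟩
  have hfo : orderOf f = 7 := orderOf_eq_prime hf7 hf1
  set F := Subgroup.zpowers f with hFdef
  have hF : Nat.card F = 7 := by rw [hFdef, Nat.card_zpowers, hfo]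
  have hFO : F ≤ Subgroup.normalizer (K.O : Set G) := Subgroup.zpowers_le.2 (K.norm_O_comm hfc)
  obtain ⟨u3, u5, uo⟩ := K.U_three_five
  rw [if_pos hm1] at u5
  simp only [Finset.mem_insert, Finset.mem_singleton] at u3 u5
  have hfac : ∀ p, p.Prime → p ∣ Nat.card K.O →
      (p = 3 ∧ (Nat.card K.O).factorization p < 6) ∨ (p = 5 ∧ (Nat.card K.O).factorization p < 5) := by
    intro p hp hpd
    have hpos : 0 < (Nat.card K.O).factorization p := hp.factorization_pos_of_dvd Nat.card_pos.ne' hpd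
    rw [K.O_factorization] at hpos ⊢
    by_cases h3 : p = 3
    · subst h3
      rw [Nat.Prime.factorization_self Nat.prime_three]
      omega
    have hz : (3 : ℕ).factorization p = 0 := Nat.factorization_eq_zero_of_not_dvd fun h =>
      h3 ((Nat.prime_dvd_prime_iff_eq hp Nat.prime_three).1 h)
    by_cases h5 : p = 5
    · subst h5
      rw [hz]
      omega
    rw [hz, uo p hp h3 h5] at hpos
    omega
  have hco : (Nat.card F).Coprime (Nat.card K.O) := by
    rw [hF, (Fact.out : Nat.Prime 7).coprime_iff_not_dvd]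
    intro h
    rcases hfac 7 Fact.out h with ⟨e, -⟩ | ⟨e, -⟩ <;> omega
  have hsol : Group.IsSolvable F ∨ Group.IsSolvable K.O :=
    Or.inl (Group.isSolvable_of_comm fun u v =>
      (inferInstance : IsMulCommutative (Subgroup.zpowers f)).is_comm.comm u v)
  set OC := K.O ⊓ Subgroup.centralizer {f} with hOC
  have hdiv : Nat.card K.O ∣ Nat.card OC := by
    rw [Nat.dvd_iff_prime_pow_dvd_dvd]
    intro p k hp hpk
    rcases Nat.eq_zero_or_pos k with rfl | hk
    · simp
    haveI : Fact p.Prime := ⟨hp⟩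
    have hpd : p ∣ Nat.card K.O := (dvd_pow_self p hk.ne').trans hpk
    obtain ⟨P, hP, hPF⟩ := Solv.exists_invariant_sylow hFO hco hsol p
    have hle : P ≤ OC := by
      have hS := dvd_card_conj_free F ((P : Set G) \ ((P ⊓ Subgroup.centralizer {f} : Subgroup G) : Set G))
        (fun g hg u hu => ⟨(Subgroup.mem_normalizer_iff.1 (hPF hg) u).1 hu.1, fun h => hu.2
          ⟨hu.1, Subgroup.mem_centralizer_singleton_iff.2 (by
            have hc : Commute (g * u * g⁻¹) f := Subgroup.mem_centralizer_singleton_iff.1 h.2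
            obtain ⟨l, rfl⟩ := hg
            have hcg : Commute (f ^ l) f := (Commute.refl f).zpow_left l
            have h2 := (hcg.inv_left.mul_left hc).mul_left hcg
            rw [show (f ^ l)⁻¹ * (f ^ l * u * (f ^ l)⁻¹) * f ^ l = u by group] at h2
            exact h2.eq)⟩⟩)
        (fun g hg u hu e => by
          by_contra hg1
          refine hu.2 ⟨hu.1, Subgroup.mem_centralizer_singleton_iff.2 ?_⟩
          have hgen : f ∈ Subgroup.zpowers g := by
            have hle : Subgroup.zpowers g ≤ F := Subgroup.zpowers_le.2 hg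
            have : Subgroup.zpowers g = F := by
              refine Subgroup.eq_of_le_of_card_ge hle ?_
              rw [hF, Nat.card_zpowers]
              have hd : orderOf g ∣ 7 := hF ▸ Subgroup.orderOf_dvd_natCard F hg
              rcases (Nat.dvd_prime (Fact.out : Nat.Prime 7)).1 hd with h | h
              · exact absurd (orderOf_eq_one_iff.1 h) hg1
              · exact h.ge
            rw [this]
            exact Subgroup.mem_zpowers f
          obtain ⟨l, rfl⟩ := hgen
          have hc : Commute g u := mul_inv_eq_iff_eq_mul.1 e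
          exact (hc.zpow_left l).eq.symm)
      rw [hF, Nat.card_coe_set_eq, Set.ncard_sdiff (SetLike.coe_subset_coe.2 inf_le_left),
        ← Nat.card_coe_set_eq, ← Nat.card_coe_set_eq] at hS
      have hcP : Nat.card ↥(P : Set G) = p ^ (Nat.card K.O).factorization p := hP.2
      obtain ⟨j, hj⟩ := IsPGroup.iff_card.1 (hP.isPGroup.to_le (inf_le_left : P ⊓ Subgroup.centralizer {f} ≤ P))
      have hjc : Nat.card ↥((P ⊓ Subgroup.centralizer {f} : Subgroup G) : Set G) = p ^ j := hj
      rw [hcP, hjc] at hS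
      have hja : j ≤ (Nat.card K.O).factorization p := by
        have := Subgroup.card_le_of_le (inf_le_left : P ⊓ Subgroup.centralizer {f} ≤ P)
        rw [hj, hP.2] at this
        exact (Nat.pow_le_pow_iff_right hp.one_lt).1 this
      have heq : j = (Nat.card K.O).factorization p := by
        rcases hfac p hp hpd with ⟨rfl, ha⟩ | ⟨rfl, ha⟩
        · exact seven_gap.1 _ ha j (by omega) hja hS
        · exact seven_gap.2 _ ha j (by omega) hja hS
      have hPC : P ⊓ Subgroup.centralizer {f} = P :=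
        Subgroup.eq_of_le_of_card_ge inf_le_left (by rw [hj, hP.2, heq])
      exact le_inf hP.1 (hPC ▸ inf_le_right)
    refine (dvd_trans ?_ (Subgroup.card_dvd_of_le hle))
    rw [hP.2]
    exact pow_dvd_pow p ((hp.pow_dvd_iff_le_factorization Nat.card_pos.ne').1 hpk)
  have hall : OC = K.O :=
    Subgroup.eq_of_le_of_card_ge inf_le_left (Nat.le_of_dvd Nat.card_pos hdiv)
  set N := Subgroup.centralizer {K.z} ⊓ Subgroup.centralizer {K.c} ⊓ Subgroup.centralizer (K.O : Set G)
  have hN : ∀ g ∈ N, Commute g K.z ∧ Commute g K.c := fun g hg =>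
    ⟨Subgroup.mem_centralizer_singleton_iff.1 hg.1.1, Subgroup.mem_centralizer_singleton_iff.1 hg.1.2⟩
  have hnor : ∀ g : G, Commute g K.z → Commute g K.c → ∀ u ∈ N, g * u * g⁻¹ ∈ N := by
    intro g hgz hgc u hu
    refine ⟨⟨Subgroup.mem_centralizer_singleton_iff.2 (K.toDAlt.comm_conj hgz (hN u hu).1).eq,
      Subgroup.mem_centralizer_singleton_iff.2 ((hgc.mul_left (hN u hu).2).mul_left hgc.inv_left).eq⟩,
      Subgroup.mem_centralizer_iff.2 fun o ho => ?_⟩
    have ho' : g⁻¹ * o * g ∈ K.O := by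
      have := (Subgroup.mem_normalizer_iff.1 (inv_mem (K.norm_O_comm hgc)) o).1 ho
      rwa [inv_inv] at this
    have h := Subgroup.mem_centralizer_iff.1 hu.2 _ ho'
    calc o * (g * u * g⁻¹) = g * (g⁻¹ * o * g * u) * g⁻¹ := by group
      _ = g * (u * (g⁻¹ * o * g)) * g⁻¹ := by rw [h]
      _ = g * u * g⁻¹ * o := by group
  have hfN : f ∈ N := ⟨⟨Subgroup.mem_centralizer_singleton_iff.2 hf.eq,
    Subgroup.mem_centralizer_singleton_iff.2 hfc.eq⟩, Subgroup.mem_centralizer_iff.2 fun o ho => by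
      have ho' : o ∈ OC := hall.symm ▸ ho
      exact Subgroup.mem_centralizer_singleton_iff.1 ho'.2⟩
  rcases K.normal_cent_c hN hnor with h | h
  · obtain ⟨i, hi, e⟩ := h f hfN
    exact absurd (hfp.symm.trans e) (hne7 i hi)
  · exact (Subgroup.eq_bot_iff_forall _).2 fun u hu =>
      K.U_cent_z hu ((Subgroup.mem_centralizer_iff.1 h.2 u (K.mem_U.1 hu).1))

/-- `U` is trivial, or of order nine with nine points. -/
theorem U_cases : K.U = ⊥ ∨ (m = 0 ∧ Nat.card K.U = 9) := by
  by_cases h1 : m = 1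
  · exact Or.inl (K.U_bot_ten h1)
  have hm0 : m = 0 := by have := K.hm; omega
  obtain ⟨u3, u5, uo⟩ := K.U_three_five
  rw [if_neg h1] at u5
  simp only [Finset.mem_insert, Finset.mem_singleton] at u3 u5
  have hval : Nat.card K.U = 3 ^ (Nat.card K.U).factorization 3 := by
    refine Nat.eq_of_factorization_eq Nat.card_pos.ne' (pow_ne_zero _ (by norm_num)) fun p => ?_
    rw [Nat.Prime.factorization_pow Nat.prime_three]
    by_cases hp : p.Prime
    · by_cases h3 : p = 3
      · subst h3; simp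
      by_cases h5 : p = 5
      · subst h5; rw [u5]; simp
      rw [uo p hp h3 h5, Finsupp.single_eq_of_ne h3]
    · rw [Nat.factorization_eq_zero_of_not_prime _ hp, Finsupp.single_eq_of_ne]
      rintro rfl
      exact hp Nat.prime_three
  rcases u3 with h | h <;> rw [h] at hval
  · exact Or.inl (Subgroup.eq_bot_of_card_eq _ hval)
  · exact Or.inr ⟨hm0, hval⟩

/-- If `U` is trivial the centralizer of `c` lies in the centralizer of `z`. -/
theorem cent_c_le (hU : K.U = ⊥) {g : G} (hg : Commute g K.c) : Commute g K.z := by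
  obtain ⟨o, ho, hoz⟩ := K.O_spec.2.2.2.2.2 g (Subgroup.mem_centralizer_singleton_iff.2 hg.eq)
  have hO : K.O ⊓ Subgroup.centralizer {K.z} = K.O := by
    refine Subgroup.eq_of_le_of_card_ge inf_le_left ?_
    rw [K.card_O_z, K.card_O, hU, Subgroup.card_bot, one_pow, mul_one]
  have : Commute o K.z := Subgroup.mem_centralizer_singleton_iff.1 (Subgroup.mem_inf.1 (hO.symm ▸ ho : o ∈ K.O ⊓ Subgroup.centralizer {K.z})).2
  have h := this.mul_left hoz
  rwa [mul_inv_cancel_left] at h

end Ctx

end Cfsg.Agent.Spor.DoubleAlt
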