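import Cfsg.Agent.Lib.Spor.DoubleAlt.Tools
import Cfsg.Agent.Lib.Spor.DoubleAlt.Nine.Cent

/-!
# The order formula for the four-group
-/

set_option autoImplicit false
set_option linter.style.haveILetI false
set_option linter.unusedSectionVars false

open scoped Pointwise

namespace Cfsg.Agent.Spor.DoubleAlt.Ctx

universe u

variable {G : Type u} [Group G] [Finite G] {m : ℕ} (K : Ctx G m)
include K

theorem V_card : Nat.card K.V = 4 := by
  classical
  have hzx : K.x ≠ K.z := K.x_ne_z
  have h1 : K.x * K.z ≠ 1 := fun e => hzx ((mul_eq_one_iff_eq_inv.1 e).trans K.toDAlt.inv_z)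
  have h2 : K.x * K.z ≠ K.z := fun e => K.x_ne (mul_eq_right.1 e)
  have h3 : K.x * K.z ≠ K.x := fun e => K.z_ne (mul_eq_left.1 e)
  have : (K.V : Set G) = (({1, K.z, K.x, K.x * K.z} : Finset G) : Set G) := by
    ext g; simp [SetLike.mem_coe, K.mem_V]
  rw [show Nat.card K.V = Nat.card ↥(K.V : Set G) from rfl, this, Nat.card_coe_set_eq, Set.ncard_coe_finset,
    Finset.card_insert_of_notMem (by simp [K.z_ne.symm, K.x_ne.symm, h1.symm]),
    Finset.card_insert_of_notMem (by simp [hzx.symm, h2.symm]), Finset.card_pair h3.symm]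

theorem V_exp {g : G} (hg : g ∈ K.V) : g ^ 2 = 1 := by
  rw [pow_two]
  rcases hg with rfl | rfl | rfl | rfl
  · exact one_mul 1
  · exact K.sq_z
  · exact K.x_sq
  · exact K.xz_sq

/-- The order formula for the four-group `⟨z, x⟩` acting on a group of odd order. -/
theorem four_formula {L : Subgroup G} (hodd : Odd (Nat.card L))
    (hz : K.z ∈ Subgroup.normalizer (L : Set G)) (hx : K.x ∈ Subgroup.normalizer (L : Set G)) :
    Nat.card (L ⊓ Subgroup.centralizer {K.z} : Subgroup G) *
      Nat.card (L ⊓ Subgroup.centralizer {K.x} : Subgroup G) *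
      Nat.card (L ⊓ Subgroup.centralizer {K.x * K.z} : Subgroup G) =
    Nat.card L * Nat.card (L ⊓ Subgroup.centralizer {K.z} ⊓ Subgroup.centralizer {K.x} : Subgroup G) ^ 2 := by
  classical
  haveI : Fact (Nat.Prime 2) := ⟨Nat.prime_two⟩
  have hA : IsMulCommutative K.V := ⟨⟨fun u v => Subtype.ext (by
    obtain ⟨h1, h2, -⟩ := K.V_comm u.2
    rcases v.2 with e | e | e | e <;> show (u : G) * v = v * u <;> rw [e]
    · rw [one_mul, mul_one]
    · exact h1.eq
    · exact h2.eq
    · exact (h2.mul_right h1).eq)⟩⟩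
  have hVN : K.V ≤ Subgroup.normalizer (L : Set G) := fun g hg => by
    rcases hg with rfl | rfl | rfl | rfl
    exacts [one_mem _, hz, hx, mul_mem hx hz]
  have h := Fusion.fixed_formula (p := 2) (A := K.V) (K := L) hA (by rw [K.V_card]; norm_num)
    (fun g hg => K.V_exp hg) hVN (by
      rw [K.V_card, show 4 = 2 ^ 2 from rfl]
      exact Nat.Coprime.pow_left 2 hodd.coprime_two_left)
  have h1 : K.x * K.z ≠ 1 := fun e => K.x_ne_z ((mul_eq_one_iff_eq_inv.1 e).trans K.toDAlt.inv_z)
  have h2 : K.x * K.z ≠ K.z := fun e => K.x_ne (mul_eq_right.1 e)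
  have h3 : K.x * K.z ≠ K.x := fun e => K.z_ne (mul_eq_left.1 e)
  have hset : Fusion.nonId K.V = {K.z, K.x, K.x * K.z} := by
    ext g
    rw [Fusion.mem_nonId, K.mem_V]
    simp only [Finset.mem_insert, Finset.mem_singleton]
    constructor
    · rintro ⟨h, hne⟩; exact h.resolve_left hne
    · rintro (rfl | rfl | rfl)
      exacts [⟨Or.inr (Or.inl rfl), K.z_ne⟩, ⟨Or.inr (Or.inr (Or.inl rfl)), K.x_ne⟩,
        ⟨Or.inr (Or.inr (Or.inr rfl)), h1⟩]
  rw [hset, Finset.prod_insert (by simp [K.x_ne_z.symm, h2.symm]), Finset.prod_pair h3.symm] at h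
  have hC : L ⊓ Subgroup.centralizer (K.V : Set G) =
      L ⊓ Subgroup.centralizer {K.z} ⊓ Subgroup.centralizer {K.x} := by
    ext g
    rw [Subgroup.mem_inf, Subgroup.mem_inf, Subgroup.mem_inf, Subgroup.mem_centralizer_singleton_iff,
      Subgroup.mem_centralizer_singleton_iff, Subgroup.mem_centralizer_iff]
    constructor
    · rintro ⟨hg, hg'⟩
      exact ⟨⟨hg, (hg' _ K.z_mem_V).symm⟩, (hg' _ K.x_mem_V).symm⟩
    · rintro ⟨⟨hg, e1⟩, e2⟩
      refine ⟨hg, fun v hv => ?_⟩
      rcases hv with rfl | rfl | rfl | rfl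
      · rw [one_mul, mul_one]
      · exact e1.symm
      · exact e2.symm
      · exact ((show Commute g K.x from e2).mul_right (show Commute g K.z from e1)).eq.symm
  rw [hC] at h
  simpa [mul_assoc] using h

/-- The conjugate by `g` of a fixed point group. -/
theorem conj_inf_cent {L : Subgroup G} {g : G} (hg : g ∈ Subgroup.normalizer (L : Set G)) {u v : G}
    (huv : g * u * g⁻¹ = v) :
    MulAut.conj g • (L ⊓ Subgroup.centralizer {u} : Subgroup G) = L ⊓ Subgroup.centralizer {v} := by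
  rw [Subgroup.smul_inf, Solv.conj_smul_of_mem_normalizer hg]
  congr 1
  ext y
  rw [Solv.mem_conj_smul, Subgroup.mem_centralizer_singleton_iff, Subgroup.mem_centralizer_singleton_iff,
    ← huv]
  constructor <;> intro e
  · calc y * (g * u * g⁻¹) = g * (g⁻¹ * y * g * u) * g⁻¹ := by group
      _ = g * (u * (g⁻¹ * y * g)) * g⁻¹ := by rw [e]
      _ = g * u * g⁻¹ * y := by group
  · calc g⁻¹ * y * g * u = g⁻¹ * (y * (g * u * g⁻¹)) * g := by group
      _ = g⁻¹ * (g * u * g⁻¹ * y) * g := by rw [e]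
      _ = u * (g⁻¹ * y * g) := by group

end Cfsg.Agent.Spor.DoubleAlt.Ctx
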