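import Cfsg.Agent.Lib.Spor.DoubleAlt.Nine.Formula

/-!
# The centralizer of the four-group `⟨z, x⟩`

An element interchanging `z` and `x` normalizes `⟨h⟩`, and the largest normal two-subgroup `R` of
the centralizer has order 64.
-/

set_option autoImplicit false
set_option linter.style.haveILetI false
set_option linter.unusedSectionVars false
set_option maxHeartbeats 1000000
set_option synthInstance.maxHeartbeats 400000
set_option synthInstance.maxSize 2048

open Equiv Equiv.Perm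
open scoped Pointwise

namespace Cfsg.Agent.Spor.DoubleAlt

open Nine

universe u

/-- The four-group of the symmetric group on four letters. -/
def klein4 : Subgroup (Perm (Fin 4)) where
  carrier := {σ | σ * σ = 1 ∧ sign σ = 1}
  one_mem' := ⟨one_mul 1, map_one _⟩
  mul_mem' {a b} ha hb := by
    revert ha hb
    revert a b
    simp only [Set.mem_ofPred_eq]
    decide +kernel
  inv_mem' {a} ha := ⟨by rw [← mul_inv_rev, ha.1, inv_one], by rw [map_inv, ha.2, inv_one]⟩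

theorem klein4_card : Nat.card klein4 = 4 := by
  show Nat.card {σ : Perm (Fin 4) // σ * σ = 1 ∧ sign σ = 1} = 4
  rw [Nat.card_eq_fintype_card, Fintype.card_subtype]
  decide +kernel

theorem klein4_max : ∀ k : Perm (Fin 4), k ^ 8 = 1 →
    (∀ s : Perm (Fin 4), sign s = 1 → (k * (s * k⁻¹ * s⁻¹)) ^ 8 = 1) → k * k = 1 ∧ sign k = 1 := by
  decide +kernel

theorem eight_conj {m : ℕ} {σ : Perm (Fin (m + 9))} (hm : m ≤ 1) (h2 : σ * σ = 1)
    (hc : σ.support.card = 8) : ∃ τ : Perm (Fin (m + 9)), sign τ = 1 ∧ τ * σ * τ⁻¹ = px := by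
  classical
  have hpx : (px : Perm (Fin (m + 9))) * px = 1 ∧ (px : Perm (Fin (m + 9))).support.card = 8 := by
    interval_cases m <;> decide
  have htype : ∀ ρ : Perm (Fin (m + 9)), ρ * ρ = 1 → ρ.support.card = 8 →
      ρ.cycleType = Multiset.replicate 4 2 := by
    intro ρ h h8
    have ho : orderOf ρ = 2 := by
      haveI : Fact (Nat.Prime 2) := ⟨Nat.prime_two⟩
      refine orderOf_eq_prime (by rw [pow_two]; exact h) fun e => ?_
      rw [e] at h8
      simp at h8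
    obtain ⟨k, hk⟩ := Perm.cycleType_prime_order (σ := ρ) (ho.symm ▸ Nat.prime_two)
    rw [ho] at hk
    have h1 := Perm.sum_cycleType ρ
    rw [hk, Multiset.sum_replicate, h8, smul_eq_mul] at h1
    rw [hk, show k + 1 = 4 by omega]
  obtain ⟨τ, hτ⟩ := isConj_iff.1 (Perm.isConj_iff_cycleType_eq.2
    ((htype σ h2 hc).trans (htype px hpx.1 hpx.2).symm))
  rcases Int.units_eq_one_or (sign τ) with h | h
  · exact ⟨τ, h, hτ⟩
  refine ⟨swap 0 3 * τ, ?_, ?_⟩
  · rw [map_mul, h, sign_swap (by interval_cases m <;> decide)]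
    rfl
  · calc swap 0 3 * τ * σ * (swap 0 3 * τ)⁻¹ = swap 0 3 * (τ * σ * τ⁻¹) * (swap 0 3)⁻¹ := by group
      _ = px := by rw [hτ]; interval_cases m <;> decide

theorem flips_even {m : ℕ} (hm : m ≤ 1) : ∀ k0, k0 < 2 → ∀ k1, k1 < 2 → ∀ k2, k2 < 2 → ∀ k3, k3 < 2 →
    ∀ l, l < m + 1 →
      sign (swap 0 3 ^ k0 * swap 1 4 ^ k1 * swap 2 5 ^ k2 * swap 6 7 ^ k3 * swap 8 9 ^ l : Perm (Fin (m + 9))) = 1 →
      (l = 0 ∧ (k0 + k1 + k2 + k3) % 2 = 0) ∨ (l = 1 ∧ (k0 + k1 + k2 + k3) % 2 = 1) := by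
  interval_cases m <;> decide +kernel

theorem pr23_facts {m : ℕ} (hm : m ≤ 1) :
    sign (swap 2 6 * swap 5 7 : Perm (Fin (m + 9))) = 1 ∧
      (pr1 * pq1 : Perm (Fin (m + 9))) = px ∧ sign (pr1 : Perm (Fin (m + 9))) = 1 := by
  interval_cases m <;> decide

namespace Ctx

variable {G : Type u} [Group G] {m : ℕ} (K : Ctx G m)
include K

/-- The involutions of the centralizer other than `z` are conjugate in it to `x`. -/
theorem conj_to_x {y : G} (hy : Commute y K.z) (hy2 : y * y = 1) (hy1 : y ≠ 1) (hyz : y ≠ K.z) :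
    ∃ u, Commute u K.z ∧ u * y * u⁻¹ = K.x := by
  classical
  have hσ2 : K.p y * K.p y = 1 := by rw [← K.p_mul hy hy, hy2, K.toDAlt.p_one]
  have h8 := K.toDAlt.invol_support hy hy2
  have hle := Finset.card_le_univ (K.p y).support
  rw [Fintype.card_fin] at hle
  have hne : (K.p y).support.card ≠ 0 := by
    rw [Ne, Finset.card_eq_zero, Perm.support_eq_empty_iff]
    intro h
    rcases K.ker hy h with e | e
    exacts [hy1 e, hyz e]
  obtain ⟨τ, hτs, hτ⟩ := eight_conj K.hm hσ2 (by have := K.hm; omega)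
  obtain ⟨u, hu, hu'⟩ := K.surj hτs
  rcases K.toDAlt.eq_or K.xz (K.toDAlt.comm_conj hu hy)
    (by rw [K.p_x, K.toDAlt.p_conj hu hy, hu', hτ]) with e | e
  · exact ⟨u, hu, e⟩
  · refine ⟨K.s * u, K.sz.mul_left hu, ?_⟩
    rw [show K.s * u * y * (K.s * u)⁻¹ = K.s * (u * y * u⁻¹) * K.s⁻¹ by group, e,
      show K.s * (K.x * K.z) * K.s⁻¹ = K.s * K.x * K.s⁻¹ * (K.s * K.z * K.s⁻¹) by group, K.s_x,
      K.sz.eq, mul_inv_cancel_right, mul_assoc, K.sq_z, mul_one]

variable [Finite G]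

theorem orderOf_h : orderOf K.h = 3 := by
  haveI : Fact (Nat.Prime 3) := ⟨Nat.prime_three⟩
  refine orderOf_eq_prime K.h3 fun e => ?_
  have h : K.p K.h = 1 := by rw [e, K.toDAlt.p_one]
  rw [K.p_h] at h
  have : (ph : Perm (Fin (m + 9))) ≠ 1 := by
    have := K.hm
    clear h e
    interval_cases m <;> decide
  exact this h

theorem h_mem_cent2 : K.h ∈ K.toDAlt.cent2 K.x := K.toDAlt.mem_cent2.2 ⟨K.hz, K.hx⟩

/-- An element interchanging `z` and `x` and normalizing `⟨h⟩`. -/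
theorem exists_swap : ∃ g : G, g * K.z * g⁻¹ = K.x ∧ g * K.x * g⁻¹ = K.z ∧
    (g * K.h * g⁻¹ = K.h ∨ g * K.h * g⁻¹ = K.h⁻¹) := by
  haveI : Fact (Nat.Prime 3) := ⟨Nat.prime_three⟩
  obtain ⟨g1, hg1⟩ := isConj_iff.1 (K.fused K.xz K.x_sq K.x_ne)
  set w := g1⁻¹ * K.z * g1 with hw
  have hwz : Commute w K.z := by
    have := K.xz.symm.map (MulAut.conj g1⁻¹).toMonoidHom
    simp only [MulEquiv.coe_toMonoidHom, MulAut.conj_apply, inv_inv] at this
    rwa [← hg1, show g1⁻¹ * (g1 * K.z * g1⁻¹) * g1 = K.z by group] at this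
  have hw2 : w * w = 1 := by
    rw [hw, show g1⁻¹ * K.z * g1 * (g1⁻¹ * K.z * g1) = g1⁻¹ * (K.z * K.z) * g1 by group, K.sq_z]
    group
  have hw1 : w ≠ 1 := fun e => K.z_ne (by
    rw [show K.z = g1 * w * g1⁻¹ by rw [hw]; group, e]; group)
  have hwne : w ≠ K.z := fun e => K.x_ne_z (by
    rw [← hg1]
    conv_lhs => rw [← e, hw]
    group)
  obtain ⟨u, hu, hux⟩ := K.conj_to_x hwz hw2 hw1 hwne
  set g2 := g1 * u⁻¹ with hg2
  have e1 : g2 * K.z * g2⁻¹ = K.x := by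
    rw [hg2, show g1 * u⁻¹ * K.z * (g1 * u⁻¹)⁻¹ = g1 * (u⁻¹ * K.z * u) * g1⁻¹ by group,
      hu.inv_left.eq, inv_mul_cancel_right, hg1]
  have e2 : g2 * K.x * g2⁻¹ = K.z := by
    rw [hg2, ← hux, hw]; group
  set C2 := K.toDAlt.cent2 K.x with hC2
  have hmax : ∀ v ∈ C2, orderOf v = 3 → Solv.IsSylIn 3 (Subgroup.zpowers v) C2 := by
    intro v hv ho
    obtain ⟨P, hP⟩ := Solv.exists_isSylIn 3 C2
    have h3 : 3 ∣ Nat.card C2 := ho ▸ Subgroup.orderOf_dvd_natCard C2 hv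
    have hle := K.three_cent_x hP.isPGroup hP.1
    rw [hP.2] at hle
    have hpos := Nat.prime_three.factorization_pos_of_dvd Nat.card_pos.ne' h3
    have h1 : (Nat.card C2).factorization 3 ≤ 1 :=
      (Nat.pow_le_pow_iff_right (by norm_num : 1 < 3)).1 (hle.trans (by norm_num))
    refine ⟨Subgroup.zpowers_le.2 hv, ?_⟩
    rw [Nat.card_zpowers, ho, show (Nat.card C2).factorization 3 = 1 by omega, pow_one]
  have hh' : g2 * K.h * g2⁻¹ ∈ C2 := by
    refine K.toDAlt.mem_cent2.2 ⟨?_, ?_⟩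
    · rw [← e2]; exact K.hx.map (MulAut.conj g2).toMonoidHom
    · rw [← e1]; exact K.hz.map (MulAut.conj g2).toMonoidHom
  have ho' : orderOf (g2 * K.h * g2⁻¹) = 3 :=
    (orderOf_injective (MulAut.conj g2).toMonoidHom (MulAut.conj g2).injective K.h).trans K.orderOf_h
  obtain ⟨k, hk, hkeq⟩ := (hmax _ hh' ho').exists_conj (hmax _ K.h_mem_cent2 K.orderOf_h)
  obtain ⟨hkz, hkx⟩ := K.toDAlt.mem_cent2.1 hk
  refine ⟨k * g2, ?_, ?_, ?_⟩
  · rw [show k * g2 * K.z * (k * g2)⁻¹ = k * (g2 * K.z * g2⁻¹) * k⁻¹ by group, e1, hkx.eq,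
      mul_inv_cancel_right]
  · rw [show k * g2 * K.x * (k * g2)⁻¹ = k * (g2 * K.x * g2⁻¹) * k⁻¹ by group, e2, hkz.eq,
      mul_inv_cancel_right]
  · have hmem : k * g2 * K.h * (k * g2)⁻¹ ∈ Subgroup.zpowers K.h := by
      rw [← hkeq, Solv.mem_conj_smul, show k⁻¹ * (k * g2 * K.h * (k * g2)⁻¹) * k = g2 * K.h * g2⁻¹ by group]
      exact Subgroup.mem_zpowers _
    obtain ⟨l, hl⟩ := (mem_powers_iff_mem_zpowers.mpr hmem)
    simp only at hl
    rw [← pow_mod_orderOf, K.orderOf_h] at hl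
    have hl3 : l % 3 < 3 := Nat.mod_lt _ (by norm_num)
    interval_cases hh : l % 3
    · exfalso
      rw [pow_zero, eq_comm, conj_eq_one_iff] at hl
      have := K.orderOf_h
      rw [hl, orderOf_one] at this
      omega
    · exact Or.inl (by rw [← hl, pow_one])
    · refine Or.inr (by rw [← hl]; exact (inv_eq_of_mul_eq_one_left (by rw [← pow_succ, K.h3])).symm)

/-- The permutations of pairs of the centralizer of the four-group. -/
noncomputable def psi : K.toDAlt.cent2 K.x →* Perm (Fin 4) := K.toDAlt.pairHom K.pairing K.xz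

/-- The preimage of the four-group of permutations of pairs. -/
noncomputable def R : Subgroup G := (klein4.comap K.psi).map (K.toDAlt.cent2 K.x).subtype

theorem R_le : K.R ≤ K.toDAlt.cent2 K.x := Subgroup.map_subtype_le _

theorem mem_R {g : G} :
    g ∈ K.R ↔ ∃ h : g ∈ K.toDAlt.cent2 K.x, K.psi ⟨g, h⟩ ∈ klein4 := by
  constructor
  · rintro ⟨k, hk, rfl⟩; exact ⟨k.2, hk⟩
  · rintro ⟨h, hk⟩; exact ⟨⟨g, h⟩, hk, rfl⟩

/-- An element fixing every pair is a product of flips. -/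
theorem psi_ker {g : K.toDAlt.cent2 K.x} (h : K.psi g = 1) :
    ∃ k0, k0 < 2 ∧ ∃ k1, k1 < 2 ∧ ∃ k2, k2 < 2 ∧ ∃ k3, k3 < 2 ∧ ∃ l, l < m + 1 ∧
      K.p g = swap 0 3 ^ k0 * swap 1 4 ^ k1 * swap 2 5 ^ k2 * swap 6 7 ^ k3 * swap 8 9 ^ l := by
  have hm := K.hm
  obtain ⟨hgz, hgx⟩ := K.toDAlt.mem_cent2.1 g.2
  have hc := K.image_comm hgz K.xz hgx
  rw [K.p_x] at hc
  set σ := K.p (g : G) with hσ
  have hpair : ∀ i : Fin 4, ∃ k, k < 2 ∧ σ (pairPts (i, false)) = pairPts (i, decide (k = 1)) := by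
    intro i
    obtain ⟨b, hb⟩ := K.toDAlt.pairHom_spec K.pairing K.xz g i false
    change K.psi g = 1 at h
    rw [show K.toDAlt.pairHom K.pairing K.xz g = 1 from h, Perm.one_apply] at hb
    cases b
    · exact ⟨0, by norm_num, hb⟩
    · exact ⟨1, by norm_num, hb⟩
  obtain ⟨k0, hk0, e0⟩ := hpair 0
  obtain ⟨k1, hk1, e1⟩ := hpair 1
  obtain ⟨k2, hk2, e2⟩ := hpair 2
  obtain ⟨k3, hk3, e3⟩ := hpair 3
  have hd8 : ∀ y : Fin (m + 9), (px : Perm (Fin (m + 9))) y = y → ∃ l, l < m + 1 ∧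
      y = (swap 8 9 ^ l : Perm (Fin (m + 9))) 8 := by
    interval_cases m <;> decide +kernel
  have hfix8 : (px : Perm (Fin (m + 9))) (σ 8) = σ 8 := by
    rw [← comm_apply hc]
    exact congrArg _ (by interval_cases m <;> decide)
  obtain ⟨l, hl, e8⟩ := hd8 _ hfix8
  set f : Perm (Fin (m + 9)) := swap 0 3 ^ k0 * swap 1 4 ^ k1 * swap 2 5 ^ k2 * swap 6 7 ^ k3 * swap 8 9 ^ l
    with hf
  refine ⟨k0, hk0, k1, hk1, k2, hk2, k3, hk3, l, hl, ?_⟩
  have hval : ∀ k0, k0 < 2 → ∀ k1, k1 < 2 → ∀ k2, k2 < 2 → ∀ k3, k3 < 2 → ∀ l, l < m + 1 →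
      (swap 0 3 ^ k0 * swap 1 4 ^ k1 * swap 2 5 ^ k2 * swap 6 7 ^ k3 * swap 8 9 ^ l : Perm (Fin (m + 9))) (pairPts (0, false)) = pairPts (0, decide (k0 = 1)) ∧
      (swap 0 3 ^ k0 * swap 1 4 ^ k1 * swap 2 5 ^ k2 * swap 6 7 ^ k3 * swap 8 9 ^ l : Perm (Fin (m + 9))) (pairPts (1, false)) = pairPts (1, decide (k1 = 1)) := by
    unfold pairPts
    interval_cases m <;> decide +kernel
  have hval' : ∀ k0, k0 < 2 → ∀ k1, k1 < 2 → ∀ k2, k2 < 2 → ∀ k3, k3 < 2 → ∀ l, l < m + 1 →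
      (swap 0 3 ^ k0 * swap 1 4 ^ k1 * swap 2 5 ^ k2 * swap 6 7 ^ k3 * swap 8 9 ^ l : Perm (Fin (m + 9))) (pairPts (2, false)) = pairPts (2, decide (k2 = 1)) ∧
      (swap 0 3 ^ k0 * swap 1 4 ^ k1 * swap 2 5 ^ k2 * swap 6 7 ^ k3 * swap 8 9 ^ l : Perm (Fin (m + 9))) (pairPts (3, false)) = pairPts (3, decide (k3 = 1)) := by
    unfold pairPts
    interval_cases m <;> decide +kernel
  have hval8 : ∀ k0, k0 < 2 → ∀ k1, k1 < 2 → ∀ k2, k2 < 2 → ∀ k3, k3 < 2 → ∀ l, l < m + 1 →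
      (swap 0 3 ^ k0 * swap 1 4 ^ k1 * swap 2 5 ^ k2 * swap 6 7 ^ k3 * swap 8 9 ^ l : Perm (Fin (m + 9))) 8 =
        (swap 8 9 ^ l : Perm (Fin (m + 9))) 8 := by
    interval_cases m <;> decide +kernel
  have hcf : Commute f px := by
    have hh : ∀ a b : Fin (m + 9), (px : Perm (Fin (m + 9))) * swap a b = swap a b * px →
        ∀ k : ℕ, Commute (swap a b ^ k : Perm (Fin (m + 9))) px := fun a b e k =>
      (show Commute (swap a b) px from e.symm).pow_left k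
    have h89 : Commute (swap 8 9 ^ l : Perm (Fin (m + 9))) px := by
      rcases Nat.eq_zero_or_pos l with rfl | hl0
      · exact Commute.one_left px
      · exact hh 8 9 (by obtain rfl : m = 1 := by omega
                         decide +kernel) l
    refine ((((hh 0 3 ?_ k0).mul_left (hh 1 4 ?_ k1)).mul_left (hh 2 5 ?_ k2)).mul_left
      (hh 6 7 ?_ k3)).mul_left h89 <;> interval_cases m <;> decide +kernel
  have hpts : ∀ y : Fin (m + 9), y = pairPts (0, false) ∨ y = pairPts (1, false) ∨ y = pairPts (2, false) ∨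
      y = pairPts (3, false) ∨ (px : Perm (Fin (m + 9))) y = pairPts (0, false) ∨
      (px : Perm (Fin (m + 9))) y = pairPts (1, false) ∨ (px : Perm (Fin (m + 9))) y = pairPts (2, false) ∨
      (px : Perm (Fin (m + 9))) y = pairPts (3, false) ∨ y = 8 ∨ (m = 1 ∧ y = 9) := by
    unfold pairPts
    interval_cases m <;> decide +kernel
  obtain ⟨a0, a1⟩ := hval k0 hk0 k1 hk1 k2 hk2 k3 hk3 l hl
  obtain ⟨a2, a3⟩ := hval' k0 hk0 k1 hk1 k2 hk2 k3 hk3 l hl
  have a8 := hval8 k0 hk0 k1 hk1 k2 hk2 k3 hk3 l hl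
  rw [← hf] at a0 a1 a2 a3 a8
  have hpull : ∀ y, σ ((px : Perm (Fin (m + 9))) y) = f ((px : Perm (Fin (m + 9))) y) → σ y = f y := by
    intro y e
    rw [comm_apply hc, comm_apply hcf] at e
    exact (px : Perm (Fin (m + 9))).injective e
  ext y : 1
  rcases hpts y with h' | h' | h' | h' | h' | h' | h' | h' | h' | ⟨hm1, h'⟩
  · rw [h', e0, a0]
  · rw [h', e1, a1]
  · rw [h', e2, a2]
  · rw [h', e3, a3]
  · exact hpull y (by rw [h', e0, a0])
  · exact hpull y (by rw [h', e1, a1])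
  · exact hpull y (by rw [h', e2, a2])
  · exact hpull y (by rw [h', e3, a3])
  · rw [h', e8, a8]
  · subst hm1
    subst h'
    by_contra hne
    have hu : ∀ y : Fin (1 + 9), (px : Perm (Fin (1 + 9))) y = y → y = 8 ∨ y = 9 := by decide +kernel
    have h9 : (px : Perm (Fin (1 + 9))) 9 = 9 := by decide
    have h89 : (8 : Fin (1 + 9)) ≠ 9 := by decide
    have p1 := hu _ (show (px : Perm (Fin (1 + 9))) (σ 9) = σ 9 by rw [← comm_apply hc, h9])
    have p2 := hu _ (show (px : Perm (Fin (1 + 9))) (f 9) = f 9 by rw [← comm_apply hcf, h9])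
    have p3 := hu _ hfix8
    have q1 : σ 8 ≠ σ 9 := σ.injective.ne h89
    have q2 : σ 8 ≠ f 9 := by rw [e8, ← a8]; exact f.injective.ne h89
    rcases p1 with p1 | p1 <;> rcases p2 with p2 | p2 <;> rcases p3 with p3 | p3 <;>
      rw [p1, p2] at hne <;> rw [p3, p1] at q1 <;> rw [p3, p2] at q2 <;>
      first | exact hne rfl | exact q1 rfl | exact q2 rfl

theorem x_mem_cent2 : K.x ∈ K.toDAlt.cent2 K.x := K.toDAlt.mem_cent2.2 ⟨K.xz, Commute.refl _⟩

theorem psi_x : K.psi ⟨K.x, K.x_mem_cent2⟩ = 1 := by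
  ext i : 1
  refine K.toDAlt.pairHom_eq K.pairing K.xz _ (b := false) (b' := true) ?_
  exact K.pairing.swap_e i false

theorem V_le_R : K.V ≤ K.R := by
  intro v hv
  obtain ⟨h1, h2, -⟩ := K.V_comm hv
  refine K.mem_R.2 ⟨K.toDAlt.mem_cent2.2 ⟨h1, h2⟩, ?_⟩
  have hz : K.psi ⟨K.z, K.toDAlt.mem_cent2.2 ⟨Commute.refl _, K.xz.symm⟩⟩ = 1 := by
    ext i : 1
    refine K.toDAlt.pairHom_eq K.pairing K.xz _ (b := false) (b' := false) ?_
    show K.p K.z _ = _
    rw [K.p_z]; rfl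
  rcases hv with rfl | rfl | rfl | rfl
  · rw [show (⟨(1 : G), _⟩ : K.toDAlt.cent2 K.x) = 1 from rfl, map_one]; exact one_mem _
  · rw [hz]; exact one_mem _
  · rw [show K.psi ⟨K.x, _⟩ = 1 from K.psi_x]; exact one_mem _
  · rw [show (⟨K.x * K.z, _⟩ : K.toDAlt.cent2 K.x) =
      ⟨K.x, K.x_mem_cent2⟩ * ⟨K.z, K.toDAlt.mem_cent2.2 ⟨Commute.refl _, K.xz.symm⟩⟩ from rfl,
      map_mul, K.psi_x, hz, one_mul]
    exact one_mem _

theorem psi_flip {u : G} (hu : Commute u K.z) {i j : Fin 4} (hij : i ≠ j)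
    (hp : K.p u = K.pairing.flip i * K.pairing.flip j) :
    ∃ h : u ∈ K.toDAlt.cent2 K.x, K.psi ⟨u, h⟩ = 1 := by
  refine ⟨K.toDAlt.mem_cent2.2 ⟨hu, K.toDAlt.flip2_lift_comm K.pairing hij K.xz hu hp⟩, ?_⟩
  ext k : 1
  rcases eq_or_ne k i with rfl | hki
  · exact K.toDAlt.pairHom_eq K.pairing K.xz _ (b := false) (b' := true)
      (by show K.p u _ = _; rw [hp, K.pairing.flip2_left hij]; rfl)
  rcases eq_or_ne k j with rfl | hkj
  · exact K.toDAlt.pairHom_eq K.pairing K.xz _ (b := false) (b' := true)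
      (by show K.p u _ = _; rw [hp, K.pairing.flip2_right hij]; rfl)
  exact K.toDAlt.pairHom_eq K.pairing K.xz _ (b := false) (b' := false)
    (by show K.p u _ = _; rw [hp, K.pairing.flip2_other hki hkj]; rfl)

theorem q1_mem_R : K.q1 ∈ K.R := by
  obtain ⟨h, e⟩ := K.psi_flip K.q1z (i := 0) (j := 1) (by decide) (by rw [K.p_q1]; rfl)
  exact K.mem_R.2 ⟨h, e ▸ one_mem _⟩

theorem q2_mem_R : K.q2 ∈ K.R := by
  obtain ⟨h, e⟩ := K.psi_flip K.q2z (i := 1) (j := 2) (by decide) (by rw [K.p_q2]; rfl)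
  exact K.mem_R.2 ⟨h, e ▸ one_mem _⟩

/-- An odd flip does not centralize the involution. -/
theorem no_odd_flip (hm1 : m = 1) {u : G} (hu : Commute u K.z) (hp : K.p u = swap 0 3 * swap 8 9) :
    ¬ Commute u K.x := by
  intro hc
  subst hm1
  have h := K.anti_x hu (K.sq_two hu 0 3 8 9 (by decide) hp) (d := pq1) (r := pr1) K.sign_pq1
    (by decide) (by rw [hp]; decide) 0 3 1 4 (by decide) rfl 1 4 8 9 (by decide) (by rw [hp]; decide)
  rw [hc.eq, mul_inv_cancel_right] at h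
  exact K.z_ne (mul_eq_left.1 h.symm)

theorem card_psi_ker : Nat.card K.psi.ker = 16 := by
  classical
  have hm := K.hm
  let φ : K.psi.ker →* Perm (Fin (m + 9)) :=
    { toFun := fun g => K.p ((g : K.toDAlt.cent2 K.x) : G)
      map_one' := K.toDAlt.p_one
      map_mul' := fun g g' => K.p_mul (K.toDAlt.mem_cent2.1 g.1.2).1 (K.toDAlt.mem_cent2.1 g'.1.2).1 }
  let L : Fin 8 → Perm (Fin (m + 9)) := ![1, swap 0 3 * swap 1 4, swap 0 3 * swap 2 5, swap 0 3 * swap 6 7,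
    swap 1 4 * swap 2 5, swap 1 4 * swap 6 7, swap 2 5 * swap 6 7,
    swap 0 3 * swap 1 4 * swap 2 5 * swap 6 7]
  have hmem : ∀ i, ∃ g : K.psi.ker, φ g = L i := by
    have key : ∀ (i j : Fin 4), i ≠ j → ∃ g : K.psi.ker, φ g = K.pairing.flip i * K.pairing.flip j := by
      intro i j hij
      obtain ⟨u, hu, hu'⟩ := K.toDAlt.exists_flip2 K.pairing i j
      obtain ⟨h, e⟩ := K.psi_flip hu hij hu'
      exact ⟨⟨⟨u, h⟩, e⟩, hu'⟩
    intro i
    fin_cases i
    · exact ⟨1, map_one φ⟩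
    · exact key 0 1 (by decide)
    · exact key 0 2 (by decide)
    · exact key 0 3 (by decide)
    · exact key 1 2 (by decide)
    · exact key 1 3 (by decide)
    · exact key 2 3 (by decide)
    · obtain ⟨g, hg⟩ := key 0 1 (by decide)
      obtain ⟨g', hg'⟩ := key 2 3 (by decide)
      exact ⟨g * g', by rw [map_mul, hg, hg']; exact (mul_assoc _ _ _).symm⟩
  have hrange : (φ.range : Set (Perm (Fin (m + 9)))) = Set.range L := by
    ext σ
    constructor
    · rintro ⟨g, rfl⟩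
      obtain ⟨k0, h0, k1, h1, k2, h2, k3, h3, l, hl, e⟩ := K.psi_ker g.2
      obtain ⟨hgz, hgx⟩ := K.toDAlt.mem_cent2.1 g.1.2
      have hs := K.sign_p hgz
      rw [e] at hs
      rcases flips_even K.hm k0 h0 k1 h1 k2 h2 k3 h3 l hl hs with ⟨rfl, hev⟩ | ⟨rfl, hodd⟩
      · show K.p _ ∈ _
        rw [e]
        have hd : ∀ k0, k0 < 2 → ∀ k1, k1 < 2 → ∀ k2, k2 < 2 → ∀ k3, k3 < 2 →
            (k0 + k1 + k2 + k3) % 2 = 0 → ∃ i : Fin 8,
            (![1, swap 0 3 * swap 1 4, swap 0 3 * swap 2 5, swap 0 3 * swap 6 7,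
              swap 1 4 * swap 2 5, swap 1 4 * swap 6 7, swap 2 5 * swap 6 7,
              swap 0 3 * swap 1 4 * swap 2 5 * swap 6 7] : Fin 8 → Perm (Fin (m + 9))) i =
            swap 0 3 ^ k0 * swap 1 4 ^ k1 * swap 2 5 ^ k2 * swap 6 7 ^ k3 * swap 8 9 ^ 0 := by
          interval_cases m <;> decide +kernel
        exact hd k0 h0 k1 h1 k2 h2 k3 h3 hev
      · exfalso
        have hm1 : m = 1 := by omega
        subst hm1
        have hd : ∀ k0, k0 < 2 → ∀ k1, k1 < 2 → ∀ k2, k2 < 2 → ∀ k3, k3 < 2 →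
            (k0 + k1 + k2 + k3) % 2 = 1 → ∃ i : Fin 8,
            (![1, swap 0 3 * swap 1 4, swap 0 3 * swap 2 5, swap 0 3 * swap 6 7,
              swap 1 4 * swap 2 5, swap 1 4 * swap 6 7, swap 2 5 * swap 6 7,
              swap 0 3 * swap 1 4 * swap 2 5 * swap 6 7] : Fin 8 → Perm (Fin (1 + 9))) i *
            (swap 0 3 * swap 8 9) =
            swap 0 3 ^ k0 * swap 1 4 ^ k1 * swap 2 5 ^ k2 * swap 6 7 ^ k3 * swap 8 9 ^ 1 := by
          decide +kernel
        obtain ⟨i, hi⟩ := hd k0 h0 k1 h1 k2 h2 k3 h3 hodd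
        obtain ⟨g', hg'⟩ := hmem i
        obtain ⟨hg'z, hg'x⟩ := K.toDAlt.mem_cent2.1 g'.1.2
        refine K.no_odd_flip rfl (u := ((g' : K.toDAlt.cent2 K.x) : G)⁻¹ * ((g : K.toDAlt.cent2 K.x) : G))
          (hg'z.inv_left.mul_left hgz) ?_ (hg'x.inv_left.mul_left hgx)
        rw [K.p_mul hg'z.inv_left hgz, K.toDAlt.p_inv hg'z, e, ← hi,
          show K.p ((g' : K.toDAlt.cent2 K.x) : G) = L i from hg', inv_mul_cancel_left]
    · rintro ⟨i, rfl⟩
      exact hmem i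
  have hLinj : Function.Injective L := by
    have : Function.Injective (![1, swap 0 3 * swap 1 4, swap 0 3 * swap 2 5, swap 0 3 * swap 6 7,
        swap 1 4 * swap 2 5, swap 1 4 * swap 6 7, swap 2 5 * swap 6 7,
        swap 0 3 * swap 1 4 * swap 2 5 * swap 6 7] : Fin 8 → Perm (Fin (m + 9))) := by
      unfold Function.Injective
      clear hrange hmem L φ
      interval_cases m <;> decide +kernel
    exact this
  have hcr : Nat.card φ.range = 8 := by
    rw [show Nat.card φ.range = Nat.card ↥(φ.range : Set (Perm (Fin (m + 9)))) from rfl, hrange,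
      Nat.card_range_of_injective hLinj, Nat.card_fin]
  have hk : Nat.card φ.ker = 2 := by
    obtain ⟨hzm, hzψ⟩ : ∃ h : K.z ∈ K.toDAlt.cent2 K.x, K.psi ⟨K.z, h⟩ = 1 := by
      refine ⟨K.toDAlt.mem_cent2.2 ⟨Commute.refl _, K.xz.symm⟩, ?_⟩
      ext i : 1
      refine K.toDAlt.pairHom_eq K.pairing K.xz _ (b := false) (b' := false) ?_
      show K.p K.z _ = _
      rw [K.p_z]; rfl
    rw [Nat.card_eq_two_iff]
    refine ⟨1, ⟨⟨⟨K.z, hzm⟩, hzψ⟩, K.p_z⟩, fun e => K.z_ne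
      (congrArg (fun v : φ.ker => (((v : K.psi.ker) : K.toDAlt.cent2 K.x) : G)) e).symm,
      Set.eq_univ_of_forall fun v => ?_⟩
    rcases K.ker (K.toDAlt.mem_cent2.1 v.1.1.2).1 v.2 with e | e
    · exact Or.inl (Subtype.ext (Subtype.ext (Subtype.ext e)))
    · exact Or.inr (Subtype.ext (Subtype.ext (Subtype.ext e)))
  have h := φ.ker.card_mul_index
  rw [Subgroup.index_ker, hcr, hk] at h
  exact h.symm

/-- An element commuting with `x` that interchanges two pairs and the other two. -/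
theorem exists_double_swap : ∃ g : K.toDAlt.cent2 K.x, K.psi g = swap 0 1 * swap 2 3 := by
  obtain ⟨hsgn, hdr, hsd⟩ := pr23_facts K.hm
  obtain ⟨u, hu, hu'⟩ := K.surj hsgn
  have hu2 : u * u = K.z :=
    K.sq_two hu 2 6 5 7 (by have := K.hm; interval_cases m <;> decide) hu'
  have hux : u * K.x * u⁻¹ = K.x * K.z :=
    K.anti_x hu hu2 (d := pr1) (r := pq1) hsd hdr
      (by rw [hu']; have := K.hm; clear hsgn hdr hsd hu2 hu'; interval_cases m <;> decide)
      2 5 6 7 (by have := K.hm; interval_cases m <;> decide) rfl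
      2 7 5 6 (by have := K.hm; interval_cases m <;> decide)
      (by rw [hu']; have := K.hm; clear hsgn hdr hsd hu2 hu'; interval_cases m <;> decide)
  have hc : Commute (K.s * u) K.x := by
    refine mul_inv_eq_iff_eq_mul.1 ?_
    calc K.s * u * K.x * (K.s * u)⁻¹ = K.s * (u * K.x * u⁻¹) * K.s⁻¹ := by group
      _ = K.s * K.x * K.s⁻¹ * (K.s * K.z * K.s⁻¹) := by rw [hux]; group
      _ = K.x := by rw [K.s_x, K.sz.eq, mul_inv_cancel_right, mul_assoc, K.sq_z, mul_one]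
  refine ⟨⟨K.s * u, K.toDAlt.mem_cent2.2 ⟨K.sz.mul_left hu, hc⟩⟩, ?_⟩
  have hd : ∀ i : Fin 4, ∃ b', (ps * (swap 2 6 * swap 5 7) : Perm (Fin (m + 9))) (pairPts (i, false)) =
      pairPts ((swap 0 1 * swap 2 3 : Perm (Fin 4)) i, b') := by
    unfold pairPts
    have := K.hm
    clear hsgn hdr hsd hu2 hu' hux hc
    interval_cases m <;> decide +kernel
  ext i : 1
  obtain ⟨b', hb'⟩ := hd i
  refine K.toDAlt.pairHom_eq K.pairing K.xz _ (b := false) (b' := b') ?_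
  show K.p (K.s * u) _ = _
  rw [K.p_mul K.sz hu, K.p_s, hu']
  exact hb'

theorem psi_h : K.psi ⟨K.h, K.h_mem_cent2⟩ = swap 0 1 * swap 1 2 := by
  have hd : ∀ i : Fin 4, ∃ b', (ph : Perm (Fin (m + 9))) (pairPts (i, false)) =
      pairPts ((swap 0 1 * swap 1 2 : Perm (Fin 4)) i, b') := by
    unfold pairPts
    have := K.hm
    interval_cases m <;> decide +kernel
  ext i : 1
  obtain ⟨b', hb'⟩ := hd i
  refine K.toDAlt.pairHom_eq K.pairing K.xz _ (b := false) (b' := b') ?_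
  show K.p K.h _ = _
  rw [K.p_h]
  exact hb'

theorem card_R : Nat.card K.R = 64 := by
  rw [R, Solv.card_map_subtype]
  set ψ' := K.psi.comp (klein4.comap K.psi).subtype
  have hker : Nat.card ψ'.ker = 16 := by
    rw [← K.card_psi_ker]
    have hle : K.psi.ker ≤ klein4.comap K.psi := fun g hg => by
      rw [Subgroup.mem_comap, MonoidHom.mem_ker.1 hg]; exact one_mem _
    exact Nat.card_congr (Subgroup.subgroupOfEquivOfLe hle).toEquiv
  have hrange : ψ'.range = klein4 := by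
    rw [MonoidHom.range_comp, Subgroup.range_subtype, Subgroup.map_comap_eq_self]
    obtain ⟨g, hg⟩ := K.exists_double_swap
    have hd : ∀ σ : Perm (Fin 4), σ * σ = 1 ∧ sign σ = 1 → σ = 1 ∨ σ = swap 0 1 * swap 2 3 ∨
        σ = (swap 0 1 * swap 1 2) * (swap 0 1 * swap 2 3) * (swap 0 1 * swap 1 2)⁻¹ ∨
        σ = (swap 0 1 * swap 1 2)⁻¹ * (swap 0 1 * swap 2 3) * (swap 0 1 * swap 1 2) := by
      decide +kernel
    intro σ hσ
    rcases hd σ hσ with rfl | rfl | rfl | rfl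
    · exact one_mem _
    · exact ⟨g, hg⟩
    · exact ⟨⟨K.h, K.h_mem_cent2⟩ * g * ⟨K.h, K.h_mem_cent2⟩⁻¹, by rw [map_mul, map_mul, map_inv, K.psi_h, hg]⟩
    · exact ⟨⟨K.h, K.h_mem_cent2⟩⁻¹ * g * ⟨K.h, K.h_mem_cent2⟩, by rw [map_mul, map_mul, map_inv, K.psi_h, hg]⟩
  have h := ψ'.ker.card_mul_index
  rw [Subgroup.index_ker, hrange, hker, klein4_card] at h
  exact h.symm

theorem R_two : IsPGroup 2 K.R := IsPGroup.of_card (n := 6) (by rw [K.card_R]; norm_num)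

/-- The group `R` is invariant under all elements fixing the four-group. -/
theorem R_invariant {g : G} (hg : ∀ v ∈ K.V, g * v * g⁻¹ ∈ K.V) :
    g ∈ Subgroup.normalizer (K.R : Set G) := by
  haveI : Fact (Nat.Prime 2) := ⟨Nat.prime_two⟩
  have hcent : ∀ v ∈ K.V, ∀ u ∈ K.toDAlt.cent2 K.x, Commute u v := by
    intro v hv u hu
    obtain ⟨h1, h2⟩ := K.toDAlt.mem_cent2.1 hu
    rcases hv with rfl | rfl | rfl | rfl
    exacts [Commute.one_right u, h1, h2, h2.mul_right h1]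
  have hinv : ∀ v ∈ K.V, g⁻¹ * v * g ∈ K.V := by
    intro v hv
    let f : K.V → K.V := fun u => ⟨g * u * g⁻¹, hg u u.2⟩
    obtain ⟨u, hu⟩ := (Finite.injective_iff_surjective (f := f)).1 (fun u u' e => Subtype.ext
      (mul_left_cancel (mul_right_cancel (congrArg Subtype.val e)))) ⟨v, hv⟩
    have : g * (u : G) * g⁻¹ = v := congrArg Subtype.val hu
    rw [← this, show g⁻¹ * (g * (u : G) * g⁻¹) * g = u by group]
    exact u.2
  set N := MulAut.conj g • K.R with hN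
  have hNle : N ≤ K.toDAlt.cent2 K.x := by
    intro y hy
    rw [hN, Solv.mem_conj_smul] at hy
    have hu := K.R_le hy
    have key : ∀ v ∈ K.V, Commute y v := by
      intro v hv
      have := (hcent _ (hinv v hv) _ hu).map (MulAut.conj g).toMonoidHom
      simpa [mul_assoc] using this
    exact K.toDAlt.mem_cent2.2 ⟨key _ K.z_mem_V, key _ K.x_mem_V⟩
  have hnorm : ∀ u ∈ K.toDAlt.cent2 K.x, ∀ y ∈ N, u * y * u⁻¹ ∈ N := by
    intro u hu y hy
    rw [hN, Solv.mem_conj_smul] at hy ⊢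
    have hu' : g⁻¹ * u * g ∈ K.toDAlt.cent2 K.x := by
      have key : ∀ v ∈ K.V, Commute (g⁻¹ * u * g) v := by
        intro v hv
        have := (hcent _ (hg v hv) _ hu).map (MulAut.conj g⁻¹).toMonoidHom
        simpa [mul_assoc] using this
      exact K.toDAlt.mem_cent2.2 ⟨key _ K.z_mem_V, key _ K.x_mem_V⟩
    obtain ⟨h, hk⟩ := K.mem_R.1 hy
    have e : g⁻¹ * (u * y * u⁻¹) * g = g⁻¹ * u * g * (g⁻¹ * y * g) * (g⁻¹ * u * g)⁻¹ := by group
    rw [e]
    refine K.mem_R.2 ⟨mul_mem (mul_mem hu' h) (inv_mem hu'), ?_⟩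
    rw [show (⟨g⁻¹ * u * g * (g⁻¹ * y * g) * (g⁻¹ * u * g)⁻¹, _⟩ : K.toDAlt.cent2 K.x) =
      ⟨_, hu'⟩ * ⟨_, h⟩ * ⟨_, hu'⟩⁻¹ from rfl, map_mul, map_mul, map_inv]
    obtain ⟨hk1, hk2⟩ := hk
    refine ⟨?_, by rw [map_mul, map_mul, map_inv, hk2, mul_one, mul_inv_cancel]⟩
    set q := K.psi ⟨_, hu'⟩
    set k := K.psi ⟨_, h⟩
    rw [show q * k * q⁻¹ * (q * k * q⁻¹) = q * (k * k) * q⁻¹ by group, hk1, mul_one, mul_inv_cancel]
  have hN2 : ∀ y ∈ N, y ^ 64 = 1 := by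
    intro y hy
    have hc : Nat.card N = 64 := by rw [hN, Solv.card_conj_smul, K.card_R]
    have h := pow_card_eq_one' (G := N) (x := ⟨y, hy⟩)
    rw [hc] at h
    simpa using congrArg Subtype.val h
  have hle : N ≤ K.R := by
    intro y hy
    refine K.mem_R.2 ⟨hNle hy, ?_⟩
    have h64 : ∀ y' : K.toDAlt.cent2 K.x, (y' : G) ∈ N → K.psi y' ^ 8 = 1 := by
      intro y' hy'
      have h1 : K.psi y' ^ 64 = 1 := by
        rw [← map_pow, show y' ^ 64 = 1 from Subtype.ext (hN2 _ hy'), map_one]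
      have h2 : K.psi y' ^ 24 = 1 := by
        refine orderOf_dvd_iff_pow_eq_one.1 ((orderOf_dvd_natCard _).trans ?_)
        rw [Nat.card_perm, Nat.card_fin]; decide
      have h3 := Nat.dvd_gcd (orderOf_dvd_of_pow_eq_one h1) (orderOf_dvd_of_pow_eq_one h2)
      exact orderOf_dvd_iff_pow_eq_one.1 h3
    refine klein4_max _ (h64 ⟨y, hNle hy⟩ hy) fun s hs => ?_
    obtain ⟨u, hu⟩ := K.toDAlt.alternating_le_range K.pairing K.xz (mem_alternatingGroup.2 hs)
    have hu' : K.psi u = s := hu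
    rw [← hu', ← map_inv, ← map_inv, ← map_mul, ← map_mul, ← map_mul]
    refine h64 _ ?_
    show y * ((u : G) * y⁻¹ * (u : G)⁻¹) ∈ N
    exact mul_mem hy (hnorm u u.2 _ (inv_mem hy))
  refine Solv.mem_normalizer_of_conj_smul ?_
  exact Subgroup.eq_of_le_of_card_ge hle (Solv.card_conj_smul _ _).ge

/-- The points of `R` fixed by `h` form the four-group. -/
theorem R_cent_h {u : G} (hu : u ∈ K.R) (hc : Commute u K.h) : u ∈ K.V := by
  obtain ⟨hz, hx⟩ := K.toDAlt.mem_cent2.1 (K.R_le hu)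
  obtain ⟨i, hi, v, hv, rfl⟩ := K.cent_xh hz hx hc
  have h1 : K.h ^ i ∈ K.R := by
    have := mul_mem hu (inv_mem (K.V_le_R hv))
    rwa [mul_inv_cancel_right] at this
  have h2 := pow_card_eq_one' (G := K.R) (x := ⟨_, h1⟩)
  rw [K.card_R] at h2
  have h3 : (K.h ^ i) ^ 64 = 1 := by simpa using congrArg Subtype.val h2
  have h4 : (K.h ^ i) ^ 3 = 1 := by rw [← pow_mul, mul_comm, pow_mul, K.h3, one_pow]
  have h5 : K.h ^ i = 1 := by
    rw [show 64 = 3 * 21 + 1 from rfl, pow_succ, pow_mul, h4, one_pow, one_mul] at h3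
    exact h3
  rwa [h5, one_mul]

end Ctx

end Cfsg.Agent.Spor.DoubleAlt
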