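import Cfsg.Agent.Lib.Spor.DoubleAlt.Nine.Small

/-!
# Nine points with `U` of order nine: centralizers of the rotations
-/

set_option autoImplicit false
set_option linter.style.haveILetI false
set_option linter.unusedSectionVars false
set_option maxHeartbeats 1000000
set_option synthInstance.maxHeartbeats 400000
set_option synthInstance.maxSize 2048

open Equiv Equiv.Perm
open scoped Pointwise

namespace Cfsg.Agent.Spor.DoubleAlt

open Nine

universe u

variable {G : Type u} [Group G]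

/-- Commuting is preserved by conjugation. -/
theorem commute_conj_iff {g w y y' : G} (e : g * y * g⁻¹ = y') : Commute (g * w * g⁻¹) y' ↔ Commute w y := by
  rw [← e]
  exact Commute.conj_iff g

/-- An element of order three is not its own inverse. -/
theorem inv_ne_self_of_cube {w : G} (h3 : w ^ 3 = 1) (h1 : w ≠ 1) : w⁻¹ ≠ w := fun e => h1 (by
  have h2 : w ^ 2 = 1 := by rw [pow_two]; exact mul_eq_one_iff_eq_inv.2 e.symm
  rwa [pow_succ, h2, one_mul] at h3)

/-- An element of odd order lies in a subgroup normalized by an involution if its product does. -/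
theorem mem_of_mul_invol {L : Subgroup G} {g t : G} (ht2 : t * t = 1)
    (ht : t ∈ Subgroup.normalizer (L : Set G)) (hodd : Odd (orderOf g)) (h : g * t ∈ L) : g ∈ L := by
  obtain ⟨k, hk⟩ := hodd
  have h2 : g * g ∈ L := by
    have h3 := (Subgroup.mem_normalizer_iff.1 ht _).1 h
    have : g * t * (t * (g * t) * t⁻¹) = g * g := by
      rw [show g * t * (t * (g * t) * t⁻¹) = g * (t * t) * g * (t * t⁻¹) by group, ht2, mul_one,
        mul_inv_cancel, mul_one]
    rw [← this]
    exact mul_mem h h3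
  have e : (g * g) ^ (k + 1) = g := by
    rw [← pow_two, ← pow_mul, show 2 * (k + 1) = 2 * k + 1 + 1 by ring, pow_succ, ← hk, pow_orderOf_eq_one,
      one_mul]
  exact e ▸ pow_mem h2 _

namespace Ctx

variable [Finite G] (K : Ctx G 0)
include K

/-- The number of elements inverted by `z` in a group of odd order. -/
theorem inv_count {L : Subgroup G} (hodd : Odd (Nat.card L))
    (hz : K.z ∈ Subgroup.normalizer (L : Set G)) :
    Nat.card {y : G // y ∈ L ∧ K.z * y * K.z⁻¹ = y⁻¹} *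
      Nat.card (L ⊓ Subgroup.centralizer {K.z} : Subgroup G) = Nat.card L := by
  haveI : Fact (Nat.Prime 2) := ⟨Nat.prime_two⟩
  rw [← Fusion.card_inverted (orderOf_eq_prime (by rw [pow_two]; exact K.sq_z) K.z_ne) hz hodd]
  have h := ((L ⊓ Subgroup.centralizer {K.z}).subgroupOf L).card_mul_index
  rw [Solv.card_subgroupOf inf_le_left, mul_comm] at h
  exact h

theorem A_card : Nat.card K.A = 27 := by
  let f : Fin 3 × Fin 3 × Fin 3 → K.A := fun v =>
    ⟨K.a ^ (v.1 : ℕ) * K.b ^ (v.2.1 : ℕ) * K.c ^ (v.2.2 : ℕ),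
      mul_mem (mul_mem (pow_mem K.a_mem _) (pow_mem K.b_mem _)) (pow_mem K.c_mem _)⟩
  have hd : Function.Injective fun v : Fin 3 × Fin 3 × Fin 3 =>
      (pa ^ (v.1 : ℕ) * pb ^ (v.2.1 : ℕ) * pc ^ (v.2.2 : ℕ) : Perm (Fin (0 + 9))) := by
    unfold Function.Injective
    decide +kernel
  have hf : Function.Bijective f := by
    refine ⟨fun v w e => hd ?_, ?_⟩
    · have h := congrArg (fun g : K.A => K.p g) e
      simp only [f, K.p_abc] at h
      exact h
    · rintro ⟨g, hg⟩
      obtain ⟨i, hi, j, hj, k, hk, rfl⟩ := K.A_eq hg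
      exact ⟨(⟨i, hi⟩, ⟨j, hj⟩, ⟨k, hk⟩), rfl⟩
  rw [← Nat.card_congr (Equiv.ofBijective f hf)]
  simp

theorem V_norm_A {v : G} (hv : v ∈ K.V) : v ∈ Subgroup.normalizer (K.A : Set G) := by
  have hx : K.x ∈ Subgroup.normalizer (K.A : Set G) := by
    have h1 : ∀ g ∈ K.A, K.x * g * K.x⁻¹ ∈ K.A := by
      intro g hg
      obtain ⟨i, -, j, -, k, -, rfl⟩ := K.A_eq hg
      rw [show K.x * (K.a ^ i * K.b ^ j * K.c ^ k) * K.x⁻¹ =
        (K.x * K.a ^ i * K.x⁻¹) * (K.x * K.b ^ j * K.x⁻¹) * (K.x * K.c ^ k * K.x⁻¹) by group,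
        ← conj_pow, ← conj_pow, ← conj_pow, K.x_a, K.x_b, K.x_c]
      exact mul_mem (mul_mem (pow_mem K.b_mem _) (pow_mem K.a_mem _)) (pow_mem (inv_mem K.c_mem) _)
    refine Subgroup.mem_normalizer_iff.2 fun g => ⟨h1 g, fun hg => ?_⟩
    have := h1 _ hg
    rwa [show K.x * (K.x * g * K.x⁻¹) * K.x⁻¹ = (K.x * K.x) * g * (K.x * K.x)⁻¹ by group, K.x_sq,
      one_mul, inv_one, mul_one] at this
  have hz : K.z ∈ Subgroup.normalizer (K.A : Set G) := by
    refine Subgroup.mem_normalizer_iff.2 fun g => ⟨fun hg => ?_, fun hg => ?_⟩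
    · rw [← (K.mem_A.1 hg).1.eq, mul_inv_cancel_right]; exact hg
    · have := (K.mem_A.1 hg).1
      have e : K.z * g * K.z⁻¹ = g := by
        have h2 := this.eq
        calc K.z * g * K.z⁻¹ = K.z * g * K.z⁻¹ * K.z * K.z⁻¹ := by group
          _ = K.z * (K.z * g * K.z⁻¹) * K.z⁻¹ := by rw [h2]
          _ = g := by rw [show K.z * (K.z * g * K.z⁻¹) * K.z⁻¹ = (K.z * K.z) * g * (K.z * K.z)⁻¹ by group,
            K.sq_z, one_mul, inv_one, mul_one]
      rwa [e] at hg
  rcases hv with rfl | rfl | rfl | rfl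
  exacts [one_mem _, hz, hx, mul_mem hx hz]

theorem mem_A_iff {g : G} : g ∈ K.A ↔ g ^ 3 = 1 ∧ Commute g K.z ∧ Commute g K.h := by
  refine ⟨fun h => ⟨(K.mem_A.1 h).2.1, (K.mem_A.1 h).1, K.A_comm h K.h_mem⟩, fun ⟨h3, hz, hh⟩ => ?_⟩
  obtain ⟨w, hw, v, hv, rfl⟩ := K.cent_h_nine rfl hz hh
  have h2 : w * v * (w * v) ∈ K.A := by
    have hv2 : v * v = 1 := by rw [← pow_two]; exact K.V_exp hv
    rw [show w * v * (w * v) = w * (v * w * v⁻¹) * (v * v) by group, hv2, mul_one]
    exact mul_mem hw ((Subgroup.mem_normalizer_iff.1 (K.V_norm_A hv) w).1 hw)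
  have e : w * v * (w * v) * (w * v * (w * v)) = w * v := by
    calc _ = (w * v) ^ 3 * (w * v) := by simp [pow_succ, mul_assoc]
      _ = w * v := by rw [h3, one_mul]
  exact e ▸ mul_mem h2 h2

theorem mem_A_of_odd {g : G} (hodd : Odd (orderOf g)) (hz : Commute g K.z) (hh : Commute g K.h) :
    g ∈ K.A :=
  K.mem_A_iff.2 ⟨K.cube_of_conj (g := 1) (by group) (Or.inl (by group)) hz hh hodd, hz, hh⟩

theorem odd_of_cube {g : G} (h : g ^ 3 = 1) : Odd (orderOf g) :=
  (show Odd 3 from ⟨1, rfl⟩).of_dvd_nat (orderOf_dvd_of_pow_eq_one h)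

theorem card_zpowers_h : Nat.card (Subgroup.zpowers K.h) = 3 := by rw [Nat.card_zpowers, K.orderOf_h]

theorem A_cent_x {g : G} (hg : g ∈ K.A) (hgx : Commute g K.x) : g ∈ Subgroup.zpowers K.h := by
  obtain ⟨i, -, v, hv, e⟩ := K.cent_xh (K.mem_A.1 hg).1 hgx (K.A_comm hg K.h_mem)
  have hvA : v ∈ K.A := by
    have := mul_mem (inv_mem (pow_mem K.h_mem i)) hg
    rwa [e, inv_mul_cancel_left] at this
  have hv1 : v = 1 := by
    have h3 := (K.mem_A.1 hvA).2.1
    rwa [pow_succ, K.V_exp hv, one_mul] at h3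
  rw [e, hv1, mul_one]
  exact pow_mem (Subgroup.mem_zpowers _) _

/-- The fixed points of `h` on the odd core. -/
noncomputable def L : Subgroup G := K.O ⊓ Subgroup.centralizer {K.h}

theorem mem_L {g : G} : g ∈ K.L ↔ g ∈ K.O ∧ Commute g K.h := by
  rw [L, Subgroup.mem_inf, Subgroup.mem_centralizer_singleton_iff]; rfl

theorem L_odd : Odd (Nat.card K.L) := K.O_spec.2.1.of_dvd_nat (Subgroup.card_dvd_of_le inf_le_left)

theorem norm_L {g : G} (hg : g ∈ Subgroup.normalizer (K.O : Set G))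
    (h : g * K.h * g⁻¹ = K.h ∨ g * K.h * g⁻¹ = K.h⁻¹) :
    g ∈ Subgroup.normalizer (K.L : Set G) := by
  refine Subgroup.mem_normalizer_iff.2 fun w => ?_
  rw [K.mem_L, K.mem_L]
  refine and_congr (Subgroup.mem_normalizer_iff.1 hg w) ?_
  rcases h with e | e
  · exact (commute_conj_iff e).symm
  · rw [← commute_conj_iff (w := w) e, Commute.inv_right_iff]

theorem z_norm_L : K.z ∈ Subgroup.normalizer (K.L : Set G) :=
  K.norm_L K.z_norm_O (Or.inl (by rw [← K.hz.eq, mul_inv_cancel_right]))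

theorem x_norm_L : K.x ∈ Subgroup.normalizer (K.L : Set G) :=
  K.norm_L K.x_norm_O (Or.inl (by rw [← K.hx.eq, mul_inv_cancel_right]))

theorem s_norm_L : K.s ∈ Subgroup.normalizer (K.L : Set G) := K.norm_L K.s_norm_O (Or.inr K.s_h)

theorem L_cent_z : K.L ⊓ Subgroup.centralizer {K.z} = Subgroup.zpowers K.c := by
  refine le_antisymm (fun g hg => K.O_cent_z (K.mem_L |>.1 hg.1).1
    (Subgroup.mem_centralizer_singleton_iff.1 hg.2)) (Subgroup.zpowers_le.2 ⟨(K.mem_L).2
      ⟨K.c_mem_O, K.hc.symm⟩, Subgroup.mem_centralizer_singleton_iff.2 K.cz.eq⟩)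

theorem L_cent_z_card : Nat.card (K.L ⊓ Subgroup.centralizer {K.z} : Subgroup G) = 3 := by
  rw [K.L_cent_z, Nat.card_zpowers, K.orderOf_c]

theorem L_cent_x : K.L ⊓ Subgroup.centralizer {K.x} = K.U ⊓ Subgroup.centralizer {K.h} := by
  rw [L, U, inf_right_comm]

theorem L_le_c {o : G} (ho : o ∈ K.L) : Commute o K.c := K.O_comm ((K.mem_L).1 ho).1

variable (hU : Nat.card K.U = 9)
include hU

theorem U_trans {v w : G} (hv : v ∈ K.U) (hv1 : v ≠ 1) (hw : w ∈ K.U) (hw1 : w ≠ 1) :
    ∃ q ∈ K.Q, q * v * q⁻¹ = w := by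
  let f : K.Q → ↥((K.U : Set G) \ {1}) := fun q => ⟨q * v * (q : G)⁻¹,
    (Subgroup.mem_normalizer_iff.1 (K.Q_norm_U q.2) v).1 hv, fun e => hv1 (conj_eq_one_iff.1 e)⟩
  have hf : Function.Injective f := by
    intro p q e
    have e' : (p : G) * v * (p : G)⁻¹ = q * v * (q : G)⁻¹ := congrArg Subtype.val e
    refine Subtype.ext (inv_mul_eq_one.1 (K.Q_free (mul_mem (inv_mem q.2) p.2) hv hv1 ?_)).symm
    calc (q : G)⁻¹ * p * v * ((q : G)⁻¹ * p)⁻¹ = (q : G)⁻¹ * ((p : G) * v * (p : G)⁻¹) * q := by group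
      _ = v := by rw [e']; group
  have hcard : Nat.card ↥((K.U : Set G) \ {1}) = 8 := by
    rw [Nat.card_coe_set_eq, Set.ncard_sdiff (by simp [one_mem]), Set.ncard_singleton, ← Nat.card_coe_set_eq]
    show Nat.card K.U - 1 = 8
    rw [hU]
  obtain ⟨q, hq⟩ := ((Nat.bijective_iff_injective_and_card f).2 ⟨hf, by rw [K.Q_card, hcard]⟩).2 ⟨w, hw, hw1⟩
  exact ⟨q, q.2, congrArg Subtype.val hq⟩

theorem U_cube {v : G} (hv : v ∈ K.U) : v ^ 3 = 1 := by
  rcases eq_or_ne v 1 with rfl | hv1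
  · exact one_pow 3
  haveI : Fact (Nat.Prime 3) := ⟨Nat.prime_three⟩
  obtain ⟨w, hw⟩ := exists_prime_orderOf_dvd_card' (G := K.U) 3 (by rw [hU]; norm_num)
  have hw3 : (w : G) ^ 3 = 1 := by
    have := congrArg Subtype.val (hw ▸ pow_orderOf_eq_one w : w ^ 3 = 1)
    simpa using this
  have hw1 : (w : G) ≠ 1 := fun e => by
    rw [show w = 1 from Subtype.ext e, orderOf_one] at hw; omega
  obtain ⟨q, -, hq⟩ := K.U_trans hU w.2 hw1 hv hv1
  rw [← hq, conj_pow, hw3, mul_one, mul_inv_cancel]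

theorem U_cent_h_card : Nat.card (K.U ⊓ Subgroup.centralizer {K.h} : Subgroup G) = 3 := by
  set L := K.U ⊓ Subgroup.centralizer {K.h} with hL
  have hd : Nat.card L ∣ 9 := hU ▸ Subgroup.card_dvd_of_le inf_le_left
  have h1 : Nat.card L ≠ 1 := by
    intro h
    have hbot := Subgroup.eq_bot_of_card_eq _ h
    have h3 := dvd_card_conj_free (Subgroup.zpowers K.h) ((K.U : Set G) \ {1})
      (fun e he u hu => ⟨(Subgroup.mem_normalizer_iff.1 (Subgroup.zpowers_le.2
        (K.norm_U (K.norm_O_comm K.hc) K.hx) he) u).1 hu.1, fun e1 => hu.2 (conj_eq_one_iff.1 e1)⟩)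
      (fun e he u hu hfix => by
        by_contra hne
        have hgen : K.h ∈ Subgroup.zpowers e := by
          have : Subgroup.zpowers e = Subgroup.zpowers K.h := by
            refine Subgroup.eq_of_le_of_card_ge (Subgroup.zpowers_le.2 he) ?_
            have hd := Subgroup.orderOf_dvd_natCard _ he
            rw [K.card_zpowers_h] at hd ⊢
            rw [Nat.card_zpowers]
            rcases (Nat.dvd_prime Nat.prime_three).1 hd with h1 | h1
            · exact absurd (orderOf_eq_one_iff.1 h1) hne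
            · exact h1.ge
          exact this ▸ Subgroup.mem_zpowers _
        obtain ⟨n, hn⟩ := hgen
        have hc : Commute K.h u := hn ▸ (show Commute e u from mul_inv_eq_iff_eq_mul.1 hfix).zpow_left n
        exact hu.2 ((Subgroup.eq_bot_iff_forall _).1 hbot u
          ⟨hu.1, Subgroup.mem_centralizer_singleton_iff.2 hc.symm.eq⟩))
    rw [K.card_zpowers_h, Nat.card_coe_set_eq, Set.ncard_sdiff (by simp [one_mem]), Set.ncard_singleton,
      ← Nat.card_coe_set_eq] at h3
    have : Nat.card ↥(K.U : Set G) = 9 := hU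
    omega
  have h9 : Nat.card L ≠ 9 := by
    intro h
    have htop : L = K.U := Subgroup.eq_of_le_of_card_ge inf_le_left (by rw [h, hU])
    obtain ⟨v, hv, hv1⟩ := K.U.bot_or_exists_ne_one.resolve_left fun e => by
      rw [e, Subgroup.card_bot] at hU; omega
    have hcom : ∀ w ∈ K.U, Commute K.h w := fun w hw =>
      (show Commute w K.h from Subgroup.mem_centralizer_singleton_iff.1 (htop.symm ▸ hw : w ∈ L).2).symm
    set q := K.h * K.q1 * K.h⁻¹ with hq
    have hsame : q * v * q⁻¹ = K.q1 * v * K.q1⁻¹ := by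
      have hmem : K.q1 * v * K.q1⁻¹ ∈ K.U := (Subgroup.mem_normalizer_iff.1
        (K.norm_U (K.norm_O_comm K.cq1.symm) K.q1x) v).1 hv
      calc q * v * q⁻¹ = K.h * (K.q1 * (K.h⁻¹ * v * K.h) * K.q1⁻¹) * K.h⁻¹ := by rw [hq]; group
        _ = K.h * (K.q1 * v * K.q1⁻¹) * K.h⁻¹ := by
          rw [(hcom v hv).inv_left.eq, inv_mul_cancel_right]
        _ = _ := by rw [(hcom _ hmem).eq, mul_inv_cancel_right]
    have hq1Q : K.q1 ∈ K.Q := ⟨K.q1z, Or.inr (Or.inl K.p_q1)⟩
    have hq2Q : q ∈ K.Q := by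
      rcases K.h_q1 with e | e <;> rw [hq, e]
      · exact ⟨K.q2z, Or.inr (Or.inr (Or.inl K.p_q2))⟩
      · exact ⟨K.q2z.mul_left K.toDAlt.comm_zz,
          Or.inr (Or.inr (Or.inl ((K.toDAlt.p_mul_z K.q2z).trans K.p_q2)))⟩
    have h1 := K.Q_free (mul_mem (inv_mem hq1Q) hq2Q) hv hv1 (by
      rw [show K.q1⁻¹ * q * v * (K.q1⁻¹ * q)⁻¹ = K.q1⁻¹ * (q * v * q⁻¹) * K.q1 by group, hsame]; group)
    have hqq : q = K.q1 := (inv_mul_eq_one.1 h1).symm
    have hp := congrArg K.p hqq
    rw [hq, K.toDAlt.p_conj K.hz K.q1z, K.p_h, K.p_q1] at hp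
    revert hp
    decide +kernel
  have : Nat.card L = 1 ∨ Nat.card L = 3 ∨ Nat.card L = 9 := by
    have := (Nat.dvd_prime_pow Nat.prime_three).1 (show Nat.card L ∣ 3 ^ 2 by simpa using hd)
    obtain ⟨k, hk, e⟩ := this
    interval_cases k <;> simp [e]
  omega

theorem L_card : Nat.card K.L = 27 := by
  have h := K.four_formula (K.L_odd) (K.z_norm_L) (K.x_norm_L)
  have e1 : K.L ⊓ Subgroup.centralizer {K.z} ⊓ Subgroup.centralizer {K.x} = ⊥ := by
    refine (Subgroup.eq_bot_iff_forall _).2 fun g hg => ?_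
    obtain ⟨⟨⟨h1, -⟩, h2⟩, h3⟩ := hg
    exact K.U_cent_z ⟨h1, h3⟩ (Subgroup.mem_centralizer_singleton_iff.1 h2)
  have e2 : Nat.card (K.L ⊓ Subgroup.centralizer {K.x * K.z} : Subgroup G) = 3 := by
    rw [← K.conj_inf_cent (K.s_norm_L) K.s_x, Solv.card_conj_smul, K.L_cent_x, K.U_cent_h_card hU]
  rw [K.L_cent_z_card, K.L_cent_x, K.U_cent_h_card hU, e2, e1, Subgroup.card_bot] at h
  omega

/-- The rotations of the first two blocks centralize `L`. -/
theorem L_comm_ab {o : G} (ho : o ∈ K.L) : Commute o K.a ∧ Commute o K.b := by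
  set W := K.L ⊓ Subgroup.centralizer {K.a} with hW
  suffices hWL : W = K.L by
    have ha : Commute o K.a := Subgroup.mem_centralizer_singleton_iff.1 (hWL.symm ▸ ho : o ∈ W).2
    refine ⟨ha, ?_⟩
    have := ha.inv_right.mul_right ((K.mem_L).1 ho).2
    rwa [show K.a⁻¹ * K.h = K.b by rw [show K.h = K.a * K.b from rfl, inv_mul_cancel_left]] at this
  have haN : K.a ∈ Subgroup.normalizer (K.L : Set G) :=
    K.norm_L (K.norm_O_comm K.ac) (Or.inl (by rw [(K.A_comm K.a_mem K.h_mem).eq, mul_inv_cancel_right]))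
  have hzW : K.z ∈ Subgroup.normalizer (W : Set G) := by
    refine Subgroup.mem_normalizer_iff.2 fun w => ?_
    simp only [hW, Subgroup.mem_inf, Subgroup.mem_centralizer_singleton_iff]
    exact and_congr (Subgroup.mem_normalizer_iff.1 (K.z_norm_L) w)
      (commute_conj_iff (show K.z * K.a * K.z⁻¹ = K.a by rw [← K.az.eq, mul_inv_cancel_right])).symm
  have hWodd : Odd (Nat.card W) := (K.L_odd).of_dvd_nat (Subgroup.card_dvd_of_le inf_le_left)
  have hWz : W ⊓ Subgroup.centralizer {K.z} = Subgroup.zpowers K.c := by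
    refine le_antisymm (fun g hg => ?_) (Subgroup.zpowers_le.2 ?_)
    · rw [← K.L_cent_z]; exact ⟨hg.1.1, hg.2⟩
    · exact ⟨⟨(K.mem_L).2 ⟨K.c_mem_O, K.hc.symm⟩, Subgroup.mem_centralizer_singleton_iff.2 K.ac.symm.eq⟩,
        Subgroup.mem_centralizer_singleton_iff.2 K.cz.eq⟩
  have hcW := K.inv_count hWodd hzW
  rw [hWz, Nat.card_zpowers, K.orderOf_c] at hcW
  have hcL := K.inv_count (K.L_odd) (K.z_norm_L)
  rw [K.L_cent_z_card, K.L_card hU] at hcL
  set SL : Set G := {y | y ∈ K.L ∧ K.z * y * K.z⁻¹ = y⁻¹} with hSL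
  set SW : Set G := {y | y ∈ W ∧ K.z * y * K.z⁻¹ = y⁻¹} with hSW
  have cL : SL.ncard = 9 := by
    rw [← Nat.card_coe_set_eq]
    change Nat.card {y // y ∈ K.L ∧ K.z * y * K.z⁻¹ = y⁻¹} = 9
    omega
  have hsub : SW ⊆ SL := fun y hy => ⟨hy.1.1, hy.2⟩
  have hle := Set.ncard_le_ncard hsub (Set.toFinite _)
  have h1W : (1 : G) ∈ SW := ⟨one_mem _, by simp⟩
  -- the rotation fixes an inverted element
  have hne : ∃ y ∈ SW, y ≠ 1 := by
    by_contra hno
    push Not at hno
    have h3 := dvd_card_conj_free (Subgroup.zpowers K.a) (SL \ {1})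
      (fun e he y hy => by
        have hconj : e * y * e⁻¹ ∈ K.L :=
          (Subgroup.mem_normalizer_iff.1 (Subgroup.zpowers_le.2 haN he) y).1 hy.1.1
        obtain ⟨n, rfl⟩ := he
        refine ⟨⟨hconj, ?_⟩, fun e1 => hy.2 (conj_eq_one_iff.1 e1)⟩
        have hc : Commute (K.a ^ n) K.z := K.az.zpow_left n
        calc K.z * (K.a ^ n * y * (K.a ^ n)⁻¹) * K.z⁻¹
            = (K.z * K.a ^ n) * y * (K.z * K.a ^ n)⁻¹ := by group
          _ = K.a ^ n * (K.z * y * K.z⁻¹) * (K.a ^ n)⁻¹ := by rw [← hc.eq]; group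
          _ = (K.a ^ n * y * (K.a ^ n)⁻¹)⁻¹ := by rw [hy.1.2]; group)
      (fun e he y hy hfix => by
        by_contra hne
        have hd : orderOf e = 3 := by
          have h := Subgroup.orderOf_dvd_natCard _ he
          rw [Nat.card_zpowers] at h
          rcases (Nat.dvd_prime Nat.prime_three).1 (h.trans (orderOf_dvd_of_pow_eq_one K.a3)) with h1 | h1
          · exact absurd (orderOf_eq_one_iff.1 h1) hne
          · exact h1
        have hgen : Subgroup.zpowers e = Subgroup.zpowers K.a := by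
          refine Subgroup.eq_of_le_of_card_ge (Subgroup.zpowers_le.2 he) ?_
          rw [Nat.card_zpowers, Nat.card_zpowers, hd]
          exact Nat.le_of_dvd (by norm_num) (orderOf_dvd_of_pow_eq_one K.a3)
        obtain ⟨n, hn⟩ : K.a ∈ Subgroup.zpowers e := hgen ▸ Subgroup.mem_zpowers _
        have hc : Commute K.a y := hn ▸ (show Commute e y from mul_inv_eq_iff_eq_mul.1 hfix).zpow_left n
        exact hy.2 (hno y ⟨⟨hy.1.1, Subgroup.mem_centralizer_singleton_iff.2 hc.symm.eq⟩, hy.1.2⟩))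
    rw [Nat.card_zpowers, show orderOf K.a = 3 from by
        haveI : Fact (Nat.Prime 3) := ⟨Nat.prime_three⟩
        refine orderOf_eq_prime K.a3 fun e => ?_
        have h : K.p K.a = 1 := by rw [e, K.toDAlt.p_one]
        rw [K.p_a] at h
        revert h; decide +kernel,
      Nat.card_coe_set_eq, Set.ncard_sdiff (Set.singleton_subset_iff.2 (hsub h1W)), Set.ncard_singleton,
      cL] at h3
    omega
  -- the element of order eight acts semiregularly
  have hsig : 8 ∣ (SW \ {1}).ncard := by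
    have hsa : ∀ w, Commute w K.a → Commute w K.b →
        Commute (K.sig * w * K.sig⁻¹) K.a ∧ Commute (K.sig * w * K.sig⁻¹) K.b := by
      intro w h1 h2
      exact ⟨by simpa using ((commute_conj_iff K.sig_b).2 h2).inv_right, (commute_conj_iff K.sig_a).2 h1⟩
    have hmove : ∀ w ∈ SW, K.sig * w * K.sig⁻¹ ∈ SW := by
      rintro w ⟨⟨hwL, hwa⟩, hwz⟩
      have ha : Commute w K.a := Subgroup.mem_centralizer_singleton_iff.1 hwa
      have hb : Commute w K.b := by
        have := ha.inv_right.mul_right ((K.mem_L).1 hwL).2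
        rwa [show K.a⁻¹ * K.h = K.b by rw [show K.h = K.a * K.b from rfl, inv_mul_cancel_left]] at this
      obtain ⟨h1, h2⟩ := hsa w ha hb
      refine ⟨⟨(K.mem_L).2 ⟨(Subgroup.mem_normalizer_iff.1 (K.norm_O_comm K.csig.symm) w).1
        ((K.mem_L).1 hwL).1, h1.mul_right h2⟩, Subgroup.mem_centralizer_singleton_iff.2 h1.eq⟩, ?_⟩
      calc K.z * (K.sig * w * K.sig⁻¹) * K.z⁻¹ = (K.z * K.sig) * w * (K.z * K.sig)⁻¹ := by group
        _ = K.sig * (K.z * w * K.z⁻¹) * K.sig⁻¹ := by rw [← K.sigz.eq]; group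
        _ = (K.sig * w * K.sig⁻¹)⁻¹ := by rw [hwz]; group
    have ho8 : orderOf K.sig = 8 := by
      haveI : Fact (Nat.Prime 2) := ⟨Nat.prime_two⟩
      exact orderOf_eq_prime_pow (p := 2) (n := 2) (by rw [show 2 ^ 2 = 4 from rfl, K.sig_four]; exact K.z_ne)
        (by rw [show 2 ^ (2 + 1) = 4 * 2 from rfl, pow_mul, K.sig_four, pow_two, K.sq_z])
    have hpow : ∀ n : ℕ, ∀ w ∈ SW, K.sig ^ n * w * (K.sig ^ n)⁻¹ ∈ SW := by
      intro n
      induction n with
      | zero => intro w hw; simpa using hw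
      | succ n ih =>
        intro w hw
        rw [show K.sig ^ (n + 1) * w * (K.sig ^ (n + 1))⁻¹ =
          K.sig * (K.sig ^ n * w * (K.sig ^ n)⁻¹) * K.sig⁻¹ by rw [pow_succ']; group]
        exact hmove _ (ih w hw)
    have h8 := dvd_card_conj_free (Subgroup.zpowers K.sig) (SW \ {1})
      (fun e he w hw => by
        obtain ⟨n, rfl⟩ := mem_powers_iff_mem_zpowers.mpr he
        exact ⟨hpow n w hw.1, fun e1 => hw.2 (conj_eq_one_iff.1 e1)⟩)
      (fun e he w hw hfix => by
        obtain ⟨n, rfl⟩ := mem_powers_iff_mem_zpowers.mpr he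
        simp only at hfix ⊢
        by_contra hne
        rw [← pow_mod_orderOf, ho8] at hne hfix
        have hc : Commute (K.sig ^ (n % 8)) w := mul_inv_eq_iff_eq_mul.1 hfix
        have hcz : Commute K.z w := by
          have h4 : Commute ((K.sig ^ (n % 8)) ^ 4) w := hc.pow_left 4
          have h2 : Commute ((K.sig ^ (n % 8)) ^ 2) w := hc.pow_left 2
          have : n % 8 = 0 ∨ n % 8 = 1 ∨ n % 8 = 2 ∨ n % 8 = 3 ∨ n % 8 = 4 ∨ n % 8 = 5 ∨ n % 8 = 6 ∨
              n % 8 = 7 := by omega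
          rcases this with e | e | e | e | e | e | e | e <;> rw [e] at hc h2 h4 hne
          · exact absurd (pow_zero _) hne
          all_goals
            first
              | (rw [K.sig_four] at hc; exact hc)
              | (rw [← pow_mul, show (2 * 2 : ℕ) = 4 from rfl, K.sig_four] at h2; exact h2)
              | (rw [← pow_mul, show (6 * 2 : ℕ) = 4 * 3 from rfl, pow_mul, K.sig_four, pow_succ, pow_two,
                  K.sq_z, one_mul] at h2; exact h2)
              | (rw [← pow_mul, mul_comm, pow_mul, K.sig_four, pow_one] at h4; exact h4)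
              | (rw [← pow_mul, mul_comm, pow_mul, K.sig_four, pow_succ, pow_two, K.sq_z, one_mul] at h4
                 exact h4)
              | (rw [← pow_mul, mul_comm, pow_mul, K.sig_four, show K.z ^ 5 = K.z from by
                  simp [pow_succ, K.sq_z]] at h4; exact h4)
              | (rw [← pow_mul, mul_comm, pow_mul, K.sig_four, show K.z ^ 7 = K.z from by
                  simp [pow_succ, K.sq_z]] at h4; exact h4)
        have hw2 := hw.1.2
        rw [hcz.eq, mul_inv_cancel_right] at hw2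
        refine hw.2 (orderOf_eq_one_iff.1 ?_)
        have hd : orderOf w ∣ 2 := orderOf_dvd_of_pow_eq_one (by
          rw [pow_two]; exact mul_eq_one_iff_eq_inv.2 hw2)
        have ho : Odd (orderOf w) := hWodd.of_dvd_nat (Subgroup.orderOf_dvd_natCard W hw.1.1)
        rcases (Nat.dvd_prime Nat.prime_two).1 hd with h | h
        · exact h
        · rw [h] at ho; exact absurd ho (by decide))
    rwa [Nat.card_zpowers, ho8, Nat.card_coe_set_eq] at h8
  obtain ⟨y, hy, hy1⟩ := hne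
  have hpos : 0 < (SW \ {1}).ncard := (Set.ncard_pos (Set.toFinite _)).2 ⟨y, hy, hy1⟩
  rw [Set.ncard_sdiff (Set.singleton_subset_iff.2 h1W), Set.ncard_singleton] at hsig hpos
  have hSW9 : SW.ncard = 9 := by omega
  have hWc : Nat.card W = 27 := by
    rw [← hcW]
    change Nat.card ↥SW * 3 = 27
    rw [Nat.card_coe_set_eq, hSW9]
  exact Subgroup.eq_of_le_of_card_ge inf_le_left (by rw [hWc, K.L_card hU])

/-- The fixed points of the first rotation on the odd core. -/
theorem O_cent_a {o : G} (ho : o ∈ K.O) (hoa : Commute o K.a) : o ∈ K.L := by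
  set W := K.O ⊓ Subgroup.centralizer {K.a} with hW
  have hLW : K.L ≤ W := fun v hv =>
    ⟨((K.mem_L).1 hv).1, Subgroup.mem_centralizer_singleton_iff.2 (K.L_comm_ab hU hv).1.eq⟩
  suffices hWc : Nat.card W ≤ 27 by
    have : K.L = W := Subgroup.eq_of_le_of_card_ge hLW (by rw [K.L_card hU]; exact hWc)
    exact this ▸ ⟨ho, Subgroup.mem_centralizer_singleton_iff.2 hoa.eq⟩
  have hWodd : Odd (Nat.card W) := K.O_spec.2.1.of_dvd_nat (Subgroup.card_dvd_of_le inf_le_left)
  have hzW : K.z ∈ Subgroup.normalizer (W : Set G) := by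
    refine Subgroup.mem_normalizer_iff.2 fun w => ?_
    simp only [hW, Subgroup.mem_inf, Subgroup.mem_centralizer_singleton_iff]
    exact and_congr (Subgroup.mem_normalizer_iff.1 K.z_norm_O w)
      (commute_conj_iff (show K.z * K.a * K.z⁻¹ = K.a by rw [← K.az.eq, mul_inv_cancel_right])).symm
  have hWz : W ⊓ Subgroup.centralizer {K.z} = Subgroup.zpowers K.c := by
    refine le_antisymm (fun g hg => K.O_cent_z hg.1.1 (Subgroup.mem_centralizer_singleton_iff.1 hg.2))
      (Subgroup.zpowers_le.2 ?_)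
    exact ⟨⟨K.c_mem_O, Subgroup.mem_centralizer_singleton_iff.2 K.ac.symm.eq⟩,
      Subgroup.mem_centralizer_singleton_iff.2 K.cz.eq⟩
  have hcW := K.inv_count hWodd hzW
  rw [hWz, Nat.card_zpowers, K.orderOf_c] at hcW
  set SW : Set G := {y | y ∈ W ∧ K.z * y * K.z⁻¹ = y⁻¹} with hSW
  have hjW : ∀ w ∈ SW, K.j * w * K.j⁻¹ ∈ SW := by
    rintro w ⟨⟨hwO, hwa⟩, hwz⟩
    refine ⟨⟨(Subgroup.mem_normalizer_iff.1 (K.norm_O_comm K.cj.symm) w).1 hwO,
      Subgroup.mem_centralizer_singleton_iff.2 ?_⟩, ?_⟩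
    · exact (Commute.inv_right_iff.1 ((commute_conj_iff K.j_a).2
        (Subgroup.mem_centralizer_singleton_iff.1 hwa))).eq
    · calc K.z * (K.j * w * K.j⁻¹) * K.z⁻¹ = (K.z * K.j) * w * (K.z * K.j)⁻¹ := by group
        _ = K.j * (K.z * w * K.z⁻¹) * K.j⁻¹ := by rw [← K.jz.eq]; group
        _ = (K.j * w * K.j⁻¹)⁻¹ := by rw [hwz]; group
  have ho4 : orderOf K.j = 4 := by
    haveI : Fact (Nat.Prime 2) := ⟨Nat.prime_two⟩
    exact orderOf_eq_prime_pow (p := 2) (n := 1) (by rw [pow_one, pow_two, K.j_sq]; exact K.z_ne)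
      (by rw [show 2 ^ (1 + 1) = 2 * 2 from rfl, pow_mul, pow_two, pow_two, K.j_sq, K.sq_z])
  have hpow : ∀ n : ℕ, ∀ w ∈ SW, K.j ^ n * w * (K.j ^ n)⁻¹ ∈ SW := by
    intro n
    induction n with
    | zero => intro w hw; simpa using hw
    | succ n ih =>
      intro w hw
      rw [show K.j ^ (n + 1) * w * (K.j ^ (n + 1))⁻¹ = K.j * (K.j ^ n * w * (K.j ^ n)⁻¹) * K.j⁻¹ by
        rw [pow_succ']; group]
      exact hjW _ (ih w hw)
  have h4 := dvd_card_conj_free (Subgroup.zpowers K.j) (SW \ {1})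
    (fun e he w hw => by
      obtain ⟨n, rfl⟩ := mem_powers_iff_mem_zpowers.mpr he
      exact ⟨hpow n w hw.1, fun e1 => hw.2 (conj_eq_one_iff.1 e1)⟩)
    (fun e he w hw hfix => by
      obtain ⟨n, rfl⟩ := mem_powers_iff_mem_zpowers.mpr he
      simp only at hfix ⊢
      by_contra hne
      rw [← pow_mod_orderOf, ho4] at hne hfix
      have hc : Commute (K.j ^ (n % 4)) w := mul_inv_eq_iff_eq_mul.1 hfix
      have hcz : Commute K.z w := by
        have h2 : Commute ((K.j ^ (n % 4)) ^ 2) w := hc.pow_left 2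
        have : n % 4 = 0 ∨ n % 4 = 1 ∨ n % 4 = 2 ∨ n % 4 = 3 := by omega
        rcases this with e | e | e | e <;> rw [e] at hc h2 hne
        · exact absurd (pow_zero _) hne
        · rw [pow_one, pow_two, K.j_sq] at h2; exact h2
        · rw [pow_two, K.j_sq] at hc; exact hc
        · rw [← pow_mul, show (3 * 2 : ℕ) = 2 * 3 from rfl, pow_mul, pow_two, K.j_sq, pow_succ, pow_two,
            K.sq_z, one_mul] at h2
          exact h2
      have hw2 := hw.1.2
      rw [hcz.eq, mul_inv_cancel_right] at hw2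
      refine hw.2 (orderOf_eq_one_iff.1 ?_)
      have hd : orderOf w ∣ 2 := orderOf_dvd_of_pow_eq_one (by
        rw [pow_two]; exact mul_eq_one_iff_eq_inv.2 hw2)
      have ho : Odd (orderOf w) := hWodd.of_dvd_nat (Subgroup.orderOf_dvd_natCard W hw.1.1)
      rcases (Nat.dvd_prime Nat.prime_two).1 hd with h | h
      · exact h
      · rw [h] at ho; exact absurd ho (by decide))
  rw [Nat.card_zpowers, ho4, Nat.card_coe_set_eq,
    Set.ncard_sdiff (Set.singleton_subset_iff.2 (show (1 : G) ∈ SW from ⟨one_mem _, by simp⟩)),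
    Set.ncard_singleton] at h4
  have hd : Nat.card W ∣ 3 ^ 5 := by
    have := Subgroup.card_dvd_of_le (inf_le_left : W ≤ K.O)
    rwa [K.card_O, hU] at this
  obtain ⟨k, hk, hk'⟩ := (Nat.dvd_prime_pow Nat.prime_three).1 hd
  change Nat.card ↥SW * 3 = Nat.card W at hcW
  rw [Nat.card_coe_set_eq, hk'] at hcW
  have hne5 : k ≠ 5 := by
    rintro rfl
    have hWO : W = K.O := Subgroup.eq_of_le_of_card_ge inf_le_left (by rw [hk', K.card_O, hU]; norm_num)
    set N := Subgroup.centralizer {K.z} ⊓ Subgroup.centralizer {K.c} ⊓ Subgroup.centralizer (K.O : Set G)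
      with hN
    have hN1 : ∀ g ∈ N, Commute g K.z ∧ Commute g K.c := fun g hg =>
      ⟨Subgroup.mem_centralizer_singleton_iff.1 hg.1.1, Subgroup.mem_centralizer_singleton_iff.1 hg.1.2⟩
    have hnor : ∀ g : G, Commute g K.z → Commute g K.c → ∀ v ∈ N, g * v * g⁻¹ ∈ N := by
      intro g hgz hgc v hv
      refine ⟨⟨Subgroup.mem_centralizer_singleton_iff.2 (K.toDAlt.comm_conj hgz (hN1 v hv).1).eq,
        Subgroup.mem_centralizer_singleton_iff.2 ((hgc.mul_left (hN1 v hv).2).mul_left hgc.inv_left).eq⟩,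
        Subgroup.mem_centralizer_iff.2 fun w hw => ?_⟩
      have hw' : g⁻¹ * w * g ∈ K.O := by
        have := (Subgroup.mem_normalizer_iff.1 (inv_mem (K.norm_O_comm hgc)) w).1 hw
        rwa [inv_inv] at this
      have h := Subgroup.mem_centralizer_iff.1 hv.2 _ hw'
      calc w * (g * v * g⁻¹) = g * (g⁻¹ * w * g * v) * g⁻¹ := by group
        _ = g * (v * (g⁻¹ * w * g)) * g⁻¹ := by rw [h]
        _ = g * v * g⁻¹ * w := by group
    have haN : K.a ∈ N := ⟨⟨Subgroup.mem_centralizer_singleton_iff.2 K.az.eq,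
      Subgroup.mem_centralizer_singleton_iff.2 K.ac.eq⟩, Subgroup.mem_centralizer_iff.2 fun w hw =>
        Subgroup.mem_centralizer_singleton_iff.1 (hWO.symm ▸ hw : w ∈ W).2⟩
    rcases K.normal_cent_c hN1 hnor with h | h
    · obtain ⟨i, hi, e⟩ := h K.a haN
      rw [K.p_a] at e
      revert e
      interval_cases i <;> decide +kernel
    · have hbot : K.U = ⊥ := (Subgroup.eq_bot_iff_forall _).2 fun v hv =>
        K.U_cent_z hv (Subgroup.mem_centralizer_iff.1 h.2 v (K.mem_U.1 hv).1)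
      rw [hbot, Subgroup.card_bot] at hU
      omega
  rw [hk']
  interval_cases k <;> omega

end Ctx

end Cfsg.Agent.Spor.DoubleAlt
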