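import Cfsg.Agent.Lib.Spor.DoubleAlt.Nine.LargeBase

/-!
# Nine points with `U` of order nine: the group `A₂` and the conjugates of `A`
-/

set_option autoImplicit false
set_option linter.style.haveILetI false
set_option linter.unusedSectionVars false
set_option maxHeartbeats 1000000
set_option synthInstance.maxHeartbeats 400000
set_option synthInstance.maxSize 2048

open Equiv Equiv.Perm
open scoped Pointwise

namespace Cfsg.Agent.Spor.DoubleAlt.Ctx

open Nine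

universe u

variable {G : Type u} [Group G] [Finite G] (K : Ctx G 0)
include K

/-- An element interchanging `z` and `x` and normalizing `⟨h⟩`. -/
noncomputable def g0 : G := K.exists_swap.choose

theorem g0_z : K.g0 * K.z * K.g0⁻¹ = K.x := K.exists_swap.choose_spec.1
theorem g0_x : K.g0 * K.x * K.g0⁻¹ = K.z := K.exists_swap.choose_spec.2.1
theorem g0_h : K.g0 * K.h * K.g0⁻¹ = K.h ∨ K.g0 * K.h * K.g0⁻¹ = K.h⁻¹ :=
  K.exists_swap.choose_spec.2.2

theorem g0_xz : K.g0 * (K.x * K.z) * K.g0⁻¹ = K.x * K.z := by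
  rw [show K.g0 * (K.x * K.z) * K.g0⁻¹ = K.g0 * K.x * K.g0⁻¹ * (K.g0 * K.z * K.g0⁻¹) by group, K.g0_x,
    K.g0_z, K.xz.eq]

theorem g0_comm_h {g : G} : Commute (K.g0 * g * K.g0⁻¹) K.h ↔ Commute g K.h := by
  rcases K.g0_h with e | e
  · exact commute_conj_iff e
  · rw [← commute_conj_iff (w := g) e, Commute.inv_right_iff]

theorem s_comm_h {g : G} : Commute (K.s * g * K.s⁻¹) K.h ↔ Commute g K.h := by
  rw [← commute_conj_iff (w := g) K.s_h, Commute.inv_right_iff]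

theorem s_xz : K.s * (K.x * K.z) * K.s⁻¹ = K.x := by
  rw [show K.s * (K.x * K.z) * K.s⁻¹ = K.s * K.x * K.s⁻¹ * (K.s * K.z * K.s⁻¹) by group, K.s_x, K.sz.eq,
    mul_inv_cancel_right, mul_assoc, K.sq_z, mul_one]

/-- The conjugate of `A` belonging to `x`. -/
noncomputable def A' : Subgroup G := MulAut.conj K.g0 • K.A

/-- The conjugate of `A` belonging to `x z`. -/
noncomputable def A'' : Subgroup G := MulAut.conj K.s • K.A'

theorem mem_A' {g : G} : g ∈ K.A' ↔ g ^ 3 = 1 ∧ Commute g K.x ∧ Commute g K.h := by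
  rw [A', Solv.mem_conj_smul, K.mem_A_iff]
  have e : g = K.g0 * (K.g0⁻¹ * g * K.g0) * K.g0⁻¹ := by group
  refine and_congr ?_ (and_congr ?_ ?_)
  · conv_rhs => rw [e, conj_pow, conj_eq_one_iff]
  · conv_rhs => rw [e]
    exact (commute_conj_iff K.g0_z).symm
  · conv_rhs => rw [e]
    exact K.g0_comm_h.symm

theorem mem_A'' {g : G} : g ∈ K.A'' ↔ g ^ 3 = 1 ∧ Commute g (K.x * K.z) ∧ Commute g K.h := by
  rw [A'', Solv.mem_conj_smul, K.mem_A']
  have e : g = K.s * (K.s⁻¹ * g * K.s) * K.s⁻¹ := by group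
  refine and_congr ?_ (and_congr ?_ ?_)
  · conv_rhs => rw [e, conj_pow, conj_eq_one_iff]
  · conv_rhs => rw [e]
    exact (commute_conj_iff K.s_x).symm
  · conv_rhs => rw [e]
    exact K.s_comm_h.symm

theorem A'_card : Nat.card K.A' = 27 := by rw [A', Solv.card_conj_smul, K.A_card]

theorem A''_card : Nat.card K.A'' = 27 := by rw [A'', Solv.card_conj_smul, K.A'_card]

theorem A'_comm {g g' : G} (hg : g ∈ K.A') (hg' : g' ∈ K.A') : Commute g g' := by
  rw [A', Solv.mem_conj_smul] at hg hg'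
  have := (K.A_comm hg hg').map (MulAut.conj K.g0).toMonoidHom
  simpa [mul_assoc] using this

theorem A''_comm {g g' : G} (hg : g ∈ K.A'') (hg' : g' ∈ K.A'') : Commute g g' := by
  rw [A'', Solv.mem_conj_smul] at hg hg'
  have := (K.A'_comm hg hg').map (MulAut.conj K.s).toMonoidHom
  simpa [mul_assoc] using this

theorem mem_A'_of_odd {g : G} (hodd : Odd (orderOf g)) (hx : Commute g K.x) (hh : Commute g K.h) :
    g ∈ K.A' :=
  K.mem_A'.2 ⟨K.cube_of_conj K.g0_x K.g0_h hx hh hodd, hx, hh⟩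

theorem mem_A''_of_odd {g : G} (hodd : Odd (orderOf g)) (hx : Commute g (K.x * K.z))
    (hh : Commute g K.h) : g ∈ K.A'' := by
  refine K.mem_A''.2 ⟨?_, hx, hh⟩
  refine K.cube_of_conj (g := K.g0 * K.s) ?_ ?_ hx hh hodd
  · rw [show K.g0 * K.s * (K.x * K.z) * (K.g0 * K.s)⁻¹ = K.g0 * (K.s * (K.x * K.z) * K.s⁻¹) * K.g0⁻¹ by group,
      K.s_xz, K.g0_x]
  · rw [show K.g0 * K.s * K.h * (K.g0 * K.s)⁻¹ = K.g0 * (K.s * K.h * K.s⁻¹) * K.g0⁻¹ by group, K.s_h,
      show K.g0 * K.h⁻¹ * K.g0⁻¹ = (K.g0 * K.h * K.g0⁻¹)⁻¹ by group]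
    rcases K.g0_h with e | e <;> rw [e] <;> simp

theorem c_inv_ne : K.c⁻¹ ≠ K.c := inv_ne_self_of_cube K.c3 fun e => by
  have := K.orderOf_c
  rw [e, orderOf_one] at this
  omega

/-- The fixed elements of `V` on `c`. -/
theorem V_cent_c {v : G} (hv : v ∈ K.V) (hc : Commute v K.c) : v = 1 ∨ v = K.z := by
  have key : ∀ w, w * K.c * w⁻¹ = K.c⁻¹ → Commute w K.c → False := fun w e hw =>
    K.c_inv_ne (by rw [← e, hw.eq, mul_inv_cancel_right])
  rcases hv with h | h | h | h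
  · exact Or.inl h
  · exact Or.inr h
  · exact (key _ (h ▸ K.x_c) hc).elim
  · refine (key _ ?_ hc).elim
    rw [h, show K.x * K.z * K.c * (K.x * K.z)⁻¹ = K.x * (K.z * K.c * K.z⁻¹) * K.x⁻¹ by group,
      ← K.cz.eq, mul_inv_cancel_right, K.x_c]

variable (hU : Nat.card K.U = 9)
include hU

theorem L_comm_A {o g : G} (ho : o ∈ K.L) (hg : g ∈ K.A) : Commute o g := by
  obtain ⟨i, -, j, -, k, -, rfl⟩ := K.A_eq hg
  exact (((K.L_comm_ab hU ho).1.pow_right i).mul_right ((K.L_comm_ab hU ho).2.pow_right j)).mul_right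
    ((K.L_le_c ho).pow_right k)

/-- The product of `L` and `A`. -/
noncomputable def A2 : Subgroup G where
  carrier := {g | ∃ o ∈ K.L, ∃ k ∈ K.A, g = o * k}
  one_mem' := ⟨1, one_mem _, 1, one_mem _, (one_mul 1).symm⟩
  mul_mem' := by
    rintro g g' ⟨o, ho, k, hk, rfl⟩ ⟨o', ho', k', hk', rfl⟩
    refine ⟨o * o', mul_mem ho ho', k * k', mul_mem hk hk', ?_⟩
    calc o * k * (o' * k') = o * (k * o') * k' := by group
      _ = o * o' * (k * k') := by rw [← (K.L_comm_A hU ho' hk).eq]; group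
  inv_mem' := by
    rintro g ⟨o, ho, k, hk, rfl⟩
    refine ⟨o⁻¹, inv_mem ho, k⁻¹, inv_mem hk, ?_⟩
    rw [mul_inv_rev, (K.L_comm_A hU ho hk).inv_inv.symm.eq]

theorem mem_A2 {g : G} : g ∈ K.A2 hU ↔ ∃ o ∈ K.L, ∃ k ∈ K.A, g = o * k := Iff.rfl

theorem A_le_A2 : K.A ≤ K.A2 hU := fun g hg => ⟨1, one_mem _, g, hg, (one_mul g).symm⟩

theorem L_le_A2 : K.L ≤ K.A2 hU := fun g hg => ⟨g, hg, 1, one_mem _, (mul_one g).symm⟩

theorem A2_comm {g : G} (hg : g ∈ K.A2 hU) :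
    Commute g K.h ∧ Commute g K.c ∧ Commute g K.a ∧ Commute g K.b := by
  obtain ⟨o, ho, k, hk, rfl⟩ := hg
  exact ⟨((K.mem_L).1 ho).2.mul_left (K.A_comm hk K.h_mem),
    (K.L_le_c ho).mul_left (K.A_comm hk K.c_mem),
    (K.L_comm_ab hU ho).1.mul_left (K.A_comm hk K.a_mem),
    (K.L_comm_ab hU ho).2.mul_left (K.A_comm hk K.b_mem)⟩

theorem A2_three : IsPGroup 3 (K.A2 hU) := by
  intro g
  obtain ⟨o, ho, k, hk, e⟩ := g.2
  refine ⟨3, Subtype.ext ?_⟩
  show (g : G) ^ 3 ^ 3 = 1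
  have h1 : o ^ 27 = 1 := by
    have h := pow_card_eq_one' (G := K.L) (x := ⟨o, ho⟩)
    rw [K.L_card hU] at h
    simpa using congrArg Subtype.val h
  rw [e, show 3 ^ 3 = 27 from rfl, (K.L_comm_A hU ho hk).mul_pow, h1, one_mul, show 27 = 3 * 9 from rfl,
    pow_mul, (K.mem_A.1 hk).2.1, one_pow]

theorem A2_odd : Odd (Nat.card (K.A2 hU)) := by
  haveI : Fact (Nat.Prime 3) := ⟨Nat.prime_three⟩
  obtain ⟨k, hk⟩ := IsPGroup.iff_card.1 (K.A2_three hU)
  rw [hk]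
  exact (show Odd 3 from ⟨1, rfl⟩).pow

theorem norm_A2 {g : G} (hL : g ∈ Subgroup.normalizer (K.L : Set G))
    (hA : g ∈ Subgroup.normalizer (K.A : Set G)) :
    g ∈ Subgroup.normalizer (K.A2 hU : Set G) := by
  refine Solv.mem_normalizer_of_conj_smul (Subgroup.eq_of_le_of_card_ge (fun w hw => ?_)
    (Solv.card_conj_smul _ _).ge)
  rw [Solv.mem_conj_smul] at hw
  obtain ⟨o, ho, k, hk, e⟩ := hw
  refine ⟨g * o * g⁻¹, (Subgroup.mem_normalizer_iff.1 hL o).1 ho, g * k * g⁻¹,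
    (Subgroup.mem_normalizer_iff.1 hA k).1 hk, ?_⟩
  rw [show g * o * g⁻¹ * (g * k * g⁻¹) = g * (o * k) * g⁻¹ by group, ← e]; group

theorem z_norm_A2 : K.z ∈ Subgroup.normalizer (K.A2 hU : Set G) :=
  K.norm_A2 hU K.z_norm_L (K.V_norm_A K.z_mem_V)

theorem x_norm_A2 : K.x ∈ Subgroup.normalizer (K.A2 hU : Set G) :=
  K.norm_A2 hU K.x_norm_L (K.V_norm_A K.x_mem_V)

theorem s_norm_A2 : K.s ∈ Subgroup.normalizer (K.A2 hU : Set G) := by
  refine K.norm_A2 hU K.s_norm_L ?_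
  refine Solv.mem_normalizer_of_conj_smul (Subgroup.eq_of_le_of_card_ge (fun w hw => ?_)
    (Solv.card_conj_smul _ _).ge)
  rw [Solv.mem_conj_smul, K.mem_A_iff] at hw
  rw [K.mem_A_iff]
  have e : w = K.s * (K.s⁻¹ * w * K.s) * K.s⁻¹ := by group
  obtain ⟨h1, h2, h3⟩ := hw
  rw [e]
  refine ⟨by rw [conj_pow, h1, mul_one, mul_inv_cancel], ?_, K.s_comm_h.2 h3⟩
  exact (commute_conj_iff (by rw [K.sz.eq, mul_inv_cancel_right])).2 h2

theorem A2_cent_z : K.A2 hU ⊓ Subgroup.centralizer {K.z} = K.A := by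
  refine le_antisymm (fun g hg => ?_) (fun g hg =>
    ⟨K.A_le_A2 hU hg, Subgroup.mem_centralizer_singleton_iff.2 (K.mem_A.1 hg).1.eq⟩)
  obtain ⟨h1, h2⟩ := hg
  exact K.mem_A_of_odd ((K.A2_odd hU).of_dvd_nat (Subgroup.orderOf_dvd_natCard _ h1))
    (Subgroup.mem_centralizer_singleton_iff.1 h2) (K.A2_comm hU h1).1

theorem A2_card : Nat.card (K.A2 hU) = 243 := by
  have h := K.inv_count (K.A2_odd hU) (K.z_norm_A2 hU)
  rw [K.A2_cent_z hU, K.A_card] at h
  have hL := K.inv_count K.L_odd K.z_norm_L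
  rw [K.L_cent_z_card, K.L_card hU] at hL
  have he : {y : G | y ∈ K.A2 hU ∧ K.z * y * K.z⁻¹ = y⁻¹} = {y : G | y ∈ K.L ∧ K.z * y * K.z⁻¹ = y⁻¹} := by
    ext y
    refine ⟨fun ⟨hy, e⟩ => ⟨?_, e⟩, fun ⟨hy, e⟩ => ⟨K.L_le_A2 hU hy, e⟩⟩
    obtain ⟨o, ho, k, hk, rfl⟩ := hy
    have hzo : K.z * o * K.z⁻¹ ∈ K.L := (Subgroup.mem_normalizer_iff.1 K.z_norm_L o).1 ho
    have hkz : K.z * k * K.z⁻¹ = k := by rw [← (K.mem_A.1 hk).1.eq, mul_inv_cancel_right]
    rw [show K.z * (o * k) * K.z⁻¹ = K.z * o * K.z⁻¹ * (K.z * k * K.z⁻¹) by group, hkz,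
      (K.L_comm_A hU ho hk).eq, mul_inv_rev] at e
    have h2 : o * (K.z * o * K.z⁻¹) = k⁻¹ * k⁻¹ := by
      calc o * (K.z * o * K.z⁻¹) = o * (K.z * o * K.z⁻¹ * k) * k⁻¹ := by group
        _ = _ := by rw [e]; group
    have hk2 : k * k ∈ K.L := by
      have := inv_mem (h2 ▸ mul_mem ho hzo)
      rwa [mul_inv_rev, inv_inv] at this
    have hkL : k ∈ K.L := by
      have h3 := (K.mem_A.1 hk).2.1
      have := mul_mem hk2 hk2
      rwa [show k * k * (k * k) = k ^ 3 * k by simp [pow_succ, mul_assoc], h3, one_mul] at this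
    exact mul_mem ho hkL
  change Nat.card ↥{y : G | y ∈ K.A2 hU ∧ K.z * y * K.z⁻¹ = y⁻¹} * 27 = _ at h
  change Nat.card ↥{y : G | y ∈ K.L ∧ K.z * y * K.z⁻¹ = y⁻¹} * 3 = 27 at hL
  rw [he] at h
  omega

theorem A2_cent_x_card : Nat.card (K.A2 hU ⊓ Subgroup.centralizer {K.x} : Subgroup G) = 9 ∧
    Nat.card (K.A2 hU ⊓ Subgroup.centralizer {K.x * K.z} : Subgroup G) = 9 := by
  have h := K.four_formula (K.A2_odd hU) (K.z_norm_A2 hU) (K.x_norm_A2 hU)
  have e1 : K.A ⊓ Subgroup.centralizer {K.x} = Subgroup.zpowers K.h := by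
    refine le_antisymm (fun g hg => K.A_cent_x hg.1 (Subgroup.mem_centralizer_singleton_iff.1 hg.2))
      (Subgroup.zpowers_le.2 ⟨K.h_mem, Subgroup.mem_centralizer_singleton_iff.2 K.hx.eq⟩)
  have e2 : Nat.card (K.A2 hU ⊓ Subgroup.centralizer {K.x * K.z} : Subgroup G) =
      Nat.card (K.A2 hU ⊓ Subgroup.centralizer {K.x} : Subgroup G) := by
    rw [← K.conj_inf_cent (K.s_norm_A2 hU) K.s_x, Solv.card_conj_smul]
  rw [K.A2_cent_z hU, K.A_card, e1, K.card_zpowers_h, K.A2_card hU, e2] at h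
  set n := Nat.card (K.A2 hU ⊓ Subgroup.centralizer {K.x} : Subgroup G)
  have hn : n = 9 := by
    have hle : n ≤ 9 := by
      by_contra h9
      have : 10 * 10 ≤ n * n := Nat.mul_le_mul (by omega) (by omega)
      rw [mul_assoc] at h
      omega
    interval_cases n <;> omega
  exact ⟨hn, e2.trans hn⟩

/-- The common centralizer of `c` and `h`. -/
theorem cent_c_h {g : G} (hgc : Commute g K.c) (hgh : Commute g K.h) :
    g ∈ K.A2 hU ∨ g * K.z ∈ K.A2 hU := by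
  obtain ⟨o, ho, hoz⟩ := K.O_spec.2.2.2.2.2 g (Subgroup.mem_centralizer_singleton_iff.2 hgc.eq)
  set k := o⁻¹ * g with hk
  have hkz : Commute k K.z := hoz
  have hkc : Commute k K.c := (K.O_comm ho).inv_left.mul_left hgc
  have hkh : Commute k K.h := by
    have hmem : k * K.h * k⁻¹ * K.h⁻¹ ∈ K.O := by
      have : k * K.h * k⁻¹ * K.h⁻¹ = o⁻¹ * (K.h * o * K.h⁻¹) := by
        rw [hk, show o⁻¹ * g * K.h * (o⁻¹ * g)⁻¹ * K.h⁻¹ = o⁻¹ * (g * K.h * g⁻¹) * o * K.h⁻¹ by group,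
          hgh.eq]
        group
      rw [this]
      exact mul_mem (inv_mem ho) ((Subgroup.mem_normalizer_iff.1 (K.norm_O_comm K.hc) o).1 ho)
    have hz' : Commute (k * K.h * k⁻¹ * K.h⁻¹) K.z :=
      ((hkz.mul_left K.hz).mul_left hkz.inv_left).mul_left K.hz.inv_left
    obtain ⟨i, hi⟩ := mem_powers_iff_mem_zpowers.mpr (K.O_cent_z hmem hz')
    simp only at hi
    refine mul_inv_eq_iff_eq_mul.1 (mul_inv_eq_one.1 ?_)
    rw [← hi, pow_eq_pow_mod i K.c3]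
    have hp := congrArg K.p hi.symm
    rw [K.p_mul ((hkz.mul_left K.hz).mul_left hkz.inv_left) K.hz.inv_left, K.toDAlt.p_conj hkz K.hz,
      K.toDAlt.p_inv K.hz, K.p_h, pow_eq_pow_mod i K.c3, K.toDAlt.p_pow K.cz, K.p_c,
      mul_inv_eq_iff_eq_mul] at hp
    have hs := congrArg (fun σ : Perm (Fin (0 + 9)) => σ.support.card) hp
    simp only [card_support_conj] at hs
    have hd : ∀ i, i < 3 → (ph : Perm (Fin (0 + 9))).support.card =
        (pc ^ i * ph : Perm (Fin (0 + 9))).support.card → i = 0 := by decide +kernel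
    rw [hd _ (Nat.mod_lt _ (by norm_num)) hs, pow_zero]
  obtain ⟨w, hw, v, hv, hkv⟩ := K.cent_h_nine rfl hkz hkh
  have hvc : Commute v K.c := by
    have := (K.A_comm hw K.c_mem).inv_left.mul_left hkc
    rwa [hkv, inv_mul_cancel_left] at this
  have hoh : Commute o K.h := by
    have := hgh.mul_left hkh.inv_left
    rwa [hk, mul_inv_rev, inv_inv, ← mul_assoc, mul_inv_cancel, one_mul] at this
  have hoL : o ∈ K.L := K.mem_L.2 ⟨ho, hoh⟩
  have hg : g = o * (w * v) := by rw [← hkv, hk, mul_inv_cancel_left]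
  rcases K.V_cent_c hv hvc with rfl | rfl
  · exact Or.inl ⟨o, hoL, w, hw, by rw [hg, mul_one]⟩
  · exact Or.inr ⟨o, hoL, w, hw, by rw [hg, mul_assoc, mul_assoc, K.sq_z, mul_one]⟩

/-- The common centralizer of `c` and `a`. -/
theorem cent_c_a {g : G} (hgc : Commute g K.c) (hga : Commute g K.a) :
    g ∈ K.A2 hU ∨ g * K.z ∈ K.A2 hU := by
  obtain ⟨o, ho, hoz⟩ := K.O_spec.2.2.2.2.2 g (Subgroup.mem_centralizer_singleton_iff.2 hgc.eq)
  set k := o⁻¹ * g with hk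
  have hkz : Commute k K.z := hoz
  have hkc : Commute k K.c := (K.O_comm ho).inv_left.mul_left hgc
  have hka : Commute k K.a := by
    have hmem : k * K.a * k⁻¹ * K.a⁻¹ ∈ K.O := by
      have : k * K.a * k⁻¹ * K.a⁻¹ = o⁻¹ * (K.a * o * K.a⁻¹) := by
        rw [hk, show o⁻¹ * g * K.a * (o⁻¹ * g)⁻¹ * K.a⁻¹ = o⁻¹ * (g * K.a * g⁻¹) * o * K.a⁻¹ by group,
          hga.eq]
        group
      rw [this]
      exact mul_mem (inv_mem ho) ((Subgroup.mem_normalizer_iff.1 (K.norm_O_comm K.ac) o).1 ho)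
    have hz' : Commute (k * K.a * k⁻¹ * K.a⁻¹) K.z :=
      ((hkz.mul_left K.az).mul_left hkz.inv_left).mul_left K.az.inv_left
    obtain ⟨i, hi⟩ := mem_powers_iff_mem_zpowers.mpr (K.O_cent_z hmem hz')
    simp only at hi
    refine mul_inv_eq_iff_eq_mul.1 (mul_inv_eq_one.1 ?_)
    rw [← hi, pow_eq_pow_mod i K.c3]
    have hp := congrArg K.p hi.symm
    rw [K.p_mul ((hkz.mul_left K.az).mul_left hkz.inv_left) K.az.inv_left, K.toDAlt.p_conj hkz K.az,
      K.toDAlt.p_inv K.az, K.p_a, pow_eq_pow_mod i K.c3, K.toDAlt.p_pow K.cz, K.p_c,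
      mul_inv_eq_iff_eq_mul] at hp
    have hs := congrArg (fun σ : Perm (Fin (0 + 9)) => σ.support.card) hp
    simp only [card_support_conj] at hs
    have hd : ∀ i, i < 3 → (pa : Perm (Fin (0 + 9))).support.card =
        (pc ^ i * pa : Perm (Fin (0 + 9))).support.card → i = 0 := by decide +kernel
    rw [hd _ (Nat.mod_lt _ (by norm_num)) hs, pow_zero]
  have hoa : Commute o K.a := by
    have := hga.mul_left hka.inv_left
    rwa [hk, mul_inv_rev, inv_inv, ← mul_assoc, mul_inv_cancel, one_mul] at this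
  have hoL : o ∈ K.L := K.O_cent_a hU ho hoa
  -- rotate the blocks
  have htz : K.t * K.z * K.t⁻¹ = K.z := by rw [K.tz.eq, mul_inv_cancel_right]
  have k1 : Commute (K.t * k * K.t⁻¹) K.a := (commute_conj_iff K.t_c).2 hkc
  have k2 : Commute (K.t * k * K.t⁻¹) K.b := (commute_conj_iff K.t_a).2 hka
  obtain ⟨w, hw, v, hv, hkv⟩ := K.cent_h_nine rfl ((commute_conj_iff htz).2 hkz) (k1.mul_right k2)
  have hva : Commute v K.a := by
    have := (K.A_comm hw K.a_mem).inv_left.mul_left k1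
    rwa [hkv, inv_mul_cancel_left] at this
  have hv' : v = 1 ∨ v = K.z := by
    have hne : K.b ≠ K.a := fun e => by
      have h := congrArg K.p e
      rw [K.p_a, K.p_b] at h
      revert h; decide +kernel
    rcases hv with h | h | h | h
    · exact Or.inl h
    · exact Or.inr h
    · refine absurd ?_ hne
      rw [← K.x_a, ← h, hva.eq, mul_inv_cancel_right]
    · refine absurd ?_ hne
      have e : v * K.a * v⁻¹ = K.b := by
        rw [h, show K.x * K.z * K.a * (K.x * K.z)⁻¹ = K.x * (K.z * K.a * K.z⁻¹) * K.x⁻¹ by group,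
          ← K.az.eq, mul_inv_cancel_right, K.x_a]
      rw [← e, hva.eq, mul_inv_cancel_right]
  have hwt : K.t⁻¹ * w * K.t ∈ K.A := by
    obtain ⟨i, -, j, -, l, -, e⟩ := K.A_eq hw
    have ha : K.t⁻¹ * K.a * K.t = K.c := by rw [← K.t_c]; group
    have hb : K.t⁻¹ * K.b * K.t = K.a := by rw [← K.t_a]; group
    have hc : K.t⁻¹ * K.c * K.t = K.b := by rw [← K.t_b]; group
    have hp : ∀ (q : G) (n : ℕ), K.t⁻¹ * q ^ n * K.t = (K.t⁻¹ * q * K.t) ^ n := fun q n => by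
      conv_rhs => rw [show K.t⁻¹ * q * K.t = K.t⁻¹ * q * K.t⁻¹⁻¹ by group, conj_pow, inv_inv]
    rw [e, show K.t⁻¹ * (K.a ^ i * K.b ^ j * K.c ^ l) * K.t =
      K.t⁻¹ * K.a ^ i * K.t * (K.t⁻¹ * K.b ^ j * K.t) * (K.t⁻¹ * K.c ^ l * K.t) by group, hp, hp, hp, ha, hb, hc]
    exact mul_mem (mul_mem (pow_mem K.c_mem _) (pow_mem K.a_mem _)) (pow_mem K.b_mem _)
  have hg : g = o * (K.t⁻¹ * (w * v) * K.t) := by
    rw [← hkv, hk]; group
  rcases hv' with rfl | rfl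
  · exact Or.inl ⟨o, hoL, _, hwt, by rw [hg, mul_one]⟩
  · refine Or.inr ⟨o, hoL, _, hwt, ?_⟩
    rw [hg]
    calc o * (K.t⁻¹ * (w * K.z) * K.t) * K.z = o * (K.t⁻¹ * w * (K.z * K.t)) * K.z := by group
      _ = o * (K.t⁻¹ * w * K.t) * (K.z * K.z) := by rw [← K.tz.eq]; group
      _ = _ := by rw [K.sq_z, mul_one]

theorem cent_c_h_odd {g : G} (hgc : Commute g K.c) (hgh : Commute g K.h) (hodd : Odd (orderOf g)) :
    g ∈ K.A2 hU :=
  (K.cent_c_h hU hgc hgh).elim id fun h => mem_of_mul_invol K.sq_z (K.z_norm_A2 hU) hodd h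

theorem cent_c_a_odd {g : G} (hgc : Commute g K.c) (hga : Commute g K.a) (hodd : Odd (orderOf g)) :
    g ∈ K.A2 hU :=
  (K.cent_c_a hU hgc hga).elim id fun h => mem_of_mul_invol K.sq_z (K.z_norm_A2 hU) hodd h

/-- `c` does not centralize the conjugate of `A` belonging to `x`. -/
theorem A'_not_cent_c : ∃ e ∈ K.A', ¬ Commute e K.c := by
  by_contra h
  push Not at h
  have hle : K.A' ≤ K.A2 hU ⊓ Subgroup.centralizer {K.x} := fun e he => by
    obtain ⟨h3, hx, hh⟩ := K.mem_A'.1 he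
    exact ⟨K.cent_c_h_odd hU (h e he) hh (K.odd_of_cube h3), Subgroup.mem_centralizer_singleton_iff.2 hx.eq⟩
  have := Subgroup.card_le_of_le hle
  rw [K.A'_card, (K.A2_cent_x_card hU).1] at this
  omega

/-- `c` does not centralize both `A'` and the rotations. -/
theorem A'_not_cent_ab : ¬ ∀ e ∈ K.A', Commute e K.a ∧ Commute e K.b := by
  intro h
  obtain ⟨e, he, hec⟩ := K.A'_not_cent_c hU
  obtain ⟨ha, hb⟩ := h e he
  have t1 : K.t⁻¹ * K.a * K.t⁻¹⁻¹ = K.c := by rw [← K.t_c]; group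
  have t2 : K.t⁻¹ * K.b * K.t⁻¹⁻¹ = K.a := by rw [← K.t_a]; group
  have t3 : K.t⁻¹ * K.c * K.t⁻¹⁻¹ = K.b := by rw [← K.t_b]; group
  have hmem := K.cent_c_a_odd hU ((commute_conj_iff t1).2 ha) ((commute_conj_iff t2).2 hb)
    (K.odd_of_cube (by rw [conj_pow, (K.mem_A'.1 he).1, mul_one, mul_inv_cancel]))
  exact hec ((commute_conj_iff t3).1 (K.A2_comm hU hmem).2.2.2)

end Cfsg.Agent.Spor.DoubleAlt.Ctx
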