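import Cfsg.Agent.Lib.Spor.DoubleAlt.Nine.LargeMid

/-!
# Nine points with `U` of order nine: the odd complement in the centralizer of `h` and `u`
-/

set_option autoImplicit false
set_option linter.style.haveILetI false
set_option linter.unusedSectionVars false
set_option maxHeartbeats 1000000
set_option synthInstance.maxHeartbeats 400000
set_option synthInstance.maxSize 2048

open Equiv Equiv.Perm
open scoped Pointwise

namespace Cfsg.Agent.Spor.DoubleAlt

open Nine

universe u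

/-- An element normalizing two subgroups normalizes their intersection. -/
theorem norm_inf' {G : Type u} [Group G] {H M : Subgroup G} {g : G}
    (hH : g ∈ Subgroup.normalizer (H : Set G)) (hM : g ∈ Subgroup.normalizer (M : Set G)) :
    g ∈ Subgroup.normalizer ((H ⊓ M : Subgroup G) : Set G) :=
  Subgroup.mem_normalizer_iff.2 fun w => by
    simp only [Subgroup.mem_inf]
    exact and_congr (Subgroup.mem_normalizer_iff.1 hH w) (Subgroup.mem_normalizer_iff.1 hM w)

namespace Ctx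

variable {G : Type u} [Group G] [Finite G] (K : Ctx G 0)
include K

/-- Groups with the same fixed points of the involutions of `⟨z, x⟩` coincide. -/
theorem eq_of_fixed {M N : Subgroup G} (hMN : M ≤ N) (hN : Odd (Nat.card N))
    (hzM : K.z ∈ Subgroup.normalizer (M : Set G)) (hxM : K.x ∈ Subgroup.normalizer (M : Set G))
    (hzN : K.z ∈ Subgroup.normalizer (N : Set G)) (hxN : K.x ∈ Subgroup.normalizer (N : Set G))
    (e1 : ∀ g ∈ N, Commute g K.z → g ∈ M) (e2 : ∀ g ∈ N, Commute g K.x → g ∈ M)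
    (e3 : ∀ g ∈ N, Commute g (K.x * K.z) → g ∈ M) : M = N := by
  have hM : Odd (Nat.card M) := hN.of_dvd_nat (Subgroup.card_dvd_of_le hMN)
  have h1 := K.four_formula hN hzN hxN
  have h2 := K.four_formula hM hzM hxM
  have eq' : ∀ w : G, (∀ g ∈ N, Commute g w → g ∈ M) →
      N ⊓ Subgroup.centralizer {w} = M ⊓ Subgroup.centralizer {w} := fun w hw =>
    le_antisymm (fun g hg => ⟨hw g hg.1 (Subgroup.mem_centralizer_singleton_iff.1 hg.2), hg.2⟩)
      (inf_le_inf_right _ hMN)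
  rw [eq' _ e1, eq' _ e2, eq' _ e3, h2] at h1
  refine Subgroup.eq_of_le_of_card_ge hMN ?_
  have hpos : 0 < Nat.card (M ⊓ Subgroup.centralizer {K.z} ⊓ Subgroup.centralizer {K.x} : Subgroup G) ^ 2 :=
    pow_pos Nat.card_pos 2
  exact (Nat.eq_of_mul_eq_mul_right hpos h1).ge

variable (hU : Nat.card K.U = 9) {u : G} (huU : u ∈ K.U) (hu1 : u ≠ 1) (huh : Commute u K.h)
include hU huU hu1 huh

theorem u_mem_A' : u ∈ K.A' := K.mem_A'.2 ⟨K.U_cube hU huU, (K.mem_U.1 huU).2, huh⟩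

theorem u_mem_L : u ∈ K.L := K.mem_L.2 ⟨(K.mem_U.1 huU).1, huh⟩

theorem u''_mem : K.s * u * K.s⁻¹ ∈ K.L ∧ K.s * u * K.s⁻¹ ∈ K.A'' := by
  refine ⟨(Subgroup.mem_normalizer_iff.1 K.s_norm_L u).1 (K.u_mem_L hU huU hu1 huh), ?_⟩
  refine K.mem_A''.2 ⟨by rw [conj_pow, K.U_cube hU huU, mul_one, mul_inv_cancel],
    (commute_conj_iff K.s_x).2 (K.mem_U.1 huU).2, K.s_comm_h.2 huh⟩

/-- The element of `A` corresponding to `u`. -/
theorem w_form : ∃ i, 0 < i ∧ i < 3 ∧ ∃ j, 0 < j ∧ j < 3 ∧ ∃ k, k < 3 ∧ (i + j) % 3 = 0 ∧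
    K.g0⁻¹ * u * K.g0 = K.a ^ i * K.b ^ j * K.c ^ k := by
  classical
  have hwA : K.g0⁻¹ * u * K.g0 ∈ K.A := by
    have h := K.u_mem_A' hU huU hu1 huh
    rwa [A', Solv.mem_conj_smul] at h
  set w := K.g0⁻¹ * u * K.g0 with hw
  have hxw : K.x * w * K.x⁻¹ = w⁻¹ := by
    have e : K.g0⁻¹ * K.z * K.g0 = K.x := by rw [← K.g0_x]; group
    calc K.x * w * K.x⁻¹ = K.g0⁻¹ * (K.z * u * K.z⁻¹) * K.g0 := by rw [← e, hw]; group
      _ = w⁻¹ := by rw [K.U_inverted huU, hw]; group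
  obtain ⟨i, hi, j, hj, k, hk, e⟩ := K.A_eq hwA
  have hij : (i + j) % 3 = 0 := by
    have h1 := congrArg K.p hxw
    rw [K.toDAlt.p_conj K.xz (K.mem_A.1 hwA).1, K.toDAlt.p_inv (K.mem_A.1 hwA).1, e, K.p_abc, K.p_x] at h1
    have hd : ∀ i, i < 3 → ∀ j, j < 3 → ∀ k, k < 3 →
        px * (pa ^ i * pb ^ j * pc ^ k) * px⁻¹ = (pa ^ i * pb ^ j * pc ^ k : Perm (Fin (0 + 9)))⁻¹ →
        (i + j) % 3 = 0 := by decide +kernel
    exact hd i hi j hj k hk h1
  rcases Nat.eq_zero_or_pos i with rfl | hi0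
  swap
  · exact ⟨i, hi0, hi, j, by omega, hj, k, hk, hij, e⟩
  exfalso
  obtain rfl : j = 0 := by omega
  rw [pow_zero, pow_zero, one_mul, one_mul] at e
  have hk0 : 0 < k := by
    rcases Nat.eq_zero_or_pos k with rfl | h
    · rw [pow_zero, hw] at e
      exact absurd (by rw [show u = K.g0 * (K.g0⁻¹ * u * K.g0) * K.g0⁻¹ by group, e]; group) hu1
    · exact h
  have hcard : ∀ y ∈ K.U, y ≠ 1 → Commute (K.g0⁻¹ * y * K.g0) K.z ∧
      (K.p (K.g0⁻¹ * y * K.g0)).support.card = 3 := by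
    intro y hy hy1
    obtain ⟨q, hq, rfl⟩ := K.U_trans hU huU hu1 hy hy1
    have e' : K.g0⁻¹ * K.x * K.g0⁻¹⁻¹ = K.z := by rw [← K.g0_z]; group
    have hqz : Commute (K.g0⁻¹ * q * K.g0) K.z := by
      have := (commute_conj_iff e').2 (K.Q_mem hq).1
      rwa [inv_inv] at this
    have e2 : K.g0⁻¹ * (q * u * q⁻¹) * K.g0 = K.g0⁻¹ * q * K.g0 * w * (K.g0⁻¹ * q * K.g0)⁻¹ := by
      rw [hw]; group
    have hwz : Commute w K.z := (K.mem_A.1 hwA).1
    rw [e2]
    refine ⟨K.toDAlt.comm_conj hqz hwz, ?_⟩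
    rw [K.toDAlt.p_conj hqz hwz, card_support_conj, e, K.toDAlt.p_pow K.cz, K.p_c]
    have hd : ∀ k, k < 3 → 0 < k → (pc ^ k : Perm (Fin (0 + 9))).support.card = 3 := by decide +kernel
    exact hd k hk hk0
  obtain ⟨v, hv, hvh⟩ : ∃ v ∈ K.U, ¬ Commute v K.h := by
    by_contra hno
    push Not at hno
    have hle : K.U ≤ K.U ⊓ Subgroup.centralizer {K.h} := fun v hv =>
      ⟨hv, Subgroup.mem_centralizer_singleton_iff.2 (hno v hv).eq⟩
    have := Subgroup.card_le_of_le hle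
    rw [hU, K.U_cent_h_card hU] at this
    omega
  have hv1 : v ≠ 1 := fun h => hvh (h ▸ Commute.one_left _)
  set v' := K.g0⁻¹ * v * K.g0 with hv'
  obtain ⟨hv'z, hv'3⟩ := hcard v hv hv1
  have hv'c3 : v' ^ 3 = 1 := by
    rw [hv', show K.g0⁻¹ * v * K.g0 = K.g0⁻¹ * v * K.g0⁻¹⁻¹ by group, conj_pow, K.U_cube hU hv]; group
  have hcomm : Commute v' w := by
    have := (K.U_comm hv huU).map (MulAut.conj K.g0⁻¹).toMonoidHom
    simp only [MulEquiv.coe_toMonoidHom, MulAut.conj_apply, inv_inv] at this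
    exact this
  have hcomc : Commute v' K.c := by
    rw [e] at hcomm
    have : k = 1 ∨ k = 2 := by omega
    rcases this with rfl | rfl
    · rwa [pow_one] at hcomm
    · have := hcomm.pow_right 2
      rwa [← pow_mul, show (2 * 2 : ℕ) = 3 + 1 from rfl, pow_succ, K.c3, one_mul] at this
  have himg := K.image_comm hv'z K.cz hcomc
  rw [K.p_c] at himg
  obtain ⟨l, hl, hagree⟩ := comm_pc (Nat.zero_le 1) himg
  rcases Nat.eq_zero_or_pos l with rfl | hl0
  · -- disjoint three-cycles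
    have hne : v * u ≠ 1 := fun h => hvh (by
      rw [eq_inv_of_mul_eq_one_left h]; exact huh.inv_left)
    obtain ⟨-, h3⟩ := hcard (v * u) (mul_mem hv huU) hne
    rw [show K.g0⁻¹ * (v * u) * K.g0 = v' * w by rw [hv', hw]; group, e, K.p_mul hv'z (K.cz.pow_left k),
      K.toDAlt.p_pow K.cz, K.p_c] at h3
    have hd : ∀ k, k < 3 → ∀ y : Fin (0 + 9),
        (pc ^ k : Perm (Fin (0 + 9))) y ≠ y → 6 ≤ y.val ∧ y.val < 9 := by decide +kernel
    have hdis : (K.p v').Disjoint (pc ^ k : Perm (Fin (0 + 9))) := fun y => by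
      by_cases hy : (pc ^ k : Perm (Fin (0 + 9))) y = y
      · exact Or.inr hy
      · obtain ⟨h6, h9⟩ := hd k hk y hy
        exact Or.inl (by rw [hagree y h6 h9, pow_zero]; rfl)
    rw [hdis.card_support_mul, hv'3] at h3
    have hd3 : ∀ k, k < 3 → 0 < k → (pc ^ k : Perm (Fin (0 + 9))).support.card = 3 := by decide +kernel
    rw [hd3 k hk hk0] at h3
    omega
  · have hd : ∀ l, l < 3 → 0 < l → ∀ y : Fin (0 + 9),
        y ∈ (pc ^ l : Perm (Fin (0 + 9))).support → 6 ≤ y.val ∧ y.val < 9 := by decide +kernel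
    have hd3 : ∀ l, l < 3 → 0 < l → (pc ^ l : Perm (Fin (0 + 9))).support.card = 3 := by decide +kernel
    have hsub : (pc ^ l : Perm (Fin (0 + 9))).support ⊆ (K.p v').support := fun y hy => by
      obtain ⟨h6, h9⟩ := hd l hl hl0 y hy
      rw [Perm.mem_support, hagree y h6 h9]
      exact Perm.mem_support.1 hy
    have heq := Finset.eq_of_subset_of_card_le hsub (by rw [hv'3, hd3 l hl hl0])
    have hp : K.p v' = pc ^ l := by
      refine Equiv.ext fun y => ?_
      by_cases hy : y ∈ (pc ^ l : Perm (Fin (0 + 9))).support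
      · obtain ⟨h6, h9⟩ := hd l hl hl0 y hy
        exact hagree y h6 h9
      · rw [Perm.notMem_support.1 hy]
        exact Perm.notMem_support.1 (heq ▸ hy)
    have hvc : v' = K.c ^ l := K.eq3 hv'z (K.cz.pow_left l) hv'c3
      (by rw [← pow_mul, mul_comm, pow_mul, K.c3, one_pow]) (by rw [hp, K.toDAlt.p_pow K.cz, K.p_c])
    refine hvh ((K.g0_comm_h (g := v')).2 (hvc ▸ K.hc.symm.pow_left l) |> fun h => ?_)
    rwa [hv', show K.g0 * (K.g0⁻¹ * v * K.g0) * K.g0⁻¹ = v by group] at h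

/-- The odd complement of the centralizer of `h` and `u`. -/
theorem exists_Po : ∃ M : Subgroup G, (∀ g ∈ M, Commute g K.h ∧ Commute g u) ∧ IsPGroup 3 M ∧
    K.z ∈ Subgroup.normalizer (M : Set G) ∧ K.x ∈ Subgroup.normalizer (M : Set G) ∧
    ∀ g, Commute g K.h → Commute g u → Odd (orderOf g) → g ∈ M := by
  haveI : Fact (Nat.Prime 3) := ⟨Nat.prime_three⟩
  set X := Subgroup.centralizer {K.h} ⊓ Subgroup.centralizer {u} with hX
  have memX : ∀ {g : G}, g ∈ X ↔ Commute g K.h ∧ Commute g u := fun {g} => by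
    rw [hX, Subgroup.mem_inf, Subgroup.mem_centralizer_singleton_iff, Subgroup.mem_centralizer_singleton_iff]
    rfl
  have hux : Commute u K.x := (K.mem_U.1 huU).2
  have hxX : K.x ∈ X := memX.2 ⟨K.hx.symm, hux.symm⟩
  obtain ⟨i, hi0, hi, j, -, -, k, -, -, ew⟩ := K.w_form hU huU hu1 huh
  set w := K.g0⁻¹ * u * K.g0 with hw
  have hwA : w ∈ K.A := by
    have h := K.u_mem_A' hU huU hu1 huh
    rwa [A', Solv.mem_conj_smul] at h
  have ex : K.g0⁻¹ * K.x * K.g0⁻¹⁻¹ = K.z := by rw [← K.g0_z]; group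
  have hun : ∀ g ∈ X, Commute g K.x → (g * g = 1 ∨ g * g = K.x) → g = 1 ∨ g = K.x := by
    intro g hg hgx h2
    set g' := K.g0⁻¹ * g * K.g0 with hg'
    have hgback : g = K.g0 * g' * K.g0⁻¹ := by rw [hg']; group
    have h1 : Commute g' K.z := by
      have := (commute_conj_iff ex).2 hgx
      rwa [inv_inv] at this
    have h2' : Commute g' K.h := (K.g0_comm_h (g := g')).1 (hgback ▸ (memX.1 hg).1)
    have h3 : Commute g' w := by
      have := ((memX.1 hg).2).map (MulAut.conj K.g0⁻¹).toMonoidHom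
      simp only [MulEquiv.coe_toMonoidHom, MulAut.conj_apply, inv_inv] at this
      exact this
    obtain ⟨r, hr, v, hv, e⟩ := K.cent_h_nine rfl h1 h2'
    have hvw : Commute v w := by
      have := (K.A_comm hr hwA).inv_left.mul_left h3
      rwa [e, inv_mul_cancel_left] at this
    have hw1 : w ≠ 1 := fun h => hu1 (by rw [show u = K.g0 * w * K.g0⁻¹ by rw [hw]; group, h]; group)
    have hxw : K.x * w * K.x⁻¹ = w⁻¹ := by
      have e' : K.g0⁻¹ * K.z * K.g0 = K.x := by rw [← K.g0_x]; group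
      calc K.x * w * K.x⁻¹ = K.g0⁻¹ * (K.z * u * K.z⁻¹) * K.g0 := by rw [← e', hw]; group
        _ = w⁻¹ := by rw [K.U_inverted huU, hw]; group
    have hwinv := inv_ne_self_of_cube (K.mem_A.1 hwA).2.1 hw1
    have hv' : v = 1 ∨ v = K.z := by
      rcases hv with h | h | h | h
      · exact Or.inl h
      · exact Or.inr h
      · exact absurd (by rw [← hxw, ← h, hvw.eq, mul_inv_cancel_right]) hwinv
      · refine absurd ?_ hwinv
        have h5 : v * w * v⁻¹ = w⁻¹ := by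
          rw [h, show K.x * K.z * w * (K.x * K.z)⁻¹ = K.x * (K.z * w * K.z⁻¹) * K.x⁻¹ by group,
            ← (K.mem_A.1 hwA).1.eq, mul_inv_cancel_right, hxw]
        rw [← h5, hvw.eq, mul_inv_cancel_right]
    have hrz : Commute r K.z := (K.mem_A.1 hr).1
    have hr2 : g' * g' = r * r := by
      rcases hv' with rfl | rfl
      · rw [e, mul_one]
      · rw [e, show r * K.z * (r * K.z) = r * (K.z * r) * K.z by group, ← hrz.eq,
          show r * (r * K.z) * K.z = r * r * (K.z * K.z) by group, K.sq_z, mul_one]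
    have hg2 : g' * g' = 1 ∨ g' * g' = K.z := by
      rcases h2 with h2 | h2
      · left; rw [hg', show K.g0⁻¹ * g * K.g0 * (K.g0⁻¹ * g * K.g0) = K.g0⁻¹ * (g * g) * K.g0 by group, h2]
        group
      · right; rw [hg', show K.g0⁻¹ * g * K.g0 * (K.g0⁻¹ * g * K.g0) = K.g0⁻¹ * (g * g) * K.g0 by group, h2,
          ← K.g0_z]
        group
    rw [hr2] at hg2
    have hr1 : r = 1 := by
      rcases hg2 with e1 | e1
      · have h := (K.mem_A.1 hr).2.1
        rwa [pow_succ, pow_two, e1, one_mul] at h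
      · exact absurd (e1 ▸ mul_mem hr hr) K.z_notMem_A
    rw [hgback, e, hr1, one_mul]
    rcases hv' with rfl | rfl
    · exact Or.inl (by group)
    · exact Or.inr K.g0_z
  obtain ⟨M, hMX, hodd, hXM, -, hoddM⟩ := exists_odd_complement hxX K.x_sq K.x_ne hun
  have hMord : ∀ g ∈ M, Odd (orderOf g) := fun g hg =>
    hodd.of_dvd_nat (Subgroup.orderOf_dvd_natCard M hg)
  have hzX : ∀ g ∈ X, K.z * g * K.z⁻¹ ∈ X := fun g hg => by
    obtain ⟨h1, h2⟩ := memX.1 hg
    refine memX.2 ⟨(commute_conj_iff (show K.z * K.h * K.z⁻¹ = K.h by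
      rw [← K.hz.eq, mul_inv_cancel_right])).2 h1, ?_⟩
    exact Commute.inv_right_iff.1 ((commute_conj_iff (K.U_inverted huU)).2 h2)
  have hzM' : ∀ g ∈ M, K.z * g * K.z⁻¹ ∈ M := fun g hg => by
    refine hoddM _ (hzX g (hMX hg)) ?_
    have := orderOf_injective (MulAut.conj K.z).toMonoidHom (MulAut.conj K.z).injective g
    simp only [MulEquiv.coe_toMonoidHom, MulAut.conj_apply] at this
    rw [this]; exact hMord g hg
  have hzN : K.z ∈ Subgroup.normalizer (M : Set G) := by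
    refine Subgroup.mem_normalizer_iff.2 fun g => ⟨hzM' g, fun hg => ?_⟩
    have := hzM' _ hg
    rwa [show K.z * (K.z * g * K.z⁻¹) * K.z⁻¹ = (K.z * K.z) * g * (K.z * K.z)⁻¹ by group, K.sq_z,
      one_mul, inv_one, mul_one] at this
  refine ⟨M, fun g hg => memX.1 (hMX hg), ?_, hzN, hXM hxX, fun g h1 h2 h3 => hoddM g (memX.2 ⟨h1, h2⟩) h3⟩
  have hpow : ∀ H : Subgroup G, (∀ g ∈ H, g ^ 3 = 1) → ∃ n, Nat.card H = 3 ^ n := fun H hH =>
    IsPGroup.iff_card.1 (fun g => ⟨1, Subtype.ext (by simpa using hH g g.2)⟩)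
  obtain ⟨n1, c1⟩ := hpow (M ⊓ Subgroup.centralizer {K.z}) fun g hg => (K.mem_A_iff.1 (K.mem_A_of_odd
    (hMord g hg.1) (Subgroup.mem_centralizer_singleton_iff.1 hg.2) (memX.1 (hMX hg.1)).1)).1
  obtain ⟨n2, c2⟩ := hpow (M ⊓ Subgroup.centralizer {K.x}) fun g hg => (K.mem_A'.1 (K.mem_A'_of_odd
    (hMord g hg.1) (Subgroup.mem_centralizer_singleton_iff.1 hg.2) (memX.1 (hMX hg.1)).1)).1
  obtain ⟨n3, c3⟩ := hpow (M ⊓ Subgroup.centralizer {K.x * K.z}) fun g hg => (K.mem_A''.1 (K.mem_A''_of_odd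
    (hMord g hg.1) (Subgroup.mem_centralizer_singleton_iff.1 hg.2) (memX.1 (hMX hg.1)).1)).1
  have hform := K.four_formula hodd hzN (hXM hxX)
  rw [c1, c2, c3, ← pow_add, ← pow_add] at hform
  obtain ⟨n, -, hn⟩ := (Nat.dvd_prime_pow Nat.prime_three).1 (Dvd.intro _ hform.symm)
  exact IsPGroup.of_card hn

/-- A group strictly below a three-group has a larger normalizer there. -/
theorem exists_moving {Po M : Subgroup G} (hPo : IsPGroup 3 Po) (hMP : M ≤ Po) (hne : ¬ Po ≤ M) :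
    ∃ g ∈ Po, g ∉ M ∧ g ∈ Subgroup.normalizer (M : Set G) := by
  haveI : Fact (Nat.Prime 3) := ⟨Nat.prime_three⟩
  haveI := hPo.isNilpotent
  have hlt : M.subgroupOf Po < ⊤ := lt_top_iff_ne_top.2 fun h => hne (Subgroup.subgroupOf_eq_top.1 h)
  obtain ⟨g, hg, hgM⟩ := SetLike.exists_of_lt (Group.normalizerCondition_of_isNilpotent _ hlt)
  refine ⟨g, g.2, fun h => hgM h, Subgroup.mem_normalizer_iff.2 fun w => ⟨fun hw => ?_, fun hw => ?_⟩⟩
  · have := (Subgroup.mem_normalizer_iff.1 hg ⟨w, hMP hw⟩).1 hw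
    simpa [Subgroup.mem_subgroupOf] using this
  · have := (Subgroup.mem_normalizer_iff.1 (inv_mem hg) ⟨_, hMP hw⟩).1 hw
    simpa [Subgroup.mem_subgroupOf, mul_assoc] using this

/-- `L` is abelian. -/
theorem u_comm : Commute u (K.s * u * K.s⁻¹) := by
  classical
  haveI : Fact (Nat.Prime 3) := ⟨Nat.prime_three⟩
  by_contra hnc
  set u'' := K.s * u * K.s⁻¹ with hu''
  have huL := K.u_mem_L hU huU hu1 huh
  have hu''L := (K.u''_mem hU huU hu1 huh).1
  have hu3 := K.U_cube hU huU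
  have huo : orderOf u = 3 := orderOf_eq_prime hu3 hu1
  obtain ⟨M, hMX, hM3, hzM, hxM, hoddM⟩ := K.exists_Po hU huU hu1 huh
  have hModd : Odd (Nat.card M) := by
    obtain ⟨n, hn⟩ := IsPGroup.iff_card.1 hM3
    rw [hn]
    exact (show Odd 3 from ⟨1, rfl⟩).pow
  have hMord : ∀ g ∈ M, Odd (orderOf g) := fun g hg =>
    hModd.of_dvd_nat (Subgroup.orderOf_dvd_natCard M hg)
  have hAM : K.A ≤ M := fun g hg => hoddM g (K.A_comm hg K.h_mem) (K.L_comm_A hU huL hg).symm
    (K.odd_of_cube (K.mem_A.1 hg).2.1)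
  have hA'M : K.A' ≤ M := fun g hg => hoddM g (K.mem_A'.1 hg).2.2
    (K.A'_comm hg (K.u_mem_A' hU huU hu1 huh)) (K.odd_of_cube (K.mem_A'.1 hg).1)
  set A1 := M ⊓ Subgroup.centralizer {K.c} with hA1
  have memA1 : ∀ {g : G}, g ∈ A1 ↔ g ∈ M ∧ Commute g K.c := fun {g} => by
    rw [hA1, Subgroup.mem_inf, Subgroup.mem_centralizer_singleton_iff]; rfl
  have huA1 : u ∈ A1 := memA1.2 ⟨hoddM u huh (Commute.refl u) (K.odd_of_cube hu3), K.L_le_c huL⟩
  have hAA1 : K.A ≤ A1 := fun g hg => memA1.2 ⟨hAM hg, K.A_comm hg K.c_mem⟩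
  -- decomposition of the elements of `A1`
  have huniq : ∀ r ∈ K.A, ∀ n : ℕ, ∀ r' ∈ K.A, ∀ n' : ℕ, r * u ^ n = r' * u ^ n' → r = r' ∧ u ^ n = u ^ n' := by
    intro r hr n r' hr' n' e
    have hmem : u ^ n * (u ^ n')⁻¹ ∈ K.A := by
      rw [show u ^ n * (u ^ n')⁻¹ = r⁻¹ * (r * u ^ n) * (u ^ n')⁻¹ by group, e,
        show r⁻¹ * (r' * u ^ n') * (u ^ n')⁻¹ = r⁻¹ * r' by group]
      exact mul_mem (inv_mem hr) hr'
    have h1 := K.U_cent_z (mul_mem (pow_mem huU _) (inv_mem (pow_mem huU _))) (K.mem_A.1 hmem).1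
    have h2 : u ^ n = u ^ n' := mul_inv_eq_one.1 h1
    exact ⟨mul_right_cancel (h2 ▸ e), h2⟩
  have hdecA1 : ∀ d ∈ A1, ∃ r ∈ K.A, ∃ n : ℕ, d = r * u ^ n := by
    let f : K.A × Fin 3 → A1 := fun v => ⟨(v.1 : G) * u ^ (v.2 : ℕ), mul_mem (hAA1 v.1.2) (pow_mem huA1 _)⟩
    have hf : Function.Injective f := by
      rintro ⟨r, n⟩ ⟨r', n'⟩ e
      obtain ⟨h1, h2⟩ := huniq r r.2 n r' r'.2 n' (congrArg Subtype.val e)
      have h3 : (n : ℕ) = n' := by
        have := pow_inj_mod.1 h2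
        rw [huo, Nat.mod_eq_of_lt n.isLt, Nat.mod_eq_of_lt n'.isLt] at this
        exact this
      exact Prod.ext (Subtype.ext h1) (Fin.ext h3)
    have hle : A1 ≤ K.A2 hU ⊓ Subgroup.centralizer {u} := fun g hg => by
      obtain ⟨h1, h2⟩ := memA1.1 hg
      exact ⟨K.cent_c_h_odd hU h2 (hMX g h1).1 (hMord g h1),
        Subgroup.mem_centralizer_singleton_iff.2 (hMX g h1).2.eq⟩
    have hlt : Nat.card (K.A2 hU ⊓ Subgroup.centralizer {u} : Subgroup G) ≤ 81 := by
      have hd : Nat.card (K.A2 hU ⊓ Subgroup.centralizer {u} : Subgroup G) ∣ 3 ^ 5 := by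
        have := Subgroup.card_dvd_of_le (inf_le_left : K.A2 hU ⊓ Subgroup.centralizer {u} ≤ K.A2 hU)
        rwa [K.A2_card hU] at this
      obtain ⟨n, hn, hn'⟩ := (Nat.dvd_prime_pow Nat.prime_three).1 hd
      have h5 : n ≠ 5 := by
        rintro rfl
        have he : K.A2 hU ⊓ Subgroup.centralizer {u} = K.A2 hU :=
          Subgroup.eq_of_le_of_card_ge inf_le_left (by rw [hn', K.A2_card hU]; norm_num)
        exact hnc (show Commute u'' u from Subgroup.mem_centralizer_singleton_iff.1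
          (he.symm ▸ K.L_le_A2 hU hu''L : u'' ∈ K.A2 hU ⊓ Subgroup.centralizer {u}).2).symm
      rw [hn']
      interval_cases n <;> omega
    have hcard : Nat.card (K.A × Fin 3) = 81 := by rw [Nat.card_prod, K.A_card, Nat.card_fin]
    have hbij := (Nat.bijective_iff_injective_and_card f).2 ⟨hf, le_antisymm
      (Nat.card_le_card_of_injective f hf) (by
        rw [hcard]; exact (Subgroup.card_le_of_le hle).trans hlt)⟩
    intro d hd
    obtain ⟨⟨r, n⟩, e⟩ := hbij.2 ⟨d, hd⟩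
    exact ⟨r, r.2, n, (congrArg Subtype.val e).symm⟩
  -- an element moving `c`
  have hzA1 : K.z ∈ Subgroup.normalizer (A1 : Set G) := norm_inf' hzM (K.norm_of_comm K.cz.symm)
  have hxA1 : K.x ∈ Subgroup.normalizer (A1 : Set G) := norm_inf' hxM (K.norm_cent_c (Or.inr K.x_c))
  set N := M ⊓ Subgroup.normalizer (A1 : Set G) with hN
  obtain ⟨g, hgM, hgA1, hgN⟩ := K.exists_moving hU huU hu1 huh hM3 (inf_le_left : A1 ≤ M) (fun hle => by
    obtain ⟨e, he, hec⟩ := K.A'_not_cent_c hU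
    exact hec (memA1.1 (hle (hA'M he))).2)
  have hex : ∃ e ∈ N, ¬ Commute e K.c ∧ (Commute e K.x ∨ Commute e (K.x * K.z)) := by
    by_contra hno
    push Not at hno
    have hA1N : A1 ≤ N := le_inf inf_le_left Subgroup.le_normalizer
    have := K.eq_of_fixed hA1N (hModd.of_dvd_nat (Subgroup.card_dvd_of_le inf_le_left)) hzA1 hxA1
      (norm_inf' hzM (Subgroup.le_normalizer hzA1)) (norm_inf' hxM (Subgroup.le_normalizer hxA1))
      (fun w hw hc => hAA1 (K.mem_A_of_odd (hMord w hw.1) hc (hMX w hw.1).1))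
      (fun w hw hc => memA1.2 ⟨hw.1, by
        by_contra h
        exact (hno w hw h).1 hc⟩)
      (fun w hw hc => memA1.2 ⟨hw.1, by
        by_contra h
        exact (hno w hw h).2 hc⟩)
    exact hgA1 ((SetLike.ext_iff.1 this g).2 ⟨hgM, hgN⟩)
  obtain ⟨e, heN, hec, hecase⟩ := hex
  obtain ⟨heh, heu⟩ := hMX e heN.1
  have he_cube : e ^ 3 = 1 := by
    rcases hecase with h | h
    · exact (K.mem_A'.1 (K.mem_A'_of_odd (hMord e heN.1) h heh)).1
    · exact (K.mem_A''.1 (K.mem_A''_of_odd (hMord e heN.1) h heh)).1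
  set d := e * K.c * e⁻¹ with hd
  have hdA1 : d ∈ A1 := (Subgroup.mem_normalizer_iff.1 heN.2 _).1 (hAA1 K.c_mem)
  obtain ⟨r, hr, n, hdn⟩ := hdecA1 d hdA1
  -- the action of `z` on `e`
  set e' := K.z * e * K.z⁻¹ with he'
  have hq : Commute (e * e') K.c := by
    have hzz : K.z * e' * K.z⁻¹ = e := by
      rw [he', show K.z * (K.z * e * K.z⁻¹) * K.z⁻¹ = (K.z * K.z) * e * (K.z * K.z)⁻¹ by group, K.sq_z]
      group
    have hzh : K.z * K.h * K.z⁻¹ = K.h := by rw [← K.hz.eq, mul_inv_cancel_right]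
    have he'h : Commute e' K.h := (commute_conj_iff hzh).2 heh
    have key : Commute e e' → Commute (e * e') K.x → Commute (e * e') K.c := by
      intro hee hx'
      have hqz : Commute (e * e') K.z := by
        refine (mul_inv_eq_iff_eq_mul.1 ?_).symm
        rw [show K.z * (e * e') * K.z⁻¹ = e' * (K.z * e' * K.z⁻¹) by rw [he']; group, hzz, hee.eq]
      have hqM : e * e' ∈ M := mul_mem heN.1 ((Subgroup.mem_normalizer_iff.1 hzM e).1 heN.1)
      have hqA := K.mem_A_of_odd (hMord _ hqM) hqz (heh.mul_left he'h)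
      exact (K.A_comm hqA K.c_mem)
    rcases hecase with h | h
    · have he'x : Commute e' K.x := (commute_conj_iff (by rw [← K.xz.eq, mul_inv_cancel_right])).2 h
      refine key (K.A'_comm (K.mem_A'_of_odd (hMord e heN.1) h heh) (K.mem_A'.2 ⟨?_, he'x, he'h⟩))
        (h.mul_left he'x)
      rw [he', conj_pow, he_cube, mul_one, mul_inv_cancel]
    · have he'x : Commute e' (K.x * K.z) := (commute_conj_iff (by
        rw [← mul_assoc, ← K.xz.eq, mul_inv_cancel_right])).2 h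
      have hee := K.A''_comm (K.mem_A''_of_odd (hMord e heN.1) h heh) (K.mem_A''.2 ⟨by
        rw [he', conj_pow, he_cube, mul_one, mul_inv_cancel], he'x, he'h⟩)
      refine key hee ?_
      have hqz : Commute (e * e') K.z := by
        refine (mul_inv_eq_iff_eq_mul.1 ?_).symm
        rw [show K.z * (e * e') * K.z⁻¹ = e' * (K.z * e' * K.z⁻¹) by rw [he']; group, hzz, hee.eq]
      have := (h.mul_left he'x).mul_right hqz
      rwa [mul_assoc, K.sq_z, mul_one] at this
  have hzd : K.z * d * K.z⁻¹ = e⁻¹ * K.c * e := by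
    have h1 : K.z * d * K.z⁻¹ = e' * K.c * e'⁻¹ := by
      calc K.z * d * K.z⁻¹ = e' * (K.z * K.c * K.z⁻¹) * e'⁻¹ := by rw [hd, he']; group
        _ = _ := by rw [← K.cz.eq, mul_inv_cancel_right]
    rw [h1, show e' = e⁻¹ * (e * e') by group,
      show e⁻¹ * (e * e') * K.c * (e⁻¹ * (e * e'))⁻¹ = e⁻¹ * (e * e' * K.c * (e * e')⁻¹) * e by group,
      hq.eq, mul_inv_cancel_right]
  have hzd' : K.z * d * K.z⁻¹ = r * (u ^ n)⁻¹ := by
    calc K.z * d * K.z⁻¹ = K.z * r * K.z⁻¹ * (K.z * u * K.z⁻¹) ^ n := by rw [hdn, conj_pow]; group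
      _ = _ := by rw [K.U_inverted huU, ← (K.mem_A.1 hr).1.eq, mul_inv_cancel_right, inv_pow]
  have hsq : ∀ q : G, q * q * K.c * (q * q)⁻¹ = q * (q * K.c * q⁻¹) * q⁻¹ := fun q => by group
  have hfinal : Commute (e * e) K.c → False := fun h => hec (by
    have e4 : e * e * (e * e) = e := by
      rw [show e * e * (e * e) = e ^ 3 * e by simp [pow_succ, mul_assoc], he_cube, one_mul]
    exact e4 ▸ h.mul_left h)
  rcases hecase with hx | hxz
  · -- `d` is inverted by `x`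
    have h1 : K.x * d * K.x⁻¹ = d⁻¹ := by
      rw [hd, show K.x * (e * K.c * e⁻¹) * K.x⁻¹ = (K.x * e) * K.c * (K.x * e)⁻¹ by group, ← hx.eq,
        show e * K.x * K.c * (e * K.x)⁻¹ = e * (K.x * K.c * K.x⁻¹) * e⁻¹ by group, K.x_c]
      group
    have hxr : K.x * r * K.x⁻¹ ∈ K.A := (Subgroup.mem_normalizer_iff.1 (K.V_norm_A K.x_mem_V) r).1 hr
    have h2 : K.x * r * K.x⁻¹ * u ^ n = r⁻¹ * u ^ (2 * n) := by
      have hur : Commute (u ^ n) r := (K.L_comm_A hU huL hr).pow_left n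
      have hinv : (u ^ n)⁻¹ = u ^ (2 * n) :=
        inv_eq_of_mul_eq_one_right (by rw [← pow_add, show n + 2 * n = 3 * n by ring, pow_mul, hu3, one_pow])
      rw [hdn, mul_inv_rev, show K.x * (r * u ^ n) * K.x⁻¹ = K.x * r * K.x⁻¹ * (K.x * u ^ n * K.x⁻¹) by group,
        ← ((K.mem_U.1 huU).2.pow_left n).eq, mul_inv_cancel_right, hur.inv_inv.eq, hinv] at h1
      exact h1
    have h3 := (huniq _ hxr _ _ (inv_mem hr) _ h2).2
    have h4 : u ^ n = 1 := by
      rw [two_mul, pow_add] at h3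
      exact mul_left_cancel (h3.symm.trans (mul_one _).symm)
    rw [h4, inv_one, mul_one] at hzd'
    rw [h4, mul_one] at hdn
    refine hfinal (mul_inv_eq_iff_eq_mul.1 ?_)
    rw [hsq, ← hd, hdn, ← hzd'.symm.trans hzd |>.symm]
    group
  · -- `c` becomes conjugate to a power of `u`
    have hc : K.c = e * r * e⁻¹ * (u ^ n)⁻¹ := by
      have h1 : e * (r * (u ^ n)⁻¹) * e⁻¹ = K.c := by rw [← hzd', hzd]; group
      calc K.c = e * r * e⁻¹ * (e * (u ^ n)⁻¹ * e⁻¹) := by rw [← h1]; group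
        _ = _ := by rw [(heu.pow_right n).inv_right.eq, mul_inv_cancel_right]
    have hff : e * d * e⁻¹ = K.c * u ^ (2 * n) := by
      rw [hdn, show e * (r * u ^ n) * e⁻¹ = e * r * e⁻¹ * (e * u ^ n * e⁻¹) by group, (heu.pow_right n).eq,
        mul_inv_cancel_right, two_mul, pow_add]
      conv_rhs => rw [hc]
      group
    set m := 2 * n % 3 with hm
    have hff' : e * e * K.c * (e * e)⁻¹ = K.c * u ^ m := by
      rw [hsq, ← hd, hff, pow_eq_pow_mod _ hu3]
    have hm0 : m ≠ 0 := fun h0 => hfinal (mul_inv_eq_iff_eq_mul.1 (by rw [hff', h0, pow_zero, mul_one]))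
    have hm3 : m < 3 := Nat.mod_lt _ (by norm_num)
    -- the commutator of `u''` and `u`
    obtain ⟨l, hl, hl0, hcomm⟩ : ∃ l, l < 3 ∧ l ≠ 0 ∧ u'' * u * u''⁻¹ = u * K.c ^ l := by
      set Z := (Subgroup.zpowers K.c).subgroupOf K.L with hZ
      haveI : Z.Normal := ⟨fun v hv w => by
        rw [hZ, Subgroup.mem_subgroupOf] at hv ⊢
        obtain ⟨p, hp⟩ := hv
        refine ⟨p, ?_⟩
        simp only at hp ⊢
        push_cast
        rw [← hp, ((K.L_le_c w.2).zpow_right p).eq, mul_inv_cancel_right]⟩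
      have hcq : Nat.card (K.L ⧸ Z) = 3 ^ 2 := by
        have h := Z.card_eq_card_quotient_mul_card_subgroup
        rw [K.L_card hU, hZ, Solv.card_subgroupOf (Subgroup.zpowers_le.2 (K.mem_L.2 ⟨K.c_mem_O, K.hc.symm⟩)),
          Nat.card_zpowers, K.orderOf_c] at h
        rw [hZ]
        omega
      have hab := IsPGroup.commutative_of_card_eq_prime_sq hcq (QuotientGroup.mk ⟨u'', hu''L⟩)
        (QuotientGroup.mk ⟨u, huL⟩)
      rw [← QuotientGroup.mk_mul, ← QuotientGroup.mk_mul, QuotientGroup.eq, hZ, Subgroup.mem_subgroupOf] at hab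
      push_cast at hab
      obtain ⟨p, hp⟩ := mem_powers_iff_mem_zpowers.mpr hab
      simp only at hp
      have he1 : u * u'' = u'' * u * K.c ^ p := by rw [hp]; group
      have hcu : Commute (K.c ^ p) u := ((K.L_le_c huL).symm.pow_left p)
      have hcu'' : Commute (K.c ^ p) u'' := ((K.L_le_c hu''L).symm.pow_left p)
      refine ⟨2 * p % 3, Nat.mod_lt _ (by norm_num), fun h0 => hnc ?_, ?_⟩
      · have hp0 : p % 3 = 0 := by omega
        show u * u'' = u'' * u
        rw [he1, pow_eq_pow_mod p K.c3, hp0, pow_zero, mul_one]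
      · have h2 : u'' * u * u''⁻¹ = u * (K.c ^ p)⁻¹ := by
          calc u'' * u * u''⁻¹ = u'' * u * K.c ^ p * (K.c ^ p)⁻¹ * u''⁻¹ := by group
            _ = u * (u'' * ((K.c ^ p)⁻¹) * u''⁻¹) := by rw [← he1]; group
            _ = _ := by rw [← hcu''.inv_left.eq, mul_inv_cancel_right]
        rw [h2, ← pow_eq_pow_mod _ K.c3]
        congr 1
        refine inv_eq_of_mul_eq_one_right ?_
        rw [← pow_add, show p + 2 * p = 3 * p by ring, pow_mul, K.c3, one_pow]
    obtain ⟨g2, hg2⟩ : ∃ g2, g2 * u ^ m * g2⁻¹ = K.c * u ^ m := by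
      have h1 : u'' * u ^ m * u''⁻¹ = K.c ^ (l * m) * u ^ m := by
        rw [← conj_pow, hcomm, ((K.L_le_c huL).pow_right l).mul_pow, ← pow_mul,
          ((K.L_le_c huL).pow_pow m (l * m)).eq]
      have hp : (l * m) % 3 = 1 ∨ (2 * (l * m)) % 3 = 1 := by
        interval_cases l <;> interval_cases m <;> omega
      rcases hp with h | h
      · exact ⟨u'', by rw [h1, pow_eq_pow_mod _ K.c3, h, pow_one]⟩
      · refine ⟨u'' * u'', ?_⟩
        rw [show u'' * u'' * u ^ m * (u'' * u'')⁻¹ = u'' * (u'' * u ^ m * u''⁻¹) * u''⁻¹ by group, h1,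
          show u'' * (K.c ^ (l * m) * u ^ m) * u''⁻¹ =
            u'' * K.c ^ (l * m) * u''⁻¹ * (u'' * u ^ m * u''⁻¹) by group,
          ((K.L_le_c hu''L).pow_right _).eq, mul_inv_cancel_right, h1, ← mul_assoc, ← pow_add, ← two_mul,
          pow_eq_pow_mod _ K.c3, h, pow_one]
    set g3 := K.g0⁻¹ * (g2⁻¹ * (e * e)) with hg3
    obtain ⟨i, hi0, hi, j, hj0, hj, k, hk, hij, ew⟩ := K.w_form hU huU hu1 huh
    set w := K.g0⁻¹ * u * K.g0 with hw
    have hg3c : g3 * K.c * g3⁻¹ = w ^ m := by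
      rw [hg3, show K.g0⁻¹ * (g2⁻¹ * (e * e)) * K.c * (K.g0⁻¹ * (g2⁻¹ * (e * e)))⁻¹ =
        K.g0⁻¹ * (g2⁻¹ * (e * e * K.c * (e * e)⁻¹) * g2) * K.g0 by group, hff', ← hg2,
        show g2⁻¹ * (g2 * u ^ m * g2⁻¹) * g2 = u ^ m by group, hw,
        show K.g0⁻¹ * u * K.g0 = K.g0⁻¹ * u * K.g0⁻¹⁻¹ by group, conj_pow, inv_inv]
    have htr : ∀ q, Commute q K.c → Commute (g3 * q * g3⁻¹) w := by
      intro q hq'
      have h := (commute_conj_iff hg3c).2 hq'
      have hw3 : w ^ 3 = 1 := by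
        rw [hw, show K.g0⁻¹ * u * K.g0 = K.g0⁻¹ * u * K.g0⁻¹⁻¹ by group, conj_pow, hu3]; group
      have : m = 1 ∨ m = 2 := by omega
      rcases this with e1 | e1 <;> rw [e1] at h
      · rwa [pow_one] at h
      · have := h.pow_right 2
        rwa [← pow_mul, show (2 * 2 : ℕ) = 3 + 1 from rfl, pow_succ, hw3, one_mul] at this
    have hwz : Commute w K.z := by
      rw [ew]; exact ((K.az.pow_left i).mul_left (K.bz.pow_left j)).mul_left (K.cz.pow_left k)
    rcases Nat.eq_zero_or_pos k with hk0 | hk0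
    · -- a four-group centralizes a power of `c`
      subst hk0
      rw [pow_zero, mul_one] at ew
      have hsign : sign (swap 0 3 * swap 1 5 * swap 2 4 * swap 6 7 : Perm (Fin (0 + 9))) = 1 := by
        decide +kernel
      obtain ⟨y, hyz, hpy⟩ := K.surj hsign
      have hy2 : y * y = 1 := (K.toDAlt.sq_invol _ hyz rfl (by rw [hpy]; decide +kernel)).2.1
        (by rw [hpy]; decide +kernel)
      have hy1 : y ≠ 1 := fun h => by
        have hp := hpy
        rw [h, K.toDAlt.p_one] at hp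
        revert hp; decide +kernel
      have hyne : y ≠ K.z := fun h => by
        have hp := hpy
        rw [h, K.p_z] at hp
        revert hp; decide +kernel
      have hyw : Commute y w := by
        have hw3 : w ^ 3 = 1 := by
          rw [hw, show K.g0⁻¹ * u * K.g0 = K.g0⁻¹ * u * K.g0⁻¹⁻¹ by group, conj_pow, hu3]; group
        refine mul_inv_eq_iff_eq_mul.1 (K.conj3 hyz hwz hwz hw3 hw3 ?_)
        rw [hpy, ew, K.p_mul (K.az.pow_left i) (K.bz.pow_left j), K.toDAlt.p_pow K.az, K.toDAlt.p_pow K.bz,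
          K.p_a, K.p_b]
        have hd' : ∀ i, i < 3 → ∀ j, j < 3 → (i + j) % 3 = 0 →
            (swap 0 3 * swap 1 5 * swap 2 4 * swap 6 7) * (pa ^ i * pb ^ j) *
              (swap 0 3 * swap 1 5 * swap 2 4 * swap 6 7)⁻¹ = (pa ^ i * pb ^ j : Perm (Fin (0 + 9))) := by
          decide +kernel
        exact hd' i hi j hj hij
      have hback : ∀ q, Commute q w → g3⁻¹ * q * g3 ∈ Subgroup.centralizer {K.c} := by
        intro q hq'
        rw [Subgroup.mem_centralizer_singleton_iff]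
        refine ((commute_conj_iff hg3c).1 ?_).eq
        rw [show g3 * (g3⁻¹ * q * g3) * g3⁻¹ = q by group]
        exact hq'.pow_right m
      have hne : ∀ q : G, q ≠ 1 → g3⁻¹ * q * g3 ≠ 1 := fun q hq' h => hq' (by
        rw [show q = g3 * (g3⁻¹ * q * g3) * g3⁻¹ by group, h]; group)
      have hsq' : ∀ q : G, q * q = 1 → g3⁻¹ * q * g3 * (g3⁻¹ * q * g3) = 1 := fun q hq' => by
        rw [show g3⁻¹ * q * g3 * (g3⁻¹ * q * g3) = g3⁻¹ * (q * q) * g3 by group, hq']; group
      have heq := commuting_involutions_eq K.z_cent_c K.sq_z K.z_ne K.hun_c (hback y hyw) (hback K.z hwz.symm)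
        (hsq' y hy2) (hsq' K.z K.sq_z) (hne y hy1) (hne K.z K.z_ne) (by
          have := hyz.map (MulAut.conj g3⁻¹).toMonoidHom
          simpa using this)
      exact hyne (mul_left_cancel (mul_right_cancel heq))
    · -- the quaternion group does not fit into the centralizer of `w`
      have hzX : K.z ∈ Subgroup.centralizer {w} := Subgroup.mem_centralizer_singleton_iff.2 hwz.symm.eq
      have hun : ∀ q ∈ Subgroup.centralizer {w}, Commute q K.z → (q * q = 1 ∨ q * q = K.z) →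
          q = 1 ∨ q = K.z := fun q hq' hqz h2 =>
        K.four_full hqz hi0 hi hj0 hj hk0 hk (ew ▸ Subgroup.mem_centralizer_singleton_iff.1 hq') h2
      obtain ⟨N', -, hN'odd, hXN', hdec, -⟩ := exists_odd_complement hzX K.sq_z K.z_ne hun
      set q := g3 * K.q1 * g3⁻¹ with hq1
      have hqX : q ∈ Subgroup.centralizer {w} :=
        Subgroup.mem_centralizer_singleton_iff.2 (htr _ K.cq1.symm).eq
      have hqq : q * q ∈ N' := by
        rcases hdec q hqX with h | h
        · exact mul_mem h h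
        · have h2 := (Subgroup.mem_normalizer_iff.1 (hXN' hzX) _).1 h
          rw [show q * q = q * K.z * (K.z * (q * K.z) * K.z⁻¹) by
            rw [show q * K.z * (K.z * (q * K.z) * K.z⁻¹) = q * (K.z * K.z) * q * (K.z * K.z⁻¹) by group,
              K.sq_z, mul_one, mul_inv_cancel, mul_one]]
          exact mul_mem h h2
      have hqq2 : q * q = g3 * K.z * g3⁻¹ := by
        rw [hq1, show g3 * K.q1 * g3⁻¹ * (g3 * K.q1 * g3⁻¹) = g3 * (K.q1 * K.q1) * g3⁻¹ by group, K.q1_sq]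
      have ho : Odd (orderOf (q * q)) := hN'odd.of_dvd_nat (Subgroup.orderOf_dvd_natCard N' hqq)
      haveI : Fact (Nat.Prime 2) := ⟨Nat.prime_two⟩
      rw [hqq2, show orderOf (g3 * K.z * g3⁻¹) = 2 from orderOf_eq_prime
        (by rw [conj_pow, pow_two, K.sq_z, mul_one, mul_inv_cancel])
        (fun h => K.z_ne (conj_eq_one_iff.1 h))] at ho
      exact absurd ho (by decide)

/-- Both conjugates of `A` normalize `A₂`. -/
theorem A'_norm_A2 : K.A' ≤ Subgroup.normalizer (K.A2 hU : Set G) ∧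
    K.A'' ≤ Subgroup.normalizer (K.A2 hU : Set G) := by
  haveI : Fact (Nat.Prime 3) := ⟨Nat.prime_three⟩
  set u'' := K.s * u * K.s⁻¹ with hu''
  have huL := K.u_mem_L hU huU hu1 huh
  have hu3 := K.U_cube hU huU
  have hc := K.u_comm hU huU hu1 huh
  obtain ⟨M, hMX, hM3, hzM, hxM, hoddM⟩ := K.exists_Po hU huU hu1 huh
  have hModd : Odd (Nat.card M) := by
    obtain ⟨n, hn⟩ := IsPGroup.iff_card.1 hM3
    rw [hn]
    exact (show Odd 3 from ⟨1, rfl⟩).pow
  have hMord : ∀ g ∈ M, Odd (orderOf g) := fun g hg =>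
    hModd.of_dvd_nat (Subgroup.orderOf_dvd_natCard M hg)
  -- `u` is central in `L`
  have hLu : ∀ o ∈ K.L, Commute o u := by
    set W := K.L ⊓ Subgroup.centralizer {u} with hW
    suffices h : W = K.L from fun o ho => Subgroup.mem_centralizer_singleton_iff.1 (h.symm ▸ ho : o ∈ W).2
    refine (K.eq_of_fixed inf_le_left K.L_odd ?_ ?_ K.z_norm_L K.x_norm_L ?_ ?_ ?_)
    · refine norm_inf' K.z_norm_L (Subgroup.mem_normalizer_iff.2 fun g => ?_)
      rw [Subgroup.mem_centralizer_singleton_iff, Subgroup.mem_centralizer_singleton_iff]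
      show Commute g u ↔ Commute _ u
      rw [← commute_conj_iff (w := g) (K.U_inverted huU), Commute.inv_right_iff]
    · refine norm_inf' K.x_norm_L (Subgroup.mem_normalizer_iff.2 fun g => ?_)
      rw [Subgroup.mem_centralizer_singleton_iff, Subgroup.mem_centralizer_singleton_iff]
      exact (commute_conj_iff (by rw [← (K.mem_U.1 huU).2.eq, mul_inv_cancel_right])).symm
    · intro g hg hgz
      have : g ∈ Subgroup.zpowers K.c := K.L_cent_z ▸ ⟨hg, Subgroup.mem_centralizer_singleton_iff.2 hgz.eq⟩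
      obtain ⟨p, rfl⟩ := this
      exact ⟨hg, Subgroup.mem_centralizer_singleton_iff.2 (((K.L_le_c huL).zpow_right p).symm.eq)⟩
    · intro g hg hgx
      exact ⟨hg, Subgroup.mem_centralizer_singleton_iff.2
        (K.U_comm (K.mem_U.2 ⟨(K.mem_L.1 hg).1, hgx⟩) huU).eq⟩
    · intro g hg hgxz
      refine ⟨hg, Subgroup.mem_centralizer_singleton_iff.2 ?_⟩
      have hmem : g ∈ K.L ⊓ Subgroup.centralizer {K.x * K.z} :=
        ⟨hg, Subgroup.mem_centralizer_singleton_iff.2 hgxz.eq⟩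
      rw [← K.conj_inf_cent K.s_norm_L K.s_x, Solv.mem_conj_smul, K.L_cent_x] at hmem
      have hcyc : K.U ⊓ Subgroup.centralizer {K.h} = Subgroup.zpowers u := by
        refine (Subgroup.eq_of_le_of_card_ge (Subgroup.zpowers_le.2
          (show u ∈ K.U ⊓ Subgroup.centralizer {K.h} from
            ⟨huU, Subgroup.mem_centralizer_singleton_iff.2 huh.eq⟩)) ?_).symm
        rw [K.U_cent_h_card hU, Nat.card_zpowers, orderOf_eq_prime hu3 hu1]
      rw [hcyc] at hmem
      obtain ⟨p, hp⟩ := hmem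
      simp only at hp
      rw [show g = K.s * u ^ p * K.s⁻¹ by rw [hp]; group, ← conj_zpow]
      exact (hc.symm.zpow_left p).eq
  have hA2M : K.A2 hU ≤ M := fun g hg => hoddM g (K.A2_comm hU hg).1 (by
    obtain ⟨o, ho, k, hk, rfl⟩ := hg
    exact (hLu o ho).mul_left (K.L_comm_A hU huL hk).symm)
    ((K.A2_odd hU).of_dvd_nat (Subgroup.orderOf_dvd_natCard _ hg))
  set N := M ⊓ Subgroup.normalizer (K.A2 hU : Set G) with hN
  obtain ⟨g, hgM, hgA2, hgN⟩ := K.exists_moving hU huU hu1 huh hM3 hA2M (fun hle => by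
    obtain ⟨e, he, hec⟩ := K.A'_not_cent_c hU
    exact hec (K.A2_comm hU (hle (hoddM e (K.mem_A'.1 he).2.2 (K.A'_comm he (K.u_mem_A' hU huU hu1 huh))
      (K.odd_of_cube (K.mem_A'.1 he).1)))).2.1)
  have hex : ∃ e, e ∈ N ∧ e ∉ K.A2 hU ∧ (Commute e K.x ∨ Commute e (K.x * K.z)) := by
    by_contra hno
    push Not at hno
    have := K.eq_of_fixed (le_inf hA2M Subgroup.le_normalizer : K.A2 hU ≤ N)
      (hModd.of_dvd_nat (Subgroup.card_dvd_of_le inf_le_left)) (K.z_norm_A2 hU) (K.x_norm_A2 hU)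
      (norm_inf' hzM (Subgroup.le_normalizer (K.z_norm_A2 hU)))
      (norm_inf' hxM (Subgroup.le_normalizer (K.x_norm_A2 hU)))
      (fun w hw hc => K.A_le_A2 hU (K.mem_A_of_odd (hMord w hw.1) hc (hMX w hw.1).1))
      (fun w hw hc => by
        by_contra h
        exact (hno w hw h).1 hc)
      (fun w hw hc => by
        by_contra h
        exact (hno w hw h).2 hc)
    exact hgA2 (this ▸ ⟨hgM, hgN⟩)
  obtain ⟨e, heN, heA2, hecase⟩ := hex
  have full : ∀ (B : Subgroup G) (y : G), Nat.card B = 27 → e ∈ B →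
      Nat.card (K.A2 hU ⊓ Subgroup.centralizer {y} : Subgroup G) = 9 →
      K.A2 hU ⊓ Subgroup.centralizer {y} ≤ B → B ≤ Subgroup.normalizer (K.A2 hU : Set G) := by
    intro B y hB heB h9 hle
    set T := B ⊓ Subgroup.normalizer (K.A2 hU : Set G) with hT
    have hsub : K.A2 hU ⊓ Subgroup.centralizer {y} ≤ T :=
      le_inf hle (inf_le_left.trans Subgroup.le_normalizer)
    have hd : Nat.card T ∣ 27 := hB ▸ Subgroup.card_dvd_of_le inf_le_left
    have hgt : 9 < Nat.card T := by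
      have h1 := Subgroup.card_le_of_le hsub
      rw [h9] at h1
      refine lt_of_le_of_ne h1 fun h => heA2 ?_
      have := Subgroup.eq_of_le_of_card_ge hsub (by rw [h9, h])
      exact (this.symm ▸ (⟨heB, heN.2⟩ : e ∈ T) : e ∈ K.A2 hU ⊓ Subgroup.centralizer {y}).1
    have hT27 : Nat.card T = 27 := by
      obtain ⟨n, hn, hn'⟩ := (Nat.dvd_prime_pow Nat.prime_three).1 (show Nat.card T ∣ 3 ^ 3 by simpa using hd)
      rw [hn'] at hgt ⊢
      interval_cases n <;> omega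
    exact (Subgroup.eq_of_le_of_card_ge inf_le_left (by rw [hB, hT27]) : T = B).symm.le.trans inf_le_right
  have hA2ord : ∀ w ∈ K.A2 hU, Odd (orderOf w) := fun w hw =>
    (K.A2_odd hU).of_dvd_nat (Subgroup.orderOf_dvd_natCard _ hw)
  obtain ⟨hcard1, hcard2⟩ := K.A2_cent_x_card hU
  obtain ⟨heh, heu⟩ := hMX e heN.1
  have hsA2 := K.s_norm_A2 hU
  rcases hecase with hx | hxz
  · have h1 := full K.A' K.x K.A'_card (K.mem_A'_of_odd (hMord e heN.1) hx heh) hcard1 fun w hw =>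
      K.mem_A'_of_odd (hA2ord w hw.1) (Subgroup.mem_centralizer_singleton_iff.1 hw.2) (K.A2_comm hU hw.1).1
    refine ⟨h1, fun w hw => ?_⟩
    rw [A'', Solv.mem_conj_smul] at hw
    rw [show w = K.s * (K.s⁻¹ * w * K.s) * K.s⁻¹ by group]
    exact mul_mem (mul_mem hsA2 (h1 hw)) (inv_mem hsA2)
  · have h1 := full K.A'' (K.x * K.z) K.A''_card (K.mem_A''_of_odd (hMord e heN.1) hxz heh) hcard2 fun w hw =>
      K.mem_A''_of_odd (hA2ord w hw.1) (Subgroup.mem_centralizer_singleton_iff.1 hw.2) (K.A2_comm hU hw.1).1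
    refine ⟨fun w hw => ?_, h1⟩
    have hw' : K.s * w * K.s⁻¹ ∈ K.A'' := by
      rw [A'', Solv.mem_conj_smul, show K.s⁻¹ * (K.s * w * K.s⁻¹) * K.s = w by group]
      exact hw
    rw [show w = K.s⁻¹ * (K.s * w * K.s⁻¹) * K.s by group]
    exact mul_mem (mul_mem (inv_mem hsA2) (h1 hw')) hsA2

end Ctx

end Cfsg.Agent.Spor.DoubleAlt
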