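import Cfsg.Agent.Lib.Spor.DoubleAlt.Nine.Dichotomy
import Cfsg.Agent.Lib.Spor.DoubleAlt.Nine.Four

/-!
# The case of a trivial `U`

An element of order three permuting the involutions of `⟨z, x⟩` and centralizing `h` is conjugate
into `A`; each of the possibilities for its class leads to a contradiction.
-/

set_option autoImplicit false
set_option linter.style.haveILetI false
set_option linter.unusedSectionVars false
set_option maxHeartbeats 1000000
set_option synthInstance.maxHeartbeats 400000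
set_option synthInstance.maxSize 2048

open Equiv Equiv.Perm
open scoped Pointwise

namespace Cfsg.Agent.Spor.DoubleAlt

open Nine

universe u

/-- A permutation inverting `ph` and a rotation of all three blocks is odd. -/
theorem inverter_odd {m : ℕ} {σ : Perm (Fin (m + 9))} (hm : m ≤ 1) {i j k : ℕ} (hi0 : 0 < i)
    (hi : i < 3) (hj0 : 0 < j) (hj : j < 3) (hk0 : 0 < k) (hk : k < 3) (hij : (i + j) % 3 = 0)
    (h1 : σ * ph * σ⁻¹ = (ph : Perm (Fin (m + 9)))⁻¹)
    (h2 : σ * (pa ^ i * pb ^ j * pc ^ k) * σ⁻¹ = (pa ^ i * pb ^ j * pc ^ k : Perm (Fin (m + 9)))⁻¹) :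
    sign σ = -1 := by
  set τ : Perm (Fin (m + 9)) := swap 1 2 * swap 4 5 * swap 7 8 with hτ
  have hτs : sign τ = -1 := by rw [hτ]; clear h1 h2 hτ τ; interval_cases m <;> decide +kernel
  have hτh : τ * ph * τ⁻¹ = (ph : Perm (Fin (m + 9)))⁻¹ := by
    rw [hτ]; clear h1 h2 hτs hτ τ; interval_cases m <;> decide +kernel
  have hτv : ∀ i, i < 3 → ∀ j, j < 3 → ∀ k, k < 3 →
      (swap 1 2 * swap 4 5 * swap 7 8) * (pa ^ i * pb ^ j * pc ^ k) * (swap 1 2 * swap 4 5 * swap 7 8)⁻¹ =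
        (pa ^ i * pb ^ j * pc ^ k : Perm (Fin (m + 9)))⁻¹ := by
    clear h1 h2 hτs hτh hτ τ; interval_cases m <;> decide +kernel
  have hτv' := hτv i hi j hj k hk
  rw [← hτ] at hτv'
  set v : Perm (Fin (m + 9)) := pa ^ i * pb ^ j * pc ^ k with hv
  have hc : ∀ w : Perm (Fin (m + 9)), σ * w * σ⁻¹ = w⁻¹ → τ * w * τ⁻¹ = w⁻¹ → Commute (σ * τ) w := by
    intro w e1 e2
    refine mul_inv_eq_iff_eq_mul.1 ?_
    calc σ * τ * w * (σ * τ)⁻¹ = σ * (τ * w * τ⁻¹) * σ⁻¹ := by group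
      _ = (σ * w * σ⁻¹)⁻¹ := by rw [e2]; group
      _ = w := by rw [e1, inv_inv]
  have hσh := hc ph h1 hτh
  have hσv := hc v h2 hτv'
  set ρ := σ * τ with hρ
  obtain ⟨i', hi', j', hj', e, he, h6⟩ := comm_ph hm hσh
  have h0lt : (0 : Fin (m + 9)).val < 6 := by
    clear * - hm; interval_cases m <;> decide
  have he0 : e = 0 := by
    by_contra hne
    obtain rfl : e = 1 := by omega
    have hd : ∀ i, i < 3 → 0 < i → ∀ j, j < 3 → (i + j) % 3 = 0 → ∀ k, k < 3 → ∀ i', i' < 3 → ∀ j', j' < 3 →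
        (((pa ^ i * pb ^ j * pc ^ k : Perm (Fin (m + 9))) 0).val < 6 ∧
        (pa ^ i' * pb ^ j' * px6 ^ 1 : Perm (Fin (m + 9))) ((pa ^ i * pb ^ j * pc ^ k : Perm (Fin (m + 9))) 0) ≠
          (pa ^ i * pb ^ j * pc ^ k : Perm (Fin (m + 9))) ((pa ^ i' * pb ^ j' * px6 ^ 1 : Perm (Fin (m + 9))) 0)) := by
      clear * - hm; interval_cases m <;> decide +kernel
    obtain ⟨hlt, hne⟩ := hd i hi hi0 j hj hij k hk i' hi' j' hj'
    refine hne ?_
    rw [← h6 _ hlt, ← h6 _ h0lt]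
    exact comm_apply hσv 0
  subst he0
  have hd6 : ∀ i, i < 3 → ∀ j, j < 3 → ∀ k, k < 3 → ∀ y : Fin (m + 9),
      (ph : Perm (Fin (m + 9))) y = y → (pa ^ i * pb ^ j * pc ^ k : Perm (Fin (m + 9))) y ≠ y →
      6 ≤ y.val ∧ y.val < 9 := by
    clear * - hm; interval_cases m <;> decide +kernel
  have hd6' : ∀ y : Fin (m + 9), 6 ≤ y.val → y.val < 9 →
      ∃ l, l < 3 ∧ ∀ i', i' < 3 → ∀ j', j' < 3 →
        y = (pa ^ i' * pb ^ j' * pc ^ l : Perm (Fin (m + 9))) 6 := by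
    clear * - hm; interval_cases m <;> decide +kernel
  have hph6 : (ph : Perm (Fin (m + 9))) 6 = 6 := by clear * - hm; interval_cases m <;> decide
  have hv6 : ∀ i, i < 3 → ∀ j, j < 3 → ∀ k, k < 3 → 0 < k →
      (pa ^ i * pb ^ j * pc ^ k : Perm (Fin (m + 9))) 6 ≠ 6 := by
    clear * - hm; interval_cases m <;> decide +kernel
  obtain ⟨hlo, hhi⟩ := hd6 i hi j hj k hk (ρ 6)
    (by rw [← comm_apply hσh, hph6]) (by rw [← comm_apply hσv]; exact ρ.injective.ne (hv6 i hi j hj k hk hk0))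
  obtain ⟨l, hl, hl'⟩ := hd6' _ hlo hhi
  have h60 := hl' i' hi' j' hj'
  set f : Perm (Fin (m + 9)) := pa ^ i' * pb ^ j' * pc ^ l with hf
  have ab : Commute (pa : Perm (Fin (m + 9))) pb :=
    show (pa : Perm (Fin (m + 9))) * pb = pb * pa by clear * - hm; interval_cases m <;> decide +kernel
  have ac : Commute (pa : Perm (Fin (m + 9))) pc :=
    show (pa : Perm (Fin (m + 9))) * pc = pc * pa by clear * - hm; interval_cases m <;> decide +kernel
  have bc : Commute (pb : Perm (Fin (m + 9))) pc :=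
    show (pb : Perm (Fin (m + 9))) * pc = pc * pb by clear * - hm; interval_cases m <;> decide +kernel
  have hA : Commute (pa : Perm (Fin (m + 9))) v :=
    (((Commute.refl _).pow_right i).mul_right (ab.pow_right j)).mul_right (ac.pow_right k)
  have hB : Commute (pb : Perm (Fin (m + 9))) v :=
    ((ab.symm.pow_right i).mul_right ((Commute.refl _).pow_right j)).mul_right (bc.pow_right k)
  have hC : Commute (pc : Perm (Fin (m + 9))) v :=
    ((ac.symm.pow_right i).mul_right (bc.symm.pow_right j)).mul_right ((Commute.refl _).pow_right k)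
  have hfv : Commute f v := ((hA.pow_left i').mul_left (hB.pow_left j')).mul_left (hC.pow_left l)
  have d1 : ∀ i', i' < 3 → ∀ j', j' < 3 → ∀ l, l < 3 → ∀ y : Fin (m + 9), y.val < 6 →
      (pa ^ i' * pb ^ j' * px6 ^ 0 : Perm (Fin (m + 9))) y = (pa ^ i' * pb ^ j' * pc ^ l : Perm (Fin (m + 9))) y := by
    clear * - hm; interval_cases m <;> decide +kernel
  have hcov : ∀ i, i < 3 → ∀ j, j < 3 → ∀ k, k < 3 → 0 < k → ∀ y : Fin (m + 9),
      y.val < 6 ∨ y = 6 ∨ y = (pa ^ i * pb ^ j * pc ^ k : Perm (Fin (m + 9))) 6 ∨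
        y = (pa ^ i * pb ^ j * pc ^ k : Perm (Fin (m + 9))) ((pa ^ i * pb ^ j * pc ^ k : Perm (Fin (m + 9))) 6) ∨
        9 ≤ y.val := by
    clear * - hm; interval_cases m <;> decide +kernel
  have hfix : ∀ i, i < 3 → ∀ j, j < 3 → ∀ k, k < 3 → 0 < i → 0 < j → 0 < k → ∀ w : Fin (m + 9),
      (pa ^ i * pb ^ j * pc ^ k : Perm (Fin (m + 9))) w = w → 9 ≤ w.val := by
    clear * - hm; interval_cases m <;> decide +kernel
  have h9 : ∀ i, i < 3 → ∀ j, j < 3 → ∀ k, k < 3 → ∀ w : Fin (m + 9), 9 ≤ w.val →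
      (pa ^ i * pb ^ j * pc ^ k : Perm (Fin (m + 9))) w = w := by
    clear * - hm; interval_cases m <;> decide +kernel
  have heq : ρ = f := by
    ext y : 1
    rcases hcov i hi j hj k hk hk0 y with h | rfl | rfl | rfl | hy
    · rw [h6 y h]; exact d1 i' hi' j' hj' l hl y h
    · exact h60
    · exact agree_next hσv hfv h60
    · exact agree_next hσv hfv (agree_next hσv hfv h60)
    · rw [hf, h9 i' hi' j' hj' l hl y hy]
      have h := hfix i hi j hj k hk hi0 hj0 hk0 (ρ y) (by rw [← hv, ← comm_apply hσv, hv, h9 i hi j hj k hk y hy])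
      exact Fin.ext (by have := (ρ y).isLt; have := y.isLt; omega)
  have hsf : ∀ i', i' < 3 → ∀ j', j' < 3 → ∀ l, l < 3 →
      sign (pa ^ i' * pb ^ j' * pc ^ l : Perm (Fin (m + 9))) = 1 := by
    clear * - hm; interval_cases m <;> decide +kernel
  have hs := congrArg sign heq
  rw [hρ, map_mul, hτs, hf, hsf i' hi' j' hj' l hl] at hs
  rcases Int.units_eq_one_or (sign σ) with h | h
  · rw [h] at hs; exact absurd hs (by decide)
  · exact h

namespace Ctx

variable {G : Type u} [Group G] [Finite G] {m : ℕ} (K : Ctx G m)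
include K

theorem A_three : IsPGroup 3 K.A := fun g => ⟨1, Subtype.ext (by simpa using g.2.2.1)⟩

theorem A_le_cent_h : K.A ≤ Subgroup.centralizer {K.h} := fun _ hg =>
  Subgroup.mem_centralizer_singleton_iff.2 (K.A_comm hg K.h_mem).eq

theorem z_notMem_A : K.z ∉ K.A := fun h => K.z_ne (by
  have e := (K.mem_A.1 h).2.1
  rwa [pow_succ, pow_two, K.sq_z, one_mul] at e)

/-- `A` is a Sylow three-subgroup of the centralizer of `h`. -/
theorem A_isSylIn (hU : K.U = ⊥) : Solv.IsSylIn 3 K.A (Subgroup.centralizer {K.h}) := by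
  haveI : Fact (Nat.Prime 3) := ⟨Nat.prime_three⟩
  set B := Subgroup.centralizer {K.h} with hB
  obtain ⟨P, hP⟩ := ((K.A_three).comap_subtype (K := B)).exists_le_sylow
  set L := (P : Subgroup B).map B.subtype with hL
  have hAL : K.A ≤ L := fun g hg => ⟨⟨g, K.A_le_cent_h hg⟩, hP (Subgroup.mem_subgroupOf.2 hg), rfl⟩
  have hLp : IsPGroup 3 L := P.isPGroup'.map _
  have hLB : L ≤ B := Subgroup.map_subtype_le _
  suffices he : K.A = L by rw [he]; exact Solv.IsSylIn.of_sylow P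
  refine le_antisymm hAL ?_
  by_contra hn
  haveI := hLp.isNilpotent
  have hlt : K.A.subgroupOf L < ⊤ := lt_top_iff_ne_top.2 fun h => hn (Subgroup.subgroupOf_eq_top.1 h)
  obtain ⟨g, hgN, hgA⟩ := SetLike.exists_of_lt (Group.normalizerCondition_of_isNilpotent _ hlt)
  have hconj : ∀ u ∈ K.A, (g : G) * u * (g : G)⁻¹ ∈ K.A ∧ (g : G)⁻¹ * u * g ∈ K.A := by
    intro u hu
    have h1 := (Subgroup.mem_normalizer_iff.1 hgN ⟨u, hAL hu⟩).1 hu
    have h2 := (Subgroup.mem_normalizer_iff.1 (inv_mem hgN) ⟨u, hAL hu⟩).1 hu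
    simp only [Subgroup.mem_subgroupOf, Subgroup.coe_mul, Subgroup.coe_inv, inv_inv] at h1 h2
    exact ⟨h1, h2⟩
  have hzc : Commute ((g : G) * K.z * (g : G)⁻¹) K.c := by
    have := (K.mem_A.1 (hconj _ K.c_mem).2).1.symm.map (MulAut.conj (g : G)).toMonoidHom
    simp only [MulEquiv.coe_toMonoidHom, MulAut.conj_apply] at this
    rwa [show (g : G) * ((g : G)⁻¹ * K.c * g) * (g : G)⁻¹ = K.c by group] at this
  have h2 : (g : G) * K.z * (g : G)⁻¹ * ((g : G) * K.z * (g : G)⁻¹) = 1 := by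
    rw [show (g : G) * K.z * (g : G)⁻¹ * ((g : G) * K.z * (g : G)⁻¹) = (g : G) * (K.z * K.z) * (g : G)⁻¹ by group,
      K.sq_z, mul_one, mul_inv_cancel]
  have hgz : Commute (g : G) K.z :=
    mul_inv_eq_iff_eq_mul.1 ((K.invol_c (K.cent_c_le hU hzc) hzc h2).resolve_left fun e =>
      K.z_ne (conj_eq_one_iff.1 e))
  obtain ⟨u, hu, v, hv, he⟩ := K.norm_A hgz (Subgroup.mem_centralizer_singleton_iff.1 (hLB g.2))
    (fun u hu => (hconj u hu).1)
  refine hgA (Subgroup.mem_subgroupOf.2 ?_)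
  have hvL : v ∈ L := by
    have := mul_mem (inv_mem (hAL hu)) g.2
    rwa [he, inv_mul_cancel_left] at this
  obtain ⟨k, hk⟩ := hLp ⟨v, hvL⟩
  have hk' : v ^ 3 ^ k = 1 := by simpa using congrArg Subtype.val hk
  have hv1 : v = 1 := orderOf_eq_one_iff.1 (Nat.eq_one_of_dvd_coprimes
    (Nat.Coprime.pow_left k (by decide : Nat.Coprime 3 2)) (orderOf_dvd_of_pow_eq_one hk')
    (orderOf_dvd_of_pow_eq_one (K.V_exp hv)))
  rw [he, hv1, mul_one]
  exact hu

/-- An element of odd order in the centralizer of `h` and of a conjugate of `z` has cube one. -/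
theorem cube_of_conj {u g w : G} (hgw : g * w * g⁻¹ = K.z)
    (hgh : g * K.h * g⁻¹ = K.h ∨ g * K.h * g⁻¹ = K.h⁻¹) (huw : Commute u w) (huh : Commute u K.h)
    (hodd : Odd (orderOf u)) : u ^ 3 = 1 := by
  have h1 : Commute (g * u * g⁻¹) K.z := by
    have := huw.map (MulAut.conj g).toMonoidHom
    simp only [MulEquiv.coe_toMonoidHom, MulAut.conj_apply] at this
    rwa [hgw] at this
  have h2 : Commute (g * u * g⁻¹) K.h := by
    have := huh.map (MulAut.conj g).toMonoidHom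
    simp only [MulEquiv.coe_toMonoidHom, MulAut.conj_apply] at this
    rcases hgh with e | e <;> rw [e] at this
    · exact this
    · simpa using this.inv_right
  have h48 := K.cent_h_pow h1 h2
  rw [conj_pow, conj_eq_one_iff] at h48
  have hd : orderOf u ∣ 16 * 3 := orderOf_dvd_of_pow_eq_one h48
  exact orderOf_dvd_iff_pow_eq_one.1
    ((Nat.Coprime.pow_right 4 hodd.coprime_two_right).dvd_of_dvd_mul_left hd)

theorem x_inv_abc {i j k : ℕ} (hi : i < 3) (hj : j < 3) (hk : k < 3) (hij : (i + j) % 3 = 0) :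
    K.x * (K.a ^ i * K.b ^ j * K.c ^ k) * K.x⁻¹ = (K.a ^ i * K.b ^ j * K.c ^ k)⁻¹ := by
  have hmem : K.a ^ i * K.b ^ j * K.c ^ k ∈ K.A :=
    mul_mem (mul_mem (pow_mem K.a_mem _) (pow_mem K.b_mem _)) (pow_mem K.c_mem _)
  obtain ⟨hz, h3, -⟩ := K.mem_A.1 hmem
  refine K.conj3 K.xz hz hz.inv_left h3 (K.inv3 h3) ?_
  rw [K.toDAlt.p_inv hz, K.p_x, K.p_abc]
  have hd : ∀ i, i < 3 → ∀ j, j < 3 → ∀ k, k < 3 → (i + j) % 3 = 0 →
      px * (pa ^ i * pb ^ j * pc ^ k) * px⁻¹ = (pa ^ i * pb ^ j * pc ^ k : Perm (Fin (m + 9)))⁻¹ := by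
    have := K.hm
    clear * - this
    interval_cases m <;> decide +kernel
  exact hd i hi j hj k hk hij

/-- The centralizer of `h` and of an inverted element involving the third rotation lies in that of
`z`. -/
theorem cent_hw_le (hU : K.U = ⊥) {i j k : ℕ} (hi : i < 3) (hj : j < 3) (hk : k < 3) (hk0 : 0 < k)
    (hij : (i + j) % 3 = 0) {g : G} (hgh : Commute g K.h)
    (hgw : Commute g (K.a ^ i * K.b ^ j * K.c ^ k)) : Commute g K.z := by
  haveI : Fact (Nat.Prime 3) := ⟨Nat.prime_three⟩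
  have hwA : K.a ^ i * K.b ^ j * K.c ^ k ∈ K.A :=
    mul_mem (mul_mem (pow_mem K.a_mem _) (pow_mem K.b_mem _)) (pow_mem K.c_mem _)
  set w := K.a ^ i * K.b ^ j * K.c ^ k with hw
  set X := Subgroup.centralizer {K.h} ⊓ Subgroup.centralizer {w} with hX
  have memX : ∀ {u : G}, u ∈ X ↔ Commute u K.h ∧ Commute u w := fun {u} => by
    rw [hX, Subgroup.mem_inf, Subgroup.mem_centralizer_singleton_iff, Subgroup.mem_centralizer_singleton_iff]
    rfl
  have hzX : K.z ∈ X := memX.2 ⟨K.hz.symm, (K.mem_A.1 hwA).1.symm⟩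
  have hAX : K.A ≤ X := fun u hu => memX.2 ⟨K.A_comm hu K.h_mem, K.A_comm hu hwA⟩
  have hdecomp : ∀ u ∈ X, Commute u K.z → u ∈ K.A ∨ u * K.z ∈ K.A := fun u hu huz =>
    K.cent_h_abc huz (memX.1 hu).1 hi hj hk hk0 (memX.1 hu).2
  have hA2 : ∀ u ∈ K.A, (u * u = 1 ∨ u * u = K.z) → u = 1 := by
    intro u hu h
    have h3 := (K.mem_A.1 hu).2.1
    rcases h with e | e
    · rwa [pow_succ, pow_two, e, one_mul] at h3
    · exact absurd (e ▸ mul_mem hu hu) K.z_notMem_A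
  have hun : ∀ u ∈ X, Commute u K.z → (u * u = 1 ∨ u * u = K.z) → u = 1 ∨ u = K.z := by
    intro u hu huz h
    rcases hdecomp u hu huz with h' | h'
    · exact Or.inl (hA2 u h' h)
    · refine Or.inr ?_
      have : u * K.z * (u * K.z) = u * u := by
        rw [mul_assoc, ← mul_assoc K.z, ← huz.eq, mul_assoc u K.z, K.sq_z, mul_one]
      have e := hA2 _ h' (this.symm ▸ h)
      rw [mul_eq_one_iff_eq_inv, K.toDAlt.inv_z] at e
      exact e
  obtain ⟨M, hMX, hodd, hXM, hdec, hoddM⟩ := exists_odd_complement hzX K.sq_z K.z_ne hun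
  have hMord : ∀ u ∈ M, Odd (orderOf u) := fun u hu =>
    hodd.of_dvd_nat (Subgroup.orderOf_dvd_natCard M hu)
  have hAM : K.A ≤ M := fun u hu => hoddM u (hAX hu)
    ((show Odd 3 from ⟨1, rfl⟩).of_dvd_nat (orderOf_dvd_of_pow_eq_one (K.mem_A.1 hu).2.1))
  have hxM : ∀ u ∈ M, K.x * u * K.x⁻¹ ∈ M := by
    intro u hu
    obtain ⟨h1, h2⟩ := memX.1 (hMX hu)
    have h1' : Commute (K.x * u * K.x⁻¹) K.h := by
      have := h1.map (MulAut.conj K.x).toMonoidHom
      simp only [MulEquiv.coe_toMonoidHom, MulAut.conj_apply] at this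
      rwa [← K.hx.eq, mul_inv_cancel_right] at this
    have h2' : Commute (K.x * u * K.x⁻¹) w := by
      have := h2.map (MulAut.conj K.x).toMonoidHom
      simp only [MulEquiv.coe_toMonoidHom, MulAut.conj_apply] at this
      rw [hw, K.x_inv_abc hi hj hk hij] at this
      simpa [hw] using this.inv_right
    refine hoddM _ (memX.2 ⟨h1', h2'⟩) ?_
    have := orderOf_injective (MulAut.conj K.x).toMonoidHom (MulAut.conj K.x).injective u
    simp only [MulEquiv.coe_toMonoidHom, MulAut.conj_apply] at this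
    rw [this]
    exact hMord u hu
  have hxN : K.x ∈ Subgroup.normalizer (M : Set G) := by
    refine Subgroup.mem_normalizer_iff.2 fun u => ⟨hxM u, fun hu => ?_⟩
    have := hxM _ hu
    rwa [show K.x * (K.x * u * K.x⁻¹) * K.x⁻¹ = (K.x * K.x) * u * (K.x * K.x)⁻¹ by group, K.x_sq,
      one_mul, inv_one, mul_one] at this
  have hpow : ∀ L : Subgroup G, (∀ u ∈ L, u ^ 3 = 1) → ∃ n, Nat.card L = 3 ^ n := fun L hL =>
    IsPGroup.iff_card.1 (fun u => ⟨1, Subtype.ext (by simpa using hL u u.2)⟩)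
  have hcube : ∀ u ∈ M, Commute u K.z → u ^ 3 = 1 := by
    intro u hu huz
    rcases hdecomp u (hMX hu) huz with h | h
    · exact (K.mem_A.1 h).2.1
    · exfalso
      refine K.z_notMem_odd hodd ?_
      rw [show K.z = u⁻¹ * (u * K.z) by group]
      exact mul_mem (inv_mem hu) (hAM h)
  obtain ⟨g0, hg1, hg2, hg3⟩ := K.exists_swap
  obtain ⟨n1, e1⟩ := hpow (M ⊓ Subgroup.centralizer {K.z}) fun u hu =>
    hcube u hu.1 (Subgroup.mem_centralizer_singleton_iff.1 hu.2)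
  obtain ⟨n2, e2⟩ := hpow (M ⊓ Subgroup.centralizer {K.x}) fun u hu =>
    K.cube_of_conj hg2 hg3 (Subgroup.mem_centralizer_singleton_iff.1 hu.2) (memX.1 (hMX hu.1)).1 (hMord u hu.1)
  obtain ⟨n3, e3⟩ := hpow (M ⊓ Subgroup.centralizer {K.x * K.z}) fun u hu => by
    refine K.cube_of_conj (g := g0 * K.s) ?_ ?_ (Subgroup.mem_centralizer_singleton_iff.1 hu.2)
      (memX.1 (hMX hu.1)).1 (hMord u hu.1)
    · rw [show g0 * K.s * (K.x * K.z) * (g0 * K.s)⁻¹ =
        g0 * (K.s * K.x * K.s⁻¹ * (K.s * K.z * K.s⁻¹)) * g0⁻¹ by group, K.s_x, K.sz.eq,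
        mul_inv_cancel_right, mul_assoc K.x, K.sq_z, mul_one, hg2]
    · rw [show g0 * K.s * K.h * (g0 * K.s)⁻¹ = g0 * (K.s * K.h * K.s⁻¹) * g0⁻¹ by group, K.s_h,
        show g0 * K.h⁻¹ * g0⁻¹ = (g0 * K.h * g0⁻¹)⁻¹ by group]
      rcases hg3 with e | e <;> rw [e] <;> simp
  have hform := K.four_formula hodd (hXM hzX) hxN
  rw [e1, e2, e3, ← pow_add, ← pow_add] at hform
  obtain ⟨n, -, hn⟩ := (Nat.dvd_prime_pow Nat.prime_three).1 (Dvd.intro _ hform.symm)
  have hMA : K.A = M := (K.A_isSylIn hU).eq_of_le (IsPGroup.of_card hn) (hMX.trans inf_le_left) hAM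
  rcases hdec g (memX.2 ⟨hgh, hgw⟩) with h | h <;> rw [← hMA] at h
  · exact (K.mem_A.1 h).1
  · have := (K.mem_A.1 h).1.mul_left K.toDAlt.comm_zz
    rwa [mul_assoc, K.sq_z, mul_one] at this

/-- An element permuting the involutions of the four-group cyclically. -/
def Cyc (g : G) : Prop :=
  (g * K.z * g⁻¹ = K.x ∧ g * K.x * g⁻¹ = K.x * K.z) ∨ (g * K.z * g⁻¹ = K.x * K.z ∧ g * K.x * g⁻¹ = K.z)

variable {g : G}

theorem Cyc.xz_map (hg : K.Cyc g) :
    (g * K.z * g⁻¹ = K.x ∧ g * (K.x * K.z) * g⁻¹ = K.z) ∨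
      (g * K.z * g⁻¹ = K.x * K.z ∧ g * (K.x * K.z) * g⁻¹ = K.x) := by
  rcases hg with ⟨e1, e2⟩ | ⟨e1, e2⟩
  · refine Or.inl ⟨e1, ?_⟩
    rw [show g * (K.x * K.z) * g⁻¹ = g * K.x * g⁻¹ * (g * K.z * g⁻¹) by group, e1, e2, K.xz.eq,
      mul_assoc, K.x_sq, mul_one]
  · refine Or.inr ⟨e1, ?_⟩
    rw [show g * (K.x * K.z) * g⁻¹ = g * K.x * g⁻¹ * (g * K.z * g⁻¹) by group, e1, e2, K.xz.eq,
      ← mul_assoc, K.sq_z, one_mul]

theorem Cyc.map_V (hg : K.Cyc g) : ∀ v ∈ K.V, g * v * g⁻¹ ∈ K.V := by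
  intro v hv
  rcases hv with rfl | rfl | rfl | rfl
  · rw [mul_one, mul_inv_cancel]; exact one_mem _
  · rcases hg with ⟨e, -⟩ | ⟨e, -⟩ <;> rw [e]
    exacts [K.x_mem_V, mul_mem K.x_mem_V K.z_mem_V]
  · rcases hg with ⟨-, e⟩ | ⟨-, e⟩ <;> rw [e]
    exacts [mul_mem K.x_mem_V K.z_mem_V, K.z_mem_V]
  · rcases Cyc.xz_map K hg with ⟨-, e⟩ | ⟨-, e⟩ <;> rw [e]
    exacts [K.z_mem_V, K.x_mem_V]

theorem Cyc.fixed (hg : K.Cyc g) {v : G} (hv : v ∈ K.V) (hc : Commute g v) : v = 1 := by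
  have h : g * v * g⁻¹ = v := by rw [hc.eq, mul_inv_cancel_right]
  have h1 : K.x * K.z ≠ K.z := fun e => K.x_ne (mul_eq_right.1 e)
  have h2 : K.x * K.z ≠ K.x := fun e => K.z_ne (mul_eq_left.1 e)
  rcases hv with rfl | rfl | rfl | rfl
  · rfl
  all_goals exfalso
  · rcases hg with ⟨e, -⟩ | ⟨e, -⟩ <;> rw [e] at h
    exacts [K.x_ne_z h, h1 h]
  · rcases hg with ⟨-, e⟩ | ⟨-, e⟩ <;> rw [e] at h
    exacts [h2 h, K.x_ne_z h.symm]
  · rcases Cyc.xz_map K hg with ⟨-, e⟩ | ⟨-, e⟩ <;> rw [e] at h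
    exacts [h1 h.symm, h2 h.symm]

theorem Cyc.relation (hg : K.Cyc g) {v : G} (hv : v ∈ K.V) :
    g⁻¹ * v * g ∈ K.V ∧ g⁻¹ * v * g * (g⁻¹ * (g⁻¹ * v * g) * g) = v := by
  have hback : ∀ p q : G, g * p * g⁻¹ = q → g⁻¹ * q * g = p := fun p q e => by rw [← e]; group
  have q1 : K.x * K.z * K.x = K.z := by rw [K.xz.eq, mul_assoc, K.x_sq, mul_one]
  have q2 : K.z * (K.x * K.z) = K.x := by rw [K.xz.eq, ← mul_assoc, K.sq_z, one_mul]
  have q3 : K.x * (K.x * K.z) = K.z := by rw [← mul_assoc, K.x_sq, one_mul]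
  have q4 : K.x * K.z * K.z = K.x := by rw [mul_assoc, K.sq_z, mul_one]
  have q5 : K.z * K.x = K.x * K.z := K.xz.eq.symm
  have hxzV : K.x * K.z ∈ K.V := mul_mem K.x_mem_V K.z_mem_V
  rcases hv with rfl | rfl | rfl | rfl
  · rw [show g⁻¹ * 1 * g = (1 : G) by group, show g⁻¹ * 1 * g = (1 : G) by group, mul_one]
    exact ⟨one_mem _, rfl⟩
  all_goals
    rcases hg with ⟨e1, e2⟩ | ⟨e1, e2⟩
  · have e3 := ((Cyc.xz_map K (Or.inl ⟨e1, e2⟩)).resolve_right fun h =>
      K.z_ne (mul_eq_left.1 (h.1.symm.trans e1))).2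
    rw [hback _ _ e3, hback _ _ e2]
    exact ⟨hxzV, q4.trans rfl |> fun _ => q1⟩
  · rw [hback _ _ e2, hback _ _ (((Cyc.xz_map K (Or.inr ⟨e1, e2⟩)).resolve_left fun h =>
      K.z_ne (mul_eq_left.1 (e1.symm.trans h.1))).2)]
    exact ⟨K.x_mem_V, q3⟩
  · rw [hback _ _ e1, hback _ _ (((Cyc.xz_map K (Or.inl ⟨e1, e2⟩)).resolve_right fun h =>
      K.z_ne (mul_eq_left.1 (h.1.symm.trans e1))).2)]
    exact ⟨K.z_mem_V, q2⟩
  · rw [hback _ _ (((Cyc.xz_map K (Or.inr ⟨e1, e2⟩)).resolve_left fun h =>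
      K.z_ne (mul_eq_left.1 (e1.symm.trans h.1))).2), hback _ _ e1]
    exact ⟨hxzV, q4⟩
  · rw [hback _ _ e2, hback _ _ e1]
    exact ⟨K.x_mem_V, K.xz.eq ▸ rfl⟩
  · rw [hback _ _ e1, hback _ _ e2]
    exact ⟨K.z_mem_V, q5⟩

/-- There is an element of order three cycling the four-group, centralizing `h` and conjugate into
`A`. -/
theorem exists_cyc (hU : K.U = ⊥) : ∃ g d : G, ∃ i, i < 3 ∧ ∃ j, j < 3 ∧ ∃ k, k < 3 ∧
    (i + j) % 3 = 0 ∧ Commute g K.h ∧ Commute d K.h ∧ g ^ 3 = 1 ∧ K.Cyc g ∧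
    d * g * d⁻¹ = K.a ^ i * K.b ^ j * K.c ^ k := by
  haveI : Fact (Nat.Prime 3) := ⟨Nat.prime_three⟩
  obtain ⟨g0, hg1, hg2, hg3⟩ := K.exists_swap
  set k0 := g0 * K.s with hk0
  have k_z : k0 * K.z * k0⁻¹ = K.x := by
    rw [hk0, show g0 * K.s * K.z * (g0 * K.s)⁻¹ = g0 * (K.s * K.z * K.s⁻¹) * g0⁻¹ by group, K.sz.eq,
      mul_inv_cancel_right, hg1]
  have k_x : k0 * K.x * k0⁻¹ = K.x * K.z := by
    rw [hk0, show g0 * K.s * K.x * (g0 * K.s)⁻¹ = g0 * (K.s * K.x * K.s⁻¹) * g0⁻¹ by group, K.s_x,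
      show g0 * (K.x * K.z) * g0⁻¹ = g0 * K.x * g0⁻¹ * (g0 * K.z * g0⁻¹) by group, hg1, hg2, K.xz.eq]
  have k_xz : k0 * (K.x * K.z) * k0⁻¹ = K.z := by
    rw [show k0 * (K.x * K.z) * k0⁻¹ = k0 * K.x * k0⁻¹ * (k0 * K.z * k0⁻¹) by group, k_z, k_x,
      K.xz.eq, mul_assoc, K.x_sq, mul_one]
  have k_h : k0 * K.h * k0⁻¹ = K.h ∨ k0 * K.h * k0⁻¹ = K.h⁻¹ := by
    rw [hk0, show g0 * K.s * K.h * (g0 * K.s)⁻¹ = g0 * (K.s * K.h * K.s⁻¹) * g0⁻¹ by group, K.s_h,
      show g0 * K.h⁻¹ * g0⁻¹ = (g0 * K.h * g0⁻¹)⁻¹ by group]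
    rcases hg3 with e | e <;> rw [e] <;> simp
  set g1 := k0 * k0 with hk1
  have c2 : ∀ w, g1 * w * g1⁻¹ = k0 * (k0 * w * k0⁻¹) * k0⁻¹ := fun w => by rw [hk1]; group
  have g1h : Commute g1 K.h := by
    refine mul_inv_eq_iff_eq_mul.1 ?_
    rw [c2]
    rcases k_h with e | e
    · rw [e, e]
    · rw [e, show k0 * K.h⁻¹ * k0⁻¹ = (k0 * K.h * k0⁻¹)⁻¹ by group, e, inv_inv]
  have g1z : g1 * K.z * g1⁻¹ = K.x * K.z := by rw [c2, k_z, k_x]
  have g1x : g1 * K.x * g1⁻¹ = K.z := by rw [c2, k_x, k_xz]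
  have g1xz : g1 * (K.x * K.z) * g1⁻¹ = K.x := by rw [c2, k_xz, k_z]
  have cube : ∀ w, g1 ^ 3 * w * (g1 ^ 3)⁻¹ = g1 * (g1 * (g1 * w * g1⁻¹) * g1⁻¹) * g1⁻¹ := fun w => by
    simp [pow_succ, mul_assoc]
  have g3z : Commute (g1 ^ 3) K.z := mul_inv_eq_iff_eq_mul.1 (by rw [cube, g1z, g1xz, g1x])
  have g3x : Commute (g1 ^ 3) K.x := mul_inv_eq_iff_eq_mul.1 (by rw [cube, g1x, g1z, g1xz])
  set r := orderOf g1 / 3 ^ (orderOf g1).factorization 3 with hr
  set g := g1 ^ r with hg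
  have hr3 : ¬ 3 ∣ r := Nat.not_dvd_ordCompl Nat.prime_three (orderOf_pos g1).ne'
  have hgc : K.Cyc g := by
    have hconj : ∀ w, Commute (g1 ^ 3) w → g * w * g⁻¹ = g1 ^ (r % 3) * w * (g1 ^ (r % 3))⁻¹ := by
      intro w hw
      have hw' : Commute (g1 ^ (3 * (r / 3))) w := by rw [pow_mul]; exact hw.pow_left _
      calc g * w * g⁻¹ = g1 ^ (r % 3) * (g1 ^ (3 * (r / 3)) * w * (g1 ^ (3 * (r / 3)))⁻¹) *
            (g1 ^ (r % 3))⁻¹ := by
            rw [hg, ← Nat.mod_add_div r 3, pow_add, Nat.mod_add_div r 3]; group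
        _ = _ := by rw [hw'.eq, mul_inv_cancel_right]
    rw [Cyc, hconj _ g3z, hconj _ g3x]
    have : r % 3 = 1 ∨ r % 3 = 2 := by omega
    rcases this with e | e <;> rw [e]
    · exact Or.inr ⟨by rw [pow_one, g1z], by rw [pow_one, g1x]⟩
    · have c4 : ∀ w, g1 ^ 2 * w * (g1 ^ 2)⁻¹ = g1 * (g1 * w * g1⁻¹) * g1⁻¹ := fun w => by
        simp [pow_succ, mul_assoc]
      exact Or.inl ⟨by rw [c4, g1z, g1xz], by rw [c4, g1x, g1z]⟩
  have hgh : Commute g K.h := g1h.pow_left r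
  have hg3' : g ^ 3 ^ (orderOf g1).factorization 3 = 1 := by
    rw [hg, ← pow_mul, hr, Nat.div_mul_cancel (Nat.ordProj_dvd _ _), pow_orderOf_eq_one]
  set B := Subgroup.centralizer {K.h} with hB
  have hgB : g ∈ B := Subgroup.mem_centralizer_singleton_iff.2 hgh.eq
  obtain ⟨S, hS⟩ := (show IsPGroup 3 (Subgroup.zpowers (⟨g, hgB⟩ : B)) from fun w => by
    obtain ⟨w, i, rfl⟩ := w
    refine ⟨(orderOf g1).factorization 3, Subtype.ext ?_⟩
    show ((⟨g, hgB⟩ : B) ^ i) ^ 3 ^ (orderOf g1).factorization 3 = 1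
    rw [← zpow_natCast, ← zpow_mul, mul_comm, zpow_mul, zpow_natCast]
    rw [show (⟨g, hgB⟩ : B) ^ 3 ^ (orderOf g1).factorization 3 = 1 from Subtype.ext hg3', one_zpow]).exists_le_sylow
  obtain ⟨d, hd, hde⟩ := (Solv.IsSylIn.of_sylow S).exists_conj (K.A_isSylIn hU)
  have hdh : Commute d K.h := Subgroup.mem_centralizer_singleton_iff.1 hd
  have hyA : d * g * d⁻¹ ∈ K.A := by
    rw [← hde, Solv.mem_conj_smul, show d⁻¹ * (d * g * d⁻¹) * d = g by group]
    exact ⟨⟨g, hgB⟩, hS (Subgroup.mem_zpowers _), rfl⟩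
  have hgcube : g ^ 3 = 1 := by
    have := (K.mem_A.1 hyA).2.1
    rwa [conj_pow, conj_eq_one_iff] at this
  obtain ⟨i, hi, j, hj, k, hk, e⟩ := K.A_eq hyA
  refine ⟨g * K.h ^ (i + j), d, (i + (i + j)) % 3, Nat.mod_lt _ (by norm_num), (j + (i + j)) % 3,
    Nat.mod_lt _ (by norm_num), k, hk, by omega, hgh.mul_left ((Commute.refl _).pow_left _), hdh, ?_, ?_, ?_⟩
  · rw [(hgh.pow_right (i + j)).mul_pow, hgcube, ← pow_mul, mul_comm, pow_mul, K.h3, one_pow, one_mul]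
  · have hh : ∀ w, Commute K.h w → g * K.h ^ (i + j) * w * (g * K.h ^ (i + j))⁻¹ = g * w * g⁻¹ := by
      intro w hw
      rw [show g * K.h ^ (i + j) * w * (g * K.h ^ (i + j))⁻¹ =
        g * (K.h ^ (i + j) * w * (K.h ^ (i + j))⁻¹) * g⁻¹ by group, (hw.pow_left _).eq, mul_inv_cancel_right]
    rw [Cyc, hh _ K.hz, hh _ K.hx]
    exact hgc
  · rw [show d * (g * K.h ^ (i + j)) * d⁻¹ = d * g * d⁻¹ * (d * K.h ^ (i + j) * d⁻¹) by group, e,
      (hdh.pow_right _).eq, mul_inv_cancel_right, ← pow_eq_pow_mod _ K.a3, ← pow_eq_pow_mod _ K.b3,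
      show K.h = K.a * K.b from rfl, K.ab.mul_pow]
    have q1 : Commute (K.a ^ (i + j)) (K.b ^ j * K.c ^ k) :=
      (K.ab.pow_pow _ _).mul_right (K.ac.pow_pow _ _)
    have q2 : Commute (K.b ^ (i + j)) (K.c ^ k) := K.bc.pow_pow _ _
    calc K.a ^ i * K.b ^ j * K.c ^ k * (K.a ^ (i + j) * K.b ^ (i + j))
        = K.a ^ i * ((K.b ^ j * K.c ^ k) * K.a ^ (i + j)) * K.b ^ (i + j) := by group
      _ = K.a ^ i * K.a ^ (i + j) * K.b ^ j * (K.c ^ k * K.b ^ (i + j)) := by rw [← q1.eq]; group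
      _ = _ := by
        rw [← q2.eq, pow_add K.a i (i + j), pow_add K.b j (i + j)]
        simp only [mul_assoc]

/-- The element cycling the four-group is not conjugate to a rotation of all three blocks. -/
theorem no_full_rotation (hU : K.U = ⊥) {d : G} (hd : Commute d K.h) (hgh : Commute g K.h)
    (hg : K.Cyc g) {i j k : ℕ} (hi0 : 0 < i) (hi : i < 3) (hj0 : 0 < j) (hj : j < 3) (hk0 : 0 < k)
    (hk : k < 3) (hij : (i + j) % 3 = 0) (hy : d * g * d⁻¹ = K.a ^ i * K.b ^ j * K.c ^ k) : False := by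
  set e := K.eta * g * K.eta⁻¹ with he
  have heta_xz : K.eta * (K.x * K.z) * K.eta⁻¹ = K.x := by
    rw [show K.eta * (K.x * K.z) * K.eta⁻¹ = K.eta * K.x * K.eta⁻¹ * (K.eta * K.z * K.eta⁻¹) by group,
      K.eta_x, K.etaz.eq, mul_inv_cancel_right, mul_assoc, K.sq_z, mul_one]
  have hbx : K.eta⁻¹ * K.x * K.eta = K.x * K.z := by
    conv_lhs => rw [← heta_xz]
    group
  have hbxz : K.eta⁻¹ * (K.x * K.z) * K.eta = K.x := by
    conv_lhs => rw [← K.eta_x]
    group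
  have hbz : K.eta⁻¹ * K.z * K.eta = K.z := by
    rw [K.etaz.inv_left.eq, inv_mul_cancel_right]
  have hexp : ∀ w, e * g * w * (e * g)⁻¹ =
      K.eta * (g * (K.eta⁻¹ * (g * w * g⁻¹) * K.eta) * g⁻¹) * K.eta⁻¹ := fun w => by rw [he]; group
  have hetaz : K.eta * K.z * K.eta⁻¹ = K.z := by rw [K.etaz.eq, mul_inv_cancel_right]
  have hegz : Commute (e * g) K.z := by
    refine mul_inv_eq_iff_eq_mul.1 ?_
    rw [hexp]
    rcases Cyc.xz_map K hg with ⟨e1, e2⟩ | ⟨e1, e2⟩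
    · rw [e1, hbx, e2, hetaz]
    · rw [e1, hbxz]
      rcases hg with ⟨f1, f2⟩ | ⟨f1, f2⟩
      · exact absurd (f1.symm.trans e1) fun h => K.z_ne (mul_eq_left.1 h.symm)
      · rw [f2, hetaz]
  have hegx : Commute (e * g) K.x := by
    refine mul_inv_eq_iff_eq_mul.1 ?_
    rw [hexp]
    rcases hg with ⟨e1, e2⟩ | ⟨e1, e2⟩
    · rw [e2, hbxz, e2, heta_xz]
    · rw [e2, hbz, e1, heta_xz]
  have heh : Commute e K.h := by
    have := hgh.map (MulAut.conj K.eta).toMonoidHom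
    simp only [MulEquiv.coe_toMonoidHom, MulAut.conj_apply, K.eta_h] at this
    simpa [he] using this.inv_right
  obtain ⟨l, -, v, hv, hev⟩ := K.cent_xh hegz hegx (heh.mul_left hgh)
  obtain ⟨huV, hurel⟩ := Cyc.relation K hg hv
  set u := g⁻¹ * v * g with hu
  set η' := u * K.eta with hη'
  have huh : Commute K.h u := (K.V_comm huV).2.2
  have hu2 : u * u = 1 := by rw [← pow_two]; exact K.V_exp huV
  have huinv : u⁻¹ = u := inv_eq_of_mul_eq_one_right hu2
  have hv2 : v * v = 1 := by rw [← pow_two]; exact K.V_exp hv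
  have Vcomm : ∀ p ∈ K.V, ∀ q ∈ K.V, Commute p q := by
    intro p hp q hq
    obtain ⟨h1, h2, -⟩ := K.V_comm hp
    rcases hq with rfl | rfl | rfl | rfl
    exacts [Commute.one_right p, h1, h2, h2.mul_right h1]
  have hinv_h : η' * K.h * η'⁻¹ = K.h⁻¹ := by
    rw [hη', show u * K.eta * K.h * (u * K.eta)⁻¹ = u * (K.eta * K.h * K.eta⁻¹) * u⁻¹ by group,
      K.eta_h, ← huh.inv_left.eq, mul_inv_cancel_right]
  have he' : e = K.h ^ l * v * g⁻¹ := by rw [← hev, mul_inv_cancel_right]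
  have hinv_g : η' * g * η'⁻¹ = K.h ^ l * g⁻¹ := by
    calc η' * g * η'⁻¹ = u * e * u⁻¹ := by rw [hη', he]; group
      _ = u * K.h ^ l * v * g⁻¹ * u := by rw [he', huinv]; group
      _ = K.h ^ l * (u * v) * (g⁻¹ * u * g) * g⁻¹ := by rw [← (huh.pow_left l).eq]; group
      _ = K.h ^ l * (v * (u * (g⁻¹ * u * g))) * g⁻¹ := by rw [(Vcomm u huV v hv).eq]; group
      _ = K.h ^ l * g⁻¹ := by rw [hurel, hv2, mul_one]
  set w := η' * η' with hw
  have hwV : w ∈ K.V := by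
    have h1 : K.eta * u * K.eta⁻¹ ∈ K.V := by
      rcases huV with h | h | h | h <;> rw [h]
      · rw [mul_one, mul_inv_cancel]; exact one_mem _
      · rw [hetaz]; exact K.z_mem_V
      · rw [K.eta_x]; exact mul_mem K.x_mem_V K.z_mem_V
      · rw [heta_xz]; exact K.x_mem_V
    have : w = u * (K.eta * u * K.eta⁻¹) * (K.eta * K.eta) := by rw [hw, hη']; group
    rw [this, K.eta_sq, mul_one]
    exact mul_mem huV h1
  have hwg : w * g * w⁻¹ = g * K.h ^ l := by
    have h3 : ((K.h ^ l)⁻¹) * (K.h ^ l)⁻¹ = K.h ^ l := by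
      rw [← mul_inv_rev, inv_eq_iff_mul_eq_one, ← pow_add, ← pow_add,
        show l + l + l = 3 * l by ring, pow_mul, K.h3, one_pow]
    calc w * g * w⁻¹ = η' * (η' * g * η'⁻¹) * η'⁻¹ := by rw [hw]; group
      _ = η' * (K.h ^ l * g⁻¹) * η'⁻¹ := by rw [hinv_g]
      _ = (η' * K.h * η'⁻¹) ^ l * (η' * g * η'⁻¹)⁻¹ := by rw [conj_pow]; group
      _ = (K.h ^ l)⁻¹ * (g * (K.h ^ l)⁻¹) := by rw [hinv_g, hinv_h, inv_pow, mul_inv_rev, inv_inv]
      _ = g * ((K.h ^ l)⁻¹ * (K.h ^ l)⁻¹) := by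
        rw [← mul_assoc, ← (hgh.pow_right l).inv_right.eq, mul_assoc]
      _ = g * K.h ^ l := by rw [h3]
  have hl1 : K.h ^ l = 1 := by
    have hmem : K.h ^ l ∈ K.V := by
      rw [show K.h ^ l = g⁻¹ * (g * K.h ^ l) by group, ← hwg, show g⁻¹ * (w * g * w⁻¹) = g⁻¹ * w * g * w⁻¹ by group]
      exact mul_mem (Cyc.relation K hg hwV).1 (inv_mem hwV)
    have h2 := K.V_exp hmem
    have h3 : (K.h ^ l) ^ 3 = 1 := by rw [← pow_mul, mul_comm, pow_mul, K.h3, one_pow]
    rwa [pow_succ, h2, one_mul] at h3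
  rw [hl1, one_mul] at hinv_g
  rw [hl1, mul_one] at hwg
  have hη2 : η' * η' = 1 := Cyc.fixed K hg hwV (mul_inv_eq_iff_eq_mul.1 hwg).symm
  have hη1 : η' ≠ 1 := fun e => by
    have hh := hinv_h
    rw [e, one_mul, inv_one, mul_one] at hh
    have : K.h ^ 2 = 1 := by rw [pow_two]; exact mul_eq_one_iff_eq_inv.2 hh
    have h3 := K.h3
    rw [pow_succ, this, one_mul] at h3
    exact (by rw [h3, orderOf_one]; decide : orderOf K.h ≠ 3) K.orderOf_h
  set y := K.a ^ i * K.b ^ j * K.c ^ k with hy'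
  set f := d * η' * d⁻¹ with hf
  have hfh : f * K.h * f⁻¹ = K.h⁻¹ := by
    have e1 : d⁻¹ * K.h * d = K.h := by rw [mul_assoc, ← hd.eq, inv_mul_cancel_left]
    calc f * K.h * f⁻¹ = d * (η' * (d⁻¹ * K.h * d) * η'⁻¹) * d⁻¹ := by rw [hf]; group
      _ = K.h⁻¹ := by rw [e1, hinv_h, hd.inv_right.eq, mul_inv_cancel_right]
  have hfy : f * y * f⁻¹ = y⁻¹ := by
    rw [← hy, hf, show d * η' * d⁻¹ * (d * g * d⁻¹) * (d * η' * d⁻¹)⁻¹ = d * (η' * g * η'⁻¹) * d⁻¹ by group,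
      hinv_g]
    group
  have hyA : y ∈ K.A := mul_mem (mul_mem (pow_mem K.a_mem _) (pow_mem K.b_mem _)) (pow_mem K.c_mem _)
  have hyz := (K.mem_A.1 hyA).1
  have hfz : Commute f K.z := by
    have h1 : Commute (f * K.z * f⁻¹) K.h := by
      have := K.hz.symm.map (MulAut.conj f).toMonoidHom
      simp only [MulEquiv.coe_toMonoidHom, MulAut.conj_apply, hfh] at this
      simpa using this.inv_right
    have h2 : Commute (f * K.z * f⁻¹) y := by
      have := hyz.symm.map (MulAut.conj f).toMonoidHom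
      simp only [MulEquiv.coe_toMonoidHom, MulAut.conj_apply, hfy] at this
      simpa using this.inv_right
    have h3 := K.cent_hw_le hU hi hj hk hk0 hij h1 h2
    refine mul_inv_eq_iff_eq_mul.1 ((K.four_full h3 hi0 hi hj0 hj hk0 hk h2 (Or.inl ?_)).resolve_left
      fun e => K.z_ne (conj_eq_one_iff.1 e))
    rw [show f * K.z * f⁻¹ * (f * K.z * f⁻¹) = f * (K.z * K.z) * f⁻¹ by group, K.sq_z, mul_one,
      mul_inv_cancel]
  have p1 := congrArg K.p hfh
  rw [K.toDAlt.p_conj hfz K.hz, K.toDAlt.p_inv K.hz, K.p_h] at p1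
  have p2 := congrArg K.p hfy
  rw [K.toDAlt.p_conj hfz hyz, K.toDAlt.p_inv hyz, hy', K.p_abc] at p2
  have hodd := inverter_odd K.hm hi0 hi hj0 hj hk0 hk hij p1 p2
  rw [K.sign_p hfz] at hodd
  exact absurd hodd (by decide)

/-- Involutions commuting with a rotation that fixes two blocks. -/
theorem invol_rot {u : G} (hu : Commute u K.z) (hu2 : u * u = 1) {p : ℕ} (hp : p % 3 ≠ 0)
    (h : Commute u (K.a ^ p) ∨ Commute u (K.b ^ p)) : u = 1 ∨ u = K.z := by
  have key : ∀ {q : G}, q ^ 3 = 1 → Commute u (q ^ p) → Commute u q := by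
    intro q hq hc
    rw [pow_eq_pow_mod p hq] at hc
    have : p % 3 = 1 ∨ p % 3 = 2 := by omega
    rcases this with e | e <;> rw [e] at hc
    · rwa [pow_one] at hc
    · have := hc.pow_right 2
      rwa [← pow_mul, show (2 * 2 : ℕ) = 3 + 1 from rfl, pow_succ, hq, one_mul] at this
  have main : ∀ {q r : G}, Commute r K.z → r * q * r⁻¹ = K.c → Commute u q → u = 1 ∨ u = K.z := by
    intro q r hr hrq hc
    have h1 : Commute (r * u * r⁻¹) K.c := by
      have := hc.map (MulAut.conj r).toMonoidHom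
      simp only [MulEquiv.coe_toMonoidHom, MulAut.conj_apply, hrq] at this
      exact this
    rcases K.invol_c (K.toDAlt.comm_conj hr hu) h1 (by
      rw [show r * u * r⁻¹ * (r * u * r⁻¹) = r * (u * u) * r⁻¹ by group, hu2, mul_one, mul_inv_cancel]) with e | e
    · exact Or.inl (conj_eq_one_iff.1 e)
    · refine Or.inr ?_
      rw [show u = r⁻¹ * (r * u * r⁻¹) * r by group, e, hr.inv_left.eq, inv_mul_cancel_right]
  rcases h with h | h
  · exact main K.tz.inv_left (by rw [← K.t_c]; group) (key K.a3 h)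
  · exact main K.tz K.t_b (key K.b3 h)

/-- The remaining classes of the element cycling the four-group. -/
theorem no_other_class (hU : K.U = ⊥) {d : G} (hd : Commute d K.h) (hgh : Commute g K.h)
    (hg3 : g ^ 3 = 1) (hg : K.Cyc g) {i j k : ℕ} (hi : i < 3) (hj : j < 3) (hk : k < 3)
    (hij : (i + j) % 3 = 0) (hcase : (k = 0 ∧ i ≠ 0) ∨ (i = 0 ∧ k ≠ 0))
    (hy : d * g * d⁻¹ = K.a ^ i * K.b ^ j * K.c ^ k) : False := by
  classical
  haveI : Fact (Nat.Prime 2) := ⟨Nat.prime_two⟩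
  haveI : Fact (Nat.Prime 3) := ⟨Nat.prime_three⟩
  have hRh : ∀ u ∈ K.R, K.h * u * K.h⁻¹ ∈ K.R := fun u hu =>
    (Subgroup.mem_normalizer_iff.1 (K.R_invariant (g := K.h) fun v hv => by
      rw [(K.V_comm hv).2.2.eq, mul_inv_cancel_right]; exact hv) u).1 hu
  have hRg : ∀ u ∈ K.R, g * u * g⁻¹ ∈ K.R := fun u hu =>
    (Subgroup.mem_normalizer_iff.1 (K.R_invariant (Cyc.map_V K hg)) u).1 hu
  -- the only fixed point of `g h ^ r` is trivial
  have hfree : ∀ r, r < 3 → r ≠ 0 → ∀ u ∈ K.R, Commute u (g * K.h ^ r) → u = 1 := by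
    intro r hr hr0
    set q := g * K.h ^ r with hq
    set T := K.R ⊓ Subgroup.centralizer {q} with hT
    suffices hbot : T = ⊥ by
      intro u hu hc
      exact (Subgroup.eq_bot_iff_forall _).1 hbot u ⟨hu, Subgroup.mem_centralizer_singleton_iff.2 hc.eq⟩
    by_contra hne
    have hTp : IsPGroup 2 T := K.R_two.to_le inf_le_left
    haveI : Nontrivial T := (Subgroup.nontrivial_iff_ne_bot T).2 hne
    haveI := hTp.center_nontrivial
    obtain ⟨w, hw⟩ := exists_prime_orderOf_dvd_card' (G := Subgroup.center T) 2 (by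
      obtain ⟨n, hn⟩ := (hTp.to_subgroup (Subgroup.center T)).exists_card_eq
      have : 1 < Nat.card (Subgroup.center T) := Finite.one_lt_card
      rcases Nat.eq_zero_or_pos n with rfl | hn0
      · simp [hn] at this
      · exact hn ▸ dvd_pow_self 2 hn0.ne')
    set u : G := ((w : T) : G) with hu
    have hu2 : u * u = 1 := by
      have h : w ^ 2 = 1 := by rw [← hw]; exact pow_orderOf_eq_one w
      rw [pow_two] at h
      exact congrArg (fun v : Subgroup.center T => ((v : T) : G)) h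
    have hu1 : u ≠ 1 := fun e => by
      rw [show w = 1 from Subtype.ext (Subtype.ext e), orderOf_one] at hw
      omega
    have huT : u ∈ T := (w : T).2
    have huq : Commute u q := Subgroup.mem_centralizer_singleton_iff.1 huT.2
    have hqh : Commute K.h q := hgh.symm.mul_right ((Commute.refl _).pow_right r)
    set u' := K.h * u * K.h⁻¹ with hu'
    have hu'T : u' ∈ T := by
      refine ⟨hRh u huT.1, Subgroup.mem_centralizer_singleton_iff.2 ?_⟩
      have := huq.map (MulAut.conj K.h).toMonoidHom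
      simp only [MulEquiv.coe_toMonoidHom, MulAut.conj_apply] at this
      rw [hqh.eq, mul_inv_cancel_right] at this
      exact this.eq
    have huu' : Commute u' u := congrArg (Subtype.val) (Subgroup.mem_center_iff.1 w.2 ⟨u', hu'T⟩)
    set e := d * q * d⁻¹ with he
    have heA : e = K.a ^ ((i + r) % 3) * K.b ^ ((j + r) % 3) * K.c ^ k := by
      have q1 : Commute (K.a ^ r) (K.b ^ j * K.c ^ k) := (K.ab.pow_pow _ _).mul_right (K.ac.pow_pow _ _)
      have q2 : Commute (K.b ^ r) (K.c ^ k) := K.bc.pow_pow _ _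
      rw [he, hq, show d * (g * K.h ^ r) * d⁻¹ = d * g * d⁻¹ * (d * K.h ^ r * d⁻¹) by group, hy,
        (hd.pow_right _).eq, mul_inv_cancel_right, ← pow_eq_pow_mod _ K.a3, ← pow_eq_pow_mod _ K.b3,
        show K.h = K.a * K.b from rfl, K.ab.mul_pow, pow_add, pow_add]
      calc K.a ^ i * K.b ^ j * K.c ^ k * (K.a ^ r * K.b ^ r)
          = K.a ^ i * ((K.b ^ j * K.c ^ k) * K.a ^ r) * K.b ^ r := by group
        _ = K.a ^ i * K.a ^ r * K.b ^ j * (K.c ^ k * K.b ^ r) := by rw [← q1.eq]; group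
        _ = _ := by rw [← q2.eq, ← mul_assoc]; simp only [mul_assoc]
    have hun : ∀ y ∈ Subgroup.centralizer {e}, Commute y K.z → y * y = 1 → y = 1 ∨ y = K.z := by
      intro y hy hyz hy2
      have hc : Commute y e := Subgroup.mem_centralizer_singleton_iff.1 hy
      rw [heA] at hc
      rcases hcase with ⟨rfl, hi0⟩ | ⟨rfl, hk0⟩
      · rw [pow_zero, mul_one] at hc
        by_cases hir : (i + r) % 3 = 0
        · rw [hir, pow_zero, one_mul] at hc
          exact K.invol_rot hyz hy2 (by omega : (j + r) % 3 % 3 ≠ 0) (Or.inr hc)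
        · have hjr : (j + r) % 3 = 0 := by interval_cases i <;> interval_cases r <;> omega
          rw [hjr, pow_zero, mul_one] at hc
          exact K.invol_rot hyz hy2 (by omega : (i + r) % 3 % 3 ≠ 0) (Or.inl hc)
      · exact K.four_full hyz (by omega) (Nat.mod_lt _ (by norm_num)) (by omega)
          (Nat.mod_lt _ (by norm_num)) (by omega) hk hc (Or.inl hy2)
    have hze : K.z ∈ Subgroup.centralizer {e} := by
      rw [heA, Subgroup.mem_centralizer_singleton_iff]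
      exact (((K.az.pow_left _).mul_left (K.bz.pow_left _)).mul_left (K.cz.pow_left _)).eq.symm
    have tr : ∀ v ∈ T, d * v * d⁻¹ ∈ Subgroup.centralizer {e} := fun v hv => by
      rw [Subgroup.mem_centralizer_singleton_iff, he]
      exact ((show Commute v q from Subgroup.mem_centralizer_singleton_iff.1 hv.2).map
        (MulAut.conj d).toMonoidHom).eq
    have sq : ∀ v : G, v * v = 1 → d * v * d⁻¹ * (d * v * d⁻¹) = 1 := fun v hv => by
      rw [show d * v * d⁻¹ * (d * v * d⁻¹) = d * (v * v) * d⁻¹ by group, hv, mul_one, mul_inv_cancel]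
    have hu'2 : u' * u' = 1 := by
      rw [hu', show K.h * u * K.h⁻¹ * (K.h * u * K.h⁻¹) = K.h * (u * u) * K.h⁻¹ by group, hu2, mul_one,
        mul_inv_cancel]
    have heq := commuting_involutions_eq hze K.sq_z K.z_ne hun (tr u huT) (tr u' hu'T) (sq u hu2) (sq u' hu'2)
      (fun e => hu1 (conj_eq_one_iff.1 e)) (fun e => hu1 (conj_eq_one_iff.1 (conj_eq_one_iff.1 e)))
      (huu'.symm.map (MulAut.conj d).toMonoidHom)
    have huh : Commute K.h u := mul_inv_eq_iff_eq_mul.1 (mul_left_cancel (mul_right_cancel heq)).symm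
    have huV : u ∈ K.V := K.R_cent_h huT.1 huh.symm
    refine hu1 (Cyc.fixed K hg huV ?_)
    have := huq.symm.mul_left ((huh.pow_left r).inv_left)
    rwa [hq, mul_inv_cancel_right] at this
  -- the fixed points of `g`
  set T := K.R ⊓ Subgroup.centralizer {g} with hT
  have memT : ∀ {u : G}, u ∈ T ↔ u ∈ K.R ∧ Commute u g := fun {u} => by
    rw [hT, Subgroup.mem_inf, Subgroup.mem_centralizer_singleton_iff]; rfl
  have hTV : ∀ u ∈ T, u ∈ K.V → u = 1 := fun u hu hv => Cyc.fixed K hg hv (memT.1 hu).2.symm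
  have hT3 : 3 ∣ Nat.card ↥((T : Set G) \ {1}) := by
    have := dvd_card_conj_free (Subgroup.zpowers K.h) ((T : Set G) \ {1})
      (fun e he u hu => ?_) (fun e he u hu hfix => ?_)
    · rwa [Nat.card_zpowers, K.orderOf_h] at this
    · have hN : K.h ∈ Subgroup.normalizer (T : Set G) := by
        refine Solv.mem_normalizer_of_conj_smul ?_
        refine Subgroup.eq_of_le_of_card_ge (fun v hv => ?_) (Solv.card_conj_smul _ _).ge
        rw [Solv.mem_conj_smul] at hv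
        obtain ⟨v1, v2⟩ := memT.1 hv
        rw [show v = K.h * (K.h⁻¹ * v * K.h) * K.h⁻¹ by group]
        refine memT.2 ⟨hRh _ v1, ?_⟩
        have := v2.map (MulAut.conj K.h).toMonoidHom
        simp only [MulEquiv.coe_toMonoidHom, MulAut.conj_apply] at this
        rwa [← hgh.eq, mul_inv_cancel_right] at this
      exact ⟨(Subgroup.mem_normalizer_iff.1 (Subgroup.zpowers_le.2 hN he) u).1 hu.1,
        fun e1 => hu.2 (conj_eq_one_iff.1 e1)⟩
    · obtain ⟨z', rfl⟩ := he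
      by_contra hne
      have hh : Commute K.h u := by
        have hc : Commute (K.h ^ z') u := mul_inv_eq_iff_eq_mul.1 hfix
        have hgen : Subgroup.zpowers (K.h ^ z') = Subgroup.zpowers K.h := by
          refine Subgroup.eq_of_le_of_card_ge (Subgroup.zpowers_le.2 ⟨z', rfl⟩) ?_
          rw [Nat.card_zpowers, Nat.card_zpowers]
          have hd' : orderOf (K.h ^ z') ∣ orderOf K.h := by
            rw [← Nat.card_zpowers K.h]
            exact Subgroup.orderOf_dvd_natCard _ ⟨z', rfl⟩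
          rw [K.orderOf_h] at hd' ⊢
          rcases (Nat.dvd_prime Nat.prime_three).1 hd' with h1 | h1
          · exact absurd (orderOf_eq_one_iff.1 h1) hne
          · exact h1.ge
        obtain ⟨n, hn⟩ : K.h ∈ Subgroup.zpowers (K.h ^ z') := hgen ▸ Subgroup.mem_zpowers _
        exact hn ▸ hc.zpow_left n
      exact hu.2 (hTV u hu.1 (K.R_cent_h (memT.1 hu.1).1 hh.symm))
  obtain ⟨n, hn⟩ := IsPGroup.iff_card.1 (K.R_two.to_le (inf_le_left : T ≤ K.R))
  have hT1 : Nat.card ↥((T : Set G) \ {1}) = 2 ^ n - 1 := by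
    rw [Nat.card_coe_set_eq, Set.ncard_sdiff (by simp [one_mem]), Set.ncard_singleton, ← hn]
    rfl
  rw [hT1] at hT3
  have hVR : ∀ v ∈ K.V, ∀ u ∈ T, v * u ∈ K.R := fun v hv u hu => mul_mem (K.V_le_R hv) (memT.1 hu).1
  let φ : K.V × T → K.R := fun p => ⟨(p.1 : G) * (p.2 : G), hVR p.1 p.1.2 p.2 p.2.2⟩
  have hφ : Function.Injective φ := by
    rintro ⟨v, u⟩ ⟨v', u'⟩ e
    have e' : (v : G) * u = v' * u' := congrArg Subtype.val e
    have h1 : (v' : G)⁻¹ * v = (u' : G) * (u : G)⁻¹ := by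
      rw [eq_mul_inv_iff_mul_eq, mul_assoc, e', inv_mul_cancel_left]
    have h2 := hTV _ (mul_mem u'.2 (inv_mem u.2)) (h1 ▸ mul_mem (inv_mem v'.2) v.2)
    have hvv : (v' : G) = v := inv_mul_eq_one.1 (h1.trans h2)
    exact Prod.ext (Subtype.ext hvv.symm) (Subtype.ext (mul_inv_eq_one.1 h2).symm)
  have hle := Nat.card_le_card_of_injective φ hφ
  rw [Nat.card_prod, K.V_card, hn, K.card_R] at hle
  have hn4 : n ≤ 4 := by
    by_contra h
    have := Nat.pow_le_pow_right (n := 2) (by norm_num) (show 5 ≤ n by omega)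
    omega
  have hn16 : n ≠ 4 := by
    rintro rfl
    have hsurj := (Nat.bijective_iff_injective_and_card φ).2 ⟨hφ, by
      rw [Nat.card_prod, K.V_card, hn, K.card_R]; norm_num⟩
    obtain ⟨⟨v1, t1⟩, h1⟩ := hsurj.2 ⟨K.q1, K.q1_mem_R⟩
    obtain ⟨⟨v2, t2⟩, h2⟩ := hsurj.2 ⟨K.q2, K.q2_mem_R⟩
    have h1' : (v1 : G) * t1 = K.q1 := congrArg Subtype.val h1
    have h2' : (v2 : G) * t2 = K.q2 := congrArg Subtype.val h2
    have central : ∀ v ∈ K.V, ∀ u ∈ K.R, Commute u v := by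
      intro v hv u hu
      obtain ⟨a1, a2⟩ := K.toDAlt.mem_cent2.1 (K.R_le hu)
      rcases hv with rfl | rfl | rfl | rfl
      exacts [Commute.one_right u, a1, a2, a2.mul_right a1]
    have hV1 : ∀ u ∈ K.R, (v1 : G) * u * (v1 : G)⁻¹ = u := fun u hu => by
      rw [← (central _ v1.2 u hu).eq, mul_inv_cancel_right]
    have t2R := (memT.1 t2.2).1
    have t1R := (memT.1 t1.2).1
    have hz : K.z = (t2 : G)⁻¹ * ((t1 : G) * t2 * (t1 : G)⁻¹) := by
      have h := K.q_anti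
      rw [← h1', ← h2', show (v1 : G) * t1 * ((v2 : G) * t2) * ((v1 : G) * t1)⁻¹ =
        v1 * ((t1 : G) * v2 * (t1 : G)⁻¹ * (t1 * t2 * (t1 : G)⁻¹)) * (v1 : G)⁻¹ by group,
        (central _ v2.2 _ t1R).eq, mul_inv_cancel_right,
        hV1 _ (mul_mem (K.V_le_R v2.2) (mul_mem (mul_mem t1R t2R) (inv_mem t1R))), mul_assoc (v2 : G)] at h
      rw [mul_left_cancel h, inv_mul_cancel_left]
    exact K.z_ne (hTV _ (hz ▸ mul_mem (inv_mem t2.2) (mul_mem (mul_mem t1.2 t2.2) (inv_mem t1.2))) K.z_mem_V)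
  -- nine elements act semiregularly on the rest
  let E : Subgroup G := Subgroup.zpowers K.h ⊔ Subgroup.zpowers g
  have hgV : ∀ s : ℕ, g ^ s ∈ Subgroup.zpowers K.h → g ^ s = 1 := by
    intro s hs
    obtain ⟨n, hn⟩ := hs
    have hc : Commute (g ^ s) K.z := hn ▸ K.hz.zpow_left n
    rw [pow_eq_pow_mod s hg3] at hc ⊢
    have : s % 3 = 0 ∨ s % 3 = 1 ∨ s % 3 = 2 := by omega
    rcases this with e | e | e <;> rw [e] at hc ⊢
    · exact pow_zero g
    · rw [pow_one] at hc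
      exact absurd (Cyc.fixed K hg K.z_mem_V hc) K.z_ne
    · have := hc.pow_left 2
      rw [← pow_mul, show (2 * 2 : ℕ) = 3 + 1 from rfl, pow_succ, hg3, one_mul] at this
      exact absurd (Cyc.fixed K hg K.z_mem_V this) K.z_ne
  let ψ : Fin 3 × Fin 3 → G := fun p => K.h ^ (p.1 : ℕ) * g ^ (p.2 : ℕ)
  have hψmem : ∀ p, ψ p ∈ E := fun p => mul_mem
    (Subgroup.mem_sup_left (pow_mem (Subgroup.mem_zpowers _) _))
    (Subgroup.mem_sup_right (pow_mem (Subgroup.mem_zpowers _) _))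
  have hψall : ∀ e ∈ E, ∃ p, ψ p = e := by
    intro e he
    have hnorm : Subgroup.zpowers g ≤ Subgroup.normalizer (Subgroup.zpowers K.h : Set G) := by
      refine Subgroup.zpowers_le.2 (Subgroup.mem_normalizer_iff.2 fun u => ?_)
      constructor
      · rintro ⟨n, rfl⟩
        exact ⟨n, by simp only; rw [(hgh.zpow_right n).eq, mul_inv_cancel_right]⟩
      · rintro ⟨n, hn⟩
        refine ⟨n, ?_⟩
        simp only at hn ⊢
        rw [show u = g⁻¹ * (g * u * g⁻¹) * g by group, ← hn, (hgh.inv_left.zpow_right n).eq, inv_mul_cancel_right]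
    have he' : e ∈ ((Subgroup.zpowers K.h : Set G) * (Subgroup.zpowers g : Set G)) := by
      rw [← Subgroup.coe_mul_of_right_le_normalizer_left _ _ hnorm]
      exact he
    obtain ⟨a1, ha1, b1, hb1, rfl⟩ := Set.mem_mul.1 he'
    obtain ⟨s1, hs1⟩ := mem_powers_iff_mem_zpowers.mpr ha1
    obtain ⟨s2, hs2⟩ := mem_powers_iff_mem_zpowers.mpr hb1
    refine ⟨(⟨s1 % 3, Nat.mod_lt _ (by norm_num)⟩, ⟨s2 % 3, Nat.mod_lt _ (by norm_num)⟩), ?_⟩
    show K.h ^ (s1 % 3) * g ^ (s2 % 3) = a1 * b1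
    rw [← pow_eq_pow_mod _ K.h3, ← pow_eq_pow_mod _ hg3]
    simp only at hs1 hs2
    rw [hs1, hs2]
  have hE : Nat.card E = 9 := by
    have hinj : Function.Injective ψ := by
      rintro ⟨r, s⟩ ⟨r', s'⟩ e
      simp only [ψ] at e
      have h1 : g ^ ((s : ℕ) + 2 * (s' : ℕ)) ∈ Subgroup.zpowers K.h := by
        have hgs : g ^ (s : ℕ) = (K.h ^ (r : ℕ))⁻¹ * (K.h ^ (r' : ℕ) * g ^ (s' : ℕ)) := by
          rw [← e]; group
        have hcube : g ^ (s' : ℕ) * g ^ (2 * (s' : ℕ)) = 1 := by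
          rw [← pow_add, show (s' : ℕ) + 2 * (s' : ℕ) = 3 * (s' : ℕ) by ring, pow_mul, hg3, one_pow]
        rw [pow_add, hgs, mul_assoc, mul_assoc, hcube, mul_one]
        exact mul_mem (inv_mem (pow_mem (Subgroup.mem_zpowers _) _)) (pow_mem (Subgroup.mem_zpowers _) _)
      have h2 := hgV _ h1
      have hgo : orderOf g = 3 := orderOf_eq_prime hg3 fun e =>
        K.z_ne (Cyc.fixed K hg K.z_mem_V (by rw [e]; exact Commute.one_left _))
      have h3 := orderOf_dvd_of_pow_eq_one h2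
      rw [hgo] at h3
      have hs : s = s' := Fin.ext (by have := s.isLt; have := s'.isLt; omega)
      subst hs
      have h4 := (pow_eq_pow_iff_modEq).1 (mul_right_cancel e)
      rw [K.orderOf_h] at h4
      have : r = r' := Fin.ext (by
        have := r.isLt; have := r'.isLt
        have h4' : (r : ℕ) % 3 = (r' : ℕ) % 3 := h4
        omega)
      rw [this]
    rw [← Nat.card_congr (Equiv.ofBijective (fun p => (⟨ψ p, hψmem p⟩ : E))
      ⟨fun p q e => hinj (congrArg Subtype.val e), fun e => by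
        obtain ⟨p, hp⟩ := hψall e e.2; exact ⟨p, Subtype.ext hp⟩⟩)]
    simp
  set S : Set G := (K.R : Set G) \ ((K.V : Set G) ∪ (T : Set G)) with hS
  have hEN : ∀ e ∈ E, (∀ u, u ∈ K.R ↔ e * u * e⁻¹ ∈ K.R) ∧ (∀ u ∈ K.V, e⁻¹ * u * e ∈ K.V) ∧ Commute e g := by
    intro e he
    obtain ⟨⟨r, s⟩, rfl⟩ := hψall e he
    have hcg : Commute (K.h ^ (r : ℕ) * g ^ (s : ℕ)) g :=
      (hgh.symm.pow_left _).mul_left ((Commute.refl g).pow_left _)
    refine ⟨fun u => ?_, fun u hu => ?_, hcg⟩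
    · have hN : K.h ^ (r : ℕ) * g ^ (s : ℕ) ∈ Subgroup.normalizer (K.R : Set G) := by
        refine mul_mem (pow_mem (K.R_invariant fun v hv => ?_) _) (pow_mem (K.R_invariant (Cyc.map_V K hg)) _)
        rw [(K.V_comm hv).2.2.eq, mul_inv_cancel_right]; exact hv
      exact Subgroup.mem_normalizer_iff.1 hN u
    · have hback : ∀ s : ℕ, ∀ u ∈ K.V, (g ^ s)⁻¹ * u * g ^ s ∈ K.V := by
        intro s
        induction s with
        | zero => intro u hu; simpa using hu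
        | succ s ih =>
          intro u hu
          rw [show (g ^ (s + 1))⁻¹ * u * g ^ (s + 1) = g⁻¹ * ((g ^ s)⁻¹ * u * g ^ s) * g by group]
          exact (Cyc.relation K hg (ih u hu)).1
      show (K.h ^ (r : ℕ) * g ^ (s : ℕ))⁻¹ * u * (K.h ^ (r : ℕ) * g ^ (s : ℕ)) ∈ K.V
      rw [show (K.h ^ (r : ℕ) * g ^ (s : ℕ))⁻¹ * u * (K.h ^ (r : ℕ) * g ^ (s : ℕ)) =
        (g ^ (s : ℕ))⁻¹ * ((K.h ^ (r : ℕ))⁻¹ * u * K.h ^ (r : ℕ)) * g ^ (s : ℕ) by group,
        ((K.V_comm hu).2.2.pow_left _).inv_left.eq, inv_mul_cancel_right]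
      exact hback _ u hu
  have h9 : 9 ∣ Nat.card S := by
    rw [← hE]
    refine dvd_card_conj_free E S (fun e he u hu => ?_) (fun e he u hu hfix => ?_)
    · obtain ⟨hR, hV, hc⟩ := hEN e he
      refine ⟨(hR u).1 hu.1, ?_⟩
      rintro (h | h)
      · refine hu.2 (Or.inl ?_)
        have := hV _ h
        rwa [show e⁻¹ * (e * u * e⁻¹) * e = u by group] at this
      · refine hu.2 (Or.inr (memT.2 ⟨hu.1, ?_⟩))
        have := (memT.1 h).2.map (MulAut.conj e⁻¹).toMonoidHom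
        simp only [MulEquiv.coe_toMonoidHom, MulAut.conj_apply, inv_inv] at this
        rwa [show e⁻¹ * (e * u * e⁻¹) * e = u by group, hc.inv_left.eq, inv_mul_cancel_right] at this
    · obtain ⟨⟨r, s⟩, rfl⟩ := hψall e he
      have hc : Commute (K.h ^ (r : ℕ) * g ^ (s : ℕ)) u := mul_inv_eq_iff_eq_mul.1 hfix
      by_contra hne
      have hgh' : ∀ q, q < 3 → Commute (g * K.h ^ q) u → False := by
        intro q hq hc'
        rcases eq_or_ne q 0 with rfl | hq0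
        · rw [pow_zero, mul_one] at hc'
          exact hu.2 (Or.inr (memT.2 ⟨hu.1, hc'.symm⟩))
        · exact hu.2 (Or.inl (hfree q hq hq0 u hu.1 hc'.symm ▸ one_mem _))
      have hcase : (r : ℕ) = 0 ∧ (s : ℕ) = 0 ∨ ((r : ℕ) ≠ 0 ∧ (s : ℕ) = 0) ∨ (s : ℕ) = 1 ∨ (s : ℕ) = 2 := by
        have := s.isLt; omega
      rcases hcase with ⟨h1, h2⟩ | ⟨h1, h2⟩ | h2 | h2
      · exact hne (by simp [ψ, h1, h2])
      · rw [h2, pow_zero, mul_one] at hc
        have hh : Commute K.h u := by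
          have hr2 : (r : ℕ) = 1 ∨ (r : ℕ) = 2 := by have := r.isLt; omega
          rcases hr2 with e | e <;> rw [e] at hc
          · rwa [pow_one] at hc
          · have := hc.pow_left 2
            rwa [← pow_mul, show (2 * 2 : ℕ) = 3 + 1 from rfl, pow_succ, K.h3, one_mul] at this
        exact hu.2 (Or.inl (K.R_cent_h hu.1 hh.symm))
      · refine hgh' r r.isLt ?_
        rw [h2, pow_one, ← (hgh.pow_right _).eq] at hc
        exact hc
      · refine hgh' (2 * (r : ℕ) % 3) (Nat.mod_lt _ (by norm_num)) ?_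
        rw [h2] at hc
        have h' := hc.pow_left 2
        rw [(((hgh.symm.pow_left _).pow_right 2)).mul_pow, ← pow_mul, ← pow_mul, show (2 * 2 : ℕ) = 3 + 1 from rfl,
          pow_succ g, hg3, one_mul, pow_eq_pow_mod _ K.h3, ← (hgh.pow_right _).eq, mul_comm (r : ℕ)] at h'
        exact h'
  have hScard : Nat.card S = 64 - (4 + (2 ^ n - 1)) := by
    rw [Nat.card_coe_set_eq, hS, Set.ncard_sdiff (Set.union_subset K.V_le_R (inf_le_left : T ≤ K.R))]
    congr 1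
    · rw [← Nat.card_coe_set_eq]; exact K.card_R
    · rw [show (K.V : Set G) ∪ (T : Set G) = (K.V : Set G) ∪ ((T : Set G) \ {1}) by
        ext u
        simp only [Set.mem_union, Set.mem_sdiff, SetLike.mem_coe, Set.mem_singleton_iff]
        constructor
        · rintro (h | h)
          · exact Or.inl h
          · rcases eq_or_ne u 1 with rfl | h1
            · exact Or.inl (one_mem _)
            · exact Or.inr ⟨h, h1⟩
        · rintro (h | ⟨h, -⟩)
          exacts [Or.inl h, Or.inr h],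
        Set.ncard_union_eq (Set.disjoint_left.2 fun u hu hu' => hu'.2 (hTV u hu'.1 hu)),
        ← Nat.card_coe_set_eq, ← Nat.card_coe_set_eq, hT1]
      exact congrArg (· + _) K.V_card
  rw [hScard] at h9
  interval_cases n <;> omega

/-- The group `U` is not trivial. -/
theorem U_ne_bot : K.U ≠ ⊥ := by
  intro hU
  obtain ⟨g, d, i, hi, j, hj, k, hk, hij, hgh, hd, hg3, hg, hy⟩ := K.exists_cyc hU
  by_cases hfull : i ≠ 0 ∧ k ≠ 0
  · exact K.no_full_rotation hU hd hgh hg (by omega) hi (by omega) hj (by omega) hk hij hy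
  refine K.no_other_class hU hd hgh hg3 hg hi hj hk hij ?_ hy
  rcases eq_or_ne i 0 with rfl | hi0
  · refine Or.inr ⟨rfl, fun hk0 => ?_⟩
    obtain rfl : j = 0 := by omega
    subst hk0
    simp only [pow_zero, mul_one] at hy
    rw [conj_eq_one_iff] at hy
    exact K.z_ne (Cyc.fixed K hg K.z_mem_V (hy ▸ Commute.one_left _))
  · exact Or.inl ⟨by by_contra h; exact hfull ⟨hi0, h⟩, hi0⟩

end Ctx

end Cfsg.Agent.Spor.DoubleAlt
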